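import Groth.Agent.Lib.EtTrace21.H1Field
import Groth.Agent.Lib.EtDer.ConstSec
import Groth.Agent.Lib.EtTrace21.Killed
import Mathlib.GroupTheory.PGroup
import Mathlib.GroupTheory.GroupAction.Quotient
import Mathlib.Data.ZMod.Basic
import Mathlib.FieldTheory.SeparableClosure
import Mathlib.FieldTheory.Normal.Closure

/-!
# Sheaves with finite stalk over a field
-/

set_option autoImplicit false
set_option backward.isDefEq.respectTransparency false
set_option backward.isDefEq.respectTransparency.types false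
set_option linter.style.haveILetI false

universe u

open CategoryTheory CategoryTheory.Limits CategoryTheory.Abelian AlgebraicGeometry Opposite
open GrothLib.EtSite GrothLib.EtColim GrothLib.EtTrace21

noncomputable section

namespace GrothLib.GalCd

variable {k Ω : Type u} [Field k] [Field Ω] [IsAlgClosed Ω]
  (ξ : Spec (CommRingCat.of Ω) ⟶ Spec (CommRingCat.of k)) {G Q : EtCoh.Ab (Spec (CommRingCat.of k))}

theorem injective_map_of_surjective {X : Scheme.{u}} (F : EtCoh.Ab X) {W V : X.Etale} (h : W ⟶ V)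
    (hh : Function.Surjective h.left.base) : Function.Injective (F.obj.map h.op) := by
  rw [injective_iff_map_eq_zero]
  intro s hs
  let R : Sieve V :=
    { arrows := fun W' g => F.obj.map g.op s = 0
      downward_closed := by
        intro W' W'' g hg m
        rw [op_comp, Functor.map_comp, ConcreteCategory.comp_apply, hg, map_zero] }
  have hR : R ∈ X.smallEtaleTopology V := (mem_topology_iff _).2 fun x => by
    obtain ⟨w, hw⟩ := hh x
    exact ⟨W, h, w, hs, hw⟩
  refine ((isSheaf_iff_isSheaf_of_type _ _).1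
    ((sheafCompose X.smallEtaleTopology (forget AddCommGrpCat.{u + 1})).obj F).property
    R hR).isSeparatedFor.ext fun W' g (hg : F.obj.map g.op s = 0) => ?_
  change F.obj.map g.op s = F.obj.map g.op 0
  rw [hg, map_zero]

theorem exists_fib_field {W : (Spec (CommRingCat.of k)).Etale} (w : W.left) :
    ∃ t : (Scheme.pointSmallEtale ξ).fiber.obj W, t.left.base (default : Spec (CommRingCat.of Ω)) = w :=
  exists_fib ξ w (Subsingleton.elim (α := PrimeSpectrum k) _ _)

theorem eq_zero_of_germs (W : (Spec (CommRingCat.of k)).Etale) (s : EtCoh.sect G W)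
    (h : ∀ t : (Scheme.pointSmallEtale ξ).fiber.obj W, germ ξ G t s = 0) : s = 0 := by
  let R : Sieve W :=
    { arrows := fun W' g => G.obj.map g.op s = 0
      downward_closed := by
        intro W' W'' g hg m
        rw [op_comp, Functor.map_comp, ConcreteCategory.comp_apply, hg, map_zero] }
  have hR : R ∈ (Spec (CommRingCat.of k)).smallEtaleTopology W := (mem_topology_iff _).2 fun x => by
    obtain ⟨t, ht⟩ := exists_fib_field ξ x
    obtain ⟨V, g, v, hv, hg⟩ := eq_zero_nhd ξ G t s (h t)
    exact ⟨V, g, v, hg, hv.trans ht⟩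
  refine ((isSheaf_iff_isSheaf_of_type _ _).1
    ((sheafCompose _ (forget AddCommGrpCat.{u + 1})).obj G).property
    R hR).isSeparatedFor.ext fun W' g (hg : G.obj.map g.op s = 0) => ?_
  change G.obj.map g.op s = G.obj.map g.op 0
  rw [hg, map_zero]

theorem mono_of_stalk (f : G ⟶ Q) (h : Function.Injective ((EtCoh.stalk ξ).map f)) : Mono f := by
  haveI : Sheaf.IsLocallyInjective f := Sheaf.isLocallyInjective_iff_injective f |>.2 fun W => by
    rw [injective_iff_map_eq_zero]
    intro s hs
    refine eq_zero_of_germs ξ W.unop s fun t => h ?_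
    rw [stalk_map_germ, hs, map_zero, map_zero]
  exact Sheaf.mono_of_isLocallyInjective f

theorem epi_of_stalk (f : G ⟶ Q) (h : Function.Surjective ((EtCoh.stalk ξ).map f)) : Epi f := by
  haveI : Sheaf.IsLocallySurjective f := by
    refine ⟨fun {U} s => ?_⟩
    rw [mem_topology_iff]
    intro x
    obtain ⟨t, ht⟩ := exists_fib_field ξ x
    obtain ⟨p, hp⟩ := h (germ ξ Q t s)
    obtain ⟨V, g, v, hv, z, hz⟩ := exists_nhd_image _ f t s p hp
    exact ⟨V, g, v, ⟨z, hz⟩, hv.trans ht⟩
  exact Sheaf.epi_of_isLocallySurjective f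

theorem surjective_stalk_of_epi (f : G ⟶ Q) [Epi f] : Function.Surjective ((EtCoh.stalk ξ).map f) := by
  haveI : Sheaf.IsLocallySurjective f := (Sheaf.isLocallySurjective_iff_epi' _ f).2 inferInstance
  intro y
  obtain ⟨U, t, s, rfl⟩ := exists_germ ξ Q y
  obtain ⟨⟨V, v⟩, g, ⟨z, hz⟩, hg⟩ : ∃ (p : Σ V, (Scheme.pointSmallEtale ξ).fiber.obj V) (g : p.1 ⟶ U),
      (∃ z, f.hom.app (op p.1) z = Q.obj.map g.op s) ∧ (Scheme.pointSmallEtale ξ).fiber.map g p.2 = t := by
    obtain ⟨V, g, hg, v, hv⟩ := (Scheme.pointSmallEtale ξ).jointly_surjective _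
      (Presheaf.imageSieve_mem (Spec (CommRingCat.of k)).smallEtaleTopology f.hom (U := op U) s) t
    exact ⟨⟨V, v⟩, g, hg, hv⟩
  refine ⟨germ ξ G v z, ?_⟩
  dsimp only at g hz hg
  rw [stalk_map_germ, hz, germ_map, hg]

section Fields

variable {ξ}

/-- A point of an etale scheme factors through a finite separable subextension of the geometric point. -/
theorem exists_field_bound {V : (Spec (CommRingCat.of k)).Etale}
    (t : (Scheme.pointSmallEtale ξ).fiber.obj V) :
    letI : Algebra k Ω := (Spec.preimage ξ).hom.toAlgebra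
    ∃ E : IntermediateField k Ω, FiniteDimensional k E ∧ Algebra.IsSeparable k E ∧
      ∀ (E' : IntermediateField k Ω) [FiniteDimensional k E'] [Algebra.IsSeparable k E'], E ≤ E' →
        ∃ (m : VL k E' ⟶ V) (t' : (Scheme.pointSmallEtale ξ).fiber.obj (VL k E')),
          t'.left = Spec.map (CommRingCat.ofHom (algebraMap E' Ω)) ∧
          (Scheme.pointSmallEtale ξ).fiber.map m t' = t := by
  letI : Algebra k Ω := (Spec.preimage ξ).hom.toAlgebra
  obtain ⟨ι, K, _, _, _, _, e, he⟩ := (GrothLib.EtBasicB.etale_of_field_iff k V.left V.hom).1 V.prop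
  obtain ⟨i, y, hy⟩ := (sigmaOpenCover fun i => Spec (CommRingCat.of (K i))).exists_eq
    (e.inv (t.left (default : PrimeSpectrum Ω)))
  let a : Spec (CommRingCat.of (K i)) ⟶ V.left := Sigma.ι (fun i => Spec (CommRingCat.of (K i))) i ≫ e.hom
  have hrange : Set.range t.left.base ⊆ Set.range a.base := by
    rintro _ ⟨p, rfl⟩
    rw [Subsingleton.elim (α := PrimeSpectrum Ω) p (default : PrimeSpectrum Ω)]
    refine ⟨y, ?_⟩
    change e.hom ((Sigma.ι (fun i => Spec (CommRingCat.of (K i))) i) y) = _
    refine (congrArg e.hom hy).trans ?_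
    rw [← Scheme.Hom.comp_apply, e.inv_hom_id]
    rfl
  haveI : IsOpenImmersion a := inferInstanceAs
    (IsOpenImmersion (Sigma.ι (fun i => Spec (CommRingCat.of (K i))) i ≫ e.hom))
  let l := IsOpenImmersion.lift a t.left hrange
  have hl : l ≫ a = t.left := IsOpenImmersion.lift_fac _ _ hrange
  let φ : K i →ₐ[k] Ω :=
    { (Spec.preimage l).hom with
      commutes' := fun r => by
        have e' : CommRingCat.ofHom (algebraMap k (K i)) ≫ Spec.preimage l = Spec.preimage ξ := by
          apply Spec.map_injective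
          rw [Spec.map_comp, Spec.map_preimage, Spec.map_preimage, ← he i]
          exact (congrArg (l ≫ ·) (Category.assoc _ _ _).symm).trans
            ((Category.assoc _ _ _).symm.trans ((congrArg (· ≫ V.hom) hl).trans (Over.w t)))
        exact congr($e' r) }
  refine ⟨φ.fieldRange, φ.toLinearMap.finiteDimensional_range,
    AlgEquiv.Algebra.isSeparable (AlgEquiv.ofInjectiveField φ), fun E' _ _ hle => ?_⟩
  let j : K i →ₐ[k] E' := φ.codRestrict E'.toSubalgebra fun x => hle ⟨x, rfl⟩
  let m : VL k E' ⟶ V := MorphismProperty.Over.homMk (Spec.map (CommRingCat.ofHom j.toRingHom) ≫ a) (by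
    change (_ ≫ _ ≫ _) ≫ V.hom = Spec.map _
    rw [Category.assoc, Category.assoc, he i, ← Spec.map_comp, ← CommRingCat.ofHom_comp]
    congr 2
    exact j.comp_algebraMap)
  let t' : (Scheme.pointSmallEtale ξ).fiber.obj (VL k E') :=
    Over.homMk (Spec.map (CommRingCat.ofHom (algebraMap E' Ω))) (by
      refine (Spec.map_comp _ _).symm.trans (Eq.trans ?_ (Spec.map_preimage ξ))
      rfl)
  refine ⟨m, t', rfl, Over.OverMorphism.ext ?_⟩
  change Spec.map _ ≫ Spec.map _ ≫ a = t.left
  rw [← Category.assoc, ← Spec.map_comp, ← hl]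
  congr 1
  exact (congrArg Spec.map (CommRingCat.hom_ext (RingHom.ext fun _ => rfl))).trans (Spec.map_preimage l)

variable (ξ)

/-- The germs of sections over an extension exhaust the stalk. -/
def Split (L : Type u) [Field L] [Algebra k L] [FiniteDimensional k L] [Algebra.IsSeparable k L]
    (G : EtCoh.Ab (Spec (CommRingCat.of k))) : Prop :=
  ∀ t : (Scheme.pointSmallEtale ξ).fiber.obj (VL k L), Function.Surjective (germ ξ G t)

variable (L : Type u) [Field L] [Algebra k L] [FiniteDimensional k L] [Algebra.IsSeparable k L]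

omit [IsAlgClosed Ω] in
theorem subsingleton_VL : Subsingleton (VL k L).left := inferInstanceAs (Subsingleton (PrimeSpectrum L))

theorem germ_injective (t : (Scheme.pointSmallEtale ξ).fiber.obj (VL k L)) :
    Function.Injective (germ ξ G t) := by
  rw [injective_iff_map_eq_zero]
  intro s hs
  obtain ⟨V, g, v, -, hg⟩ := eq_zero_nhd ξ G t s hs
  refine injective_map_of_surjective G g (fun x => ⟨v, ?_⟩) (hg.trans (map_zero _).symm)
  exact (subsingleton_VL L).elim _ _

theorem exists_fib_VL : Nonempty ((Scheme.pointSmallEtale ξ).fiber.obj (VL k L)) :=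
  ⟨(exists_fib_field ξ (show ↥(VL k L).left from (default : PrimeSpectrum L))).choose⟩

theorem split_of_epi {L : Type u} [Field L] [Algebra k L] [FiniteDimensional k L] [Algebra.IsSeparable k L]
    (f : G ⟶ Q) [Epi f] (h : Split ξ L G) : Split ξ L Q := fun t y => by
  obtain ⟨x, rfl⟩ := surjective_stalk_of_epi ξ f y
  obtain ⟨s, rfl⟩ := h t x
  exact ⟨f.hom.app (op (VL k L)) s, (stalk_map_germ ξ f t s).symm⟩

/-- A sheaf with finite stalk is split by a finite Galois extension. -/
theorem exists_split (halg : letI : Algebra k Ω := (Spec.preimage ξ).hom.toAlgebra; Algebra.IsAlgebraic k Ω)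
    (hG : Finite ((EtCoh.stalk ξ).obj G)) :
    ∃ (L : Type u) (_ : Field L) (_ : Algebra k L) (_ : FiniteDimensional k L) (_ : IsGalois k L),
      Split ξ L G := by
  letI : Algebra k Ω := (Spec.preimage ξ).hom.toAlgebra
  haveI : Algebra.IsAlgebraic k Ω := halg
  haveI : IsAlgClosure k Ω := ⟨inferInstance, inferInstance⟩
  haveI : Normal k Ω := IsAlgClosure.normal k Ω
  choose V t s hs using fun y => exists_germ ξ G y
  choose E hfd hsep hE using fun y => exists_field_bound (t y)
  haveI := hfd
  haveI := hsep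
  let E₀ : IntermediateField k Ω := ⨆ y, E y
  let L : IntermediateField k Ω := IntermediateField.normalClosure k E₀ Ω
  haveI : FiniteDimensional k E₀ := IntermediateField.finiteDimensional_iSup_of_finite
  haveI : Algebra.IsSeparable k L := by
    have h0 : E₀ ≤ separableClosure k Ω :=
      iSup_le fun y => le_separableClosure k Ω (E y)
    have h1 : L ≤ separableClosure k Ω :=
      (IntermediateField.normalClosure_mono _ _ h0).trans (le_of_eq (separableClosure.normalClosure_eq_self k Ω))
    exact (le_separableClosure_iff k Ω L).1 h1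
  haveI : Algebra.IsAlgebraic k L := inferInstance
  haveI : Normal k L := by
    haveI : Algebra.IsAlgebraic k E₀ := inferInstance
    exact normalClosure.normal k E₀ Ω
  haveI : IsGalois k L := ⟨⟩
  refine ⟨L, inferInstance, inferInstance, inferInstance, inferInstance, fun t₀ y => ?_⟩
  obtain ⟨m, t', ht', hm⟩ := hE y L ((le_iSup E y).trans (IntermediateField.le_normalClosure E₀))
  obtain ⟨σ, hσ⟩ := exists_galMap_fib ξ t₀ t'
  refine ⟨G.obj.map (galMap σ).op (G.obj.map m.op (s y)), ?_⟩
  rw [germ_map, hσ, germ_map, hm, hs]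

end Fields

variable {L : Type u} [Field L] [Algebra k L] [FiniteDimensional k L]

theorem galMap_one [Algebra.IsSeparable k L] : galMap (1 : L ≃ₐ[k] L) = 𝟙 (VL k L) :=
  MorphismProperty.Over.Hom.ext (Spec.map_id _)

/-- A nonzero sheaf killed by `p`, with finite stalk and split by a `p`-extension, contains the constant sheaf. -/
theorem exists_mono_const [IsGalois k L] (p : ℕ) [Fact p.Prime] (hL : IsPGroup p (L ≃ₐ[k] L))
    (hG : p • 𝟙 G = 0) (hfin : Finite ((EtCoh.stalk ξ).obj G)) (h : Split ξ L G)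
    (hne : Nontrivial ((EtCoh.stalk ξ).obj G)) :
    ∃ ι : EtCoh.const (Spec (CommRingCat.of k)) (ZMod p) ⟶ G, Mono ι ∧ ι ≠ 0 := by
  classical
  obtain ⟨t⟩ := exists_fib_VL ξ L
  let M := EtCoh.sect G (VL k L)
  haveI : Finite M := Finite.of_injective _ (germ_injective ξ L t)
  haveI : Nontrivial M := Function.Surjective.nontrivial (h t)
  have hkill : ∀ {W : (Spec (CommRingCat.of k)).Etale} (a : EtCoh.sect G W), p • a = 0 :=
    fun a => GrothLib.EtTrace21.nsmul_sect hG a
  letI : MulAction (L ≃ₐ[k] L) M :=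
    { smul := fun σ a => act G σ a
      one_smul := fun a => by
        change G.obj.map (galMap (1 : L ≃ₐ[k] L)).op a = a
        rw [galMap_one, op_id, CategoryTheory.Functor.map_id]; rfl
      mul_smul := fun σ τ a => act_mul σ τ a }
  have hdvd : p ∣ Nat.card M := by
    obtain ⟨a, ha⟩ := exists_ne (0 : M)
    have := addOrderOf_dvd_natCard a
    rwa [addOrderOf_eq_prime (hkill a) ha] at this
  obtain ⟨a, ha, hane⟩ := hL.exists_fixed_point_of_prime_dvd_card_of_fixed_point M hdvd
    (a := (0 : M)) (fun σ => map_zero (act G σ))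
  obtain ⟨s₀, hs₀⟩ := exists_descend a fun σ => ha σ
  let φ : ZMod p →+ EtCoh.sect G (EtCoh.top (Spec (CommRingCat.of k))) :=
    ZMod.lift p ⟨zmultiplesHom _ s₀, by
      change (p : ℤ) • s₀ = 0
      rw [natCast_zsmul]; exact hkill s₀⟩
  have hφ : ∀ n : ZMod p, φ n = n.val • s₀ := fun n => by
    conv_lhs => rw [← ZMod.natCast_zmod_val n, ← Int.cast_natCast]
    exact (ZMod.lift_coe p _ _).trans (natCast_zsmul s₀ _)
  let g₀ : AddCommGrpCat.of (ULift.{u + 1} (ZMod p)) ⟶ (EtCore.gsec (Spec (CommRingCat.of k))).obj G :=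
    AddCommGrpCat.ofHom (φ.comp AddEquiv.ulift.toAddMonoidHom)
  let ι : EtCoh.const (Spec (CommRingCat.of k)) (ZMod p) ⟶ G :=
    ((EtCore.constAdj (Spec (CommRingCat.of k))).homEquiv _ _).symm g₀
  obtain ⟨t₁⟩ : Nonempty ((Scheme.pointSmallEtale ξ).fiber.obj (EtCoh.top (Spec (CommRingCat.of k)))) :=
    ⟨(Scheme.pointSmallEtale ξ).fiber.map (toTop k L) t⟩
  have hs0ne : germ ξ G ((Scheme.pointSmallEtale ξ).fiber.map (toTop k L) t) s₀ ≠ 0 := by
    rw [← germ_map, hs₀]
    exact fun he => hane (germ_injective ξ L t ((he.trans (map_zero _).symm))).symm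
  let t₀ := (Scheme.pointSmallEtale ξ).fiber.map (toTop k L) t
  have key : ∀ c : ULift.{u + 1} (ZMod p), (EtCoh.stalk ξ).map ι
      (germ ξ _ t₀ (GrothLib.EtDer.cst (AddCommGrpCat.of (ULift.{u + 1} (ZMod p))) _ c)) =
      c.down.val • germ ξ G t₀ s₀ := fun c => by
    rw [stalk_map_germ, ← map_nsmul]
    congr 1
    have e : g₀ c = ι.hom.app (op (EtCoh.top (Spec (CommRingCat.of k))))
        (GrothLib.EtDer.cst (AddCommGrpCat.of (ULift.{u + 1} (ZMod p))) _ c) := by
      rw [← GrothLib.EtDer.cst_top]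
      have e0 : g₀ = (EtCore.constAdj (Spec (CommRingCat.of k))).homEquiv _ _ ι :=
        (Equiv.apply_symm_apply _ _).symm
      rw [e0, Adjunction.homEquiv_unit]
      rfl
    refine e.symm.trans ?_
    exact hφ c.down
  refine ⟨ι, mono_of_stalk ξ ι ?_, fun h0 => hs0ne ?_⟩
  · rw [injective_iff_map_eq_zero]
    intro y hy
    obtain ⟨⟨c⟩, rfl⟩ : ∃ c, germ ξ _ t₀ (GrothLib.EtDer.cst (AddCommGrpCat.of (ULift.{u + 1} (ZMod p))) _ c) = y := by
      obtain ⟨c, hc⟩ := (GrothLib.LocConst.bijective_germ_const ξ _).2 y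
      refine ⟨c, Eq.trans ?_ hc⟩
      have ht : t₀ = GrothLib.LocConst.topFib ξ := by
        refine Over.OverMorphism.ext ?_
        have e : ∀ r : (Scheme.pointSmallEtale ξ).fiber.obj (EtCoh.top (Spec (CommRingCat.of k))), r.left = ξ :=
          fun r => (Category.comp_id r.left).symm.trans (Over.w r)
        exact (e t₀).trans (e _).symm
      rw [← GrothLib.EtDer.cst_top, ht]
      rfl
    rw [key] at hy
    have hord : addOrderOf (germ ξ G t₀ s₀) = p :=
      addOrderOf_eq_prime (by rw [← map_nsmul, hkill, map_zero]) hs0ne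
    have := addOrderOf_dvd_of_nsmul_eq_zero hy
    rw [hord] at this
    have hc : c.val = 0 := Nat.eq_zero_of_dvd_of_lt this (ZMod.val_lt c)
    rw [show c = 0 from (ZMod.val_eq_zero c).1 hc]
    exact (congrArg _ (map_zero _)).trans (map_zero _)
  · have := key ⟨1⟩
    rw [ZMod.val_one, one_smul, h0] at this
    rw [← this]
    exact congr($((EtCoh.stalk ξ).map_zero _ _) _)

/-- Vanishing for the constant sheaf propagates to sheaves killed by `p` split by a `p`-extension. -/
theorem subsingleton_H_of_split [IsGalois k L] (p : ℕ) [Fact p.Prime] (hL : IsPGroup p (L ≃ₐ[k] L)) (r : ℕ)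
    (hc : Subsingleton (EtCoh.H (Spec (CommRingCat.of k)) (EtCoh.const (Spec (CommRingCat.of k)) (ZMod p)) r)) :
    ∀ (N : ℕ) (G : EtCoh.Ab (Spec (CommRingCat.of k))), Nat.card ((EtCoh.stalk ξ).obj G) = N →
      p • 𝟙 G = 0 → Finite ((EtCoh.stalk ξ).obj G) → Split ξ L G →
      Subsingleton (EtCoh.H (Spec (CommRingCat.of k)) G r) := by
  intro N
  induction N using Nat.strong_induction_on with
  | _ N ih =>
    intro G hN hG hfin hsp
    suffices hx : ∀ x : EtCoh.H (Spec (CommRingCat.of k)) G r, x = 0 from ⟨fun a b => (hx a).trans (hx b).symm⟩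
    intro x
    rcases subsingleton_or_nontrivial ((EtCoh.stalk ξ).obj G) with hss | hne
    · have : 𝟙 G = 0 := by
        haveI : Mono (0 : G ⟶ G) := mono_of_stalk ξ _ fun a b _ => Subsingleton.elim a b
        exact (cancel_mono (0 : G ⟶ G)).1 (comp_zero.trans comp_zero.symm)
      rw [← Ext.comp_mk₀_id x, this]
      simp
    · obtain ⟨ι, hι, hι0⟩ := exists_mono_const ξ p hL hG hfin hsp hne
      let T := ShortComplex.mk ι (cokernel.π ι) (cokernel.condition ι)
      have hT : T.ShortExact := { exact := T.exact_of_g_is_cokernel (cokernelIsCokernel _) }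
      have hsurj := surjective_stalk_of_epi ξ (cokernel.π ι)
      haveI : Finite ((EtCoh.stalk ξ).obj (cokernel ι)) := Finite.of_surjective _ hsurj
      have hlt : Nat.card ((EtCoh.stalk ξ).obj (cokernel ι)) < N := by
        rw [← hN]
        refine lt_of_le_of_ne (Nat.card_le_card_of_surjective _ hsurj) fun he => hι0 ?_
        haveI : Mono (cokernel.π ι) :=
          mono_of_stalk ξ _ ((Nat.bijective_iff_surjective_and_card _).2 ⟨hsurj, he.symm⟩).1
        exact (cancel_mono (cokernel.π ι)).1 ((cokernel.condition ι).trans zero_comp.symm)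
      have hQ : p • 𝟙 (cokernel ι) = 0 := by
        rw [← cancel_epi (cokernel.π ι), Preadditive.comp_nsmul, Category.comp_id, comp_zero,
          ← Category.id_comp (cokernel.π ι), ← Preadditive.nsmul_comp, hG, zero_comp]
      have hy := (ih _ hlt _ rfl hQ inferInstance (split_of_epi ξ (cokernel.π ι) hsp)).elim
        (x.comp (Ext.mk₀ T.g) (add_zero r)) 0
      obtain ⟨w, hw⟩ := Ext.covariant_sequence_exact₂ _ hT x hy
      rw [← hw, hc.elim w 0, Ext.zero_comp]

end GrothLib.GalCd
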