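import Groth.Agent.Lib.GalCd.BrNorm
import Groth.Agent.Lib.CiField.Transcendental
import Groth.Agent.S0212
import Mathlib.RingTheory.Norm.Transitivity
import Mathlib.LinearAlgebra.FreeModule.Norm
import Mathlib.Algebra.Module.Equiv.Basic
import Mathlib.LinearAlgebra.Matrix.Determinant.Basic

/-!
# `H²(-, 𝔾ₘ)` of quasi-algebraically closed fields
-/

set_option autoImplicit false
set_option backward.isDefEq.respectTransparency false
set_option backward.isDefEq.respectTransparency.types false

universe u

open CategoryTheory CategoryTheory.Limits AlgebraicGeometry Opposite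
open GrothLib.EtTrace21

noncomputable section

namespace GrothLib.GalCd

/-- In a `C₁` field norms of finite extensions are surjective. -/
theorem norm_surjective_of_isCi_one {E M : Type u} [Field E] [Field M] [Algebra E M] [FiniteDimensional E M]
    (hE : Curves.IsCi E 1) (x : E) (hx : x ≠ 0) : ∃ y : M, Algebra.norm E y = x := by
  classical
  let n := Module.finrank E M
  have hn : 0 < n := Module.finrank_pos
  let b := Module.finBasis E M
  let A : Matrix (Fin n) (Fin n) (MvPolynomial (Fin (n + 1)) E) :=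
    ∑ i : Fin n, (MvPolynomial.X (R := E) (Fin.castSucc i)) • (Algebra.leftMulMatrix b (b i)).map (fun r => (MvPolynomial.C r : MvPolynomial (Fin (n + 1)) E))
  let f : MvPolynomial (Fin (n + 1)) E := A.det - MvPolynomial.C x * MvPolynomial.X (Fin.last n) ^ n
  have hA : ∀ i j, (A i j).IsHomogeneous 1 := fun i j => by
    simp only [A, Matrix.sum_apply, Matrix.smul_apply, Matrix.map_apply, smul_eq_mul]
    refine MvPolynomial.IsHomogeneous.sum _ _ _ fun l _ => ?_
    rw [mul_comm]
    exact (MvPolynomial.isHomogeneous_X E _).C_mul _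
  have hf : f.IsHomogeneous n := by
    refine MvPolynomial.IsHomogeneous.sub ?_ ?_
    · rw [Matrix.det_apply]
      refine MvPolynomial.IsHomogeneous.sum _ _ _ fun σ _ => ?_
      have h := MvPolynomial.IsHomogeneous.prod Finset.univ (fun i => A (σ i) i) (fun _ => 1) fun i _ => hA _ _
      simp only [Finset.sum_const, Finset.card_univ, Fintype.card_fin, smul_eq_mul, mul_one] at h
      rcases Int.units_eq_one_or (Equiv.Perm.sign σ) with hs | hs <;> rw [hs]
      · rwa [one_smul]
      · rw [Units.neg_smul, one_smul]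
        exact h.neg
    · exact (MvPolynomial.isHomogeneous_X_pow _ n).C_mul x
  obtain ⟨a, ha, hz⟩ := hE 1 (n + 1) (fun _ => f) (fun _ => n) (fun _ => hf) (fun _ => hn) (by simp)
  have h0 := hz 0
  let y : M := ∑ i : Fin n, a (Fin.castSucc i) • b i
  have hev : MvPolynomial.eval a A.det = Algebra.norm E y := by
    rw [Algebra.norm_eq_matrix_det b, RingHom.map_det]
    congr 1
    ext i j
    simp [A, y, Matrix.sum_apply]
  rw [map_sub, map_mul, map_pow, MvPolynomial.eval_C, MvPolynomial.eval_X, hev, sub_eq_zero] at h0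
  by_cases hl : a (Fin.last n) = 0
  · exfalso
    rw [hl, zero_pow hn.ne', mul_zero, Algebra.norm_eq_zero_iff] at h0
    refine ha (funext fun i => ?_)
    induction i using Fin.lastCases with
    | last => exact hl
    | cast i =>
      have := congrArg (fun v => b.repr v i) h0
      simpa [y, map_sum, Finsupp.single_apply] using this
  · refine ⟨(a (Fin.last n))⁻¹ • y, ?_⟩
    rw [Algebra.smul_def, map_mul, Algebra.norm_algebraMap, h0]
    change _ ^ n * _ = _
    rw [inv_pow, ← mul_assoc, mul_comm _ x, mul_assoc, inv_mul_cancel₀ (pow_ne_zero n hl), mul_one]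

/-- Elements of finite order vanish once elements of prime order do. -/
theorem eq_zero_of_isOfFinAddOrder {A : Type*} [AddCommGroup A]
    (h : ∀ p : ℕ, p.Prime → ∀ x : A, p • x = 0 → x = 0) (x : A) (hx : IsOfFinAddOrder x) : x = 0 := by
  by_contra hne
  obtain ⟨p, hp, hpd⟩ := Nat.exists_prime_and_dvd (mt AddMonoid.addOrderOf_eq_one_iff.1 hne)
  obtain ⟨m, hm⟩ := hpd
  have hm0 : m • x = 0 := h p hp _ (by rw [← mul_nsmul', ← hm, addOrderOf_nsmul_eq_zero])
  have hmpos : 0 < m := Nat.pos_of_ne_zero fun e => by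
    rw [e, mul_zero] at hm
    exact hx.addOrderOf_pos.ne' hm
  have := Nat.le_of_dvd hmpos (addOrderOf_dvd_of_nsmul_eq_zero hm0)
  rw [hm] at this
  have := Nat.mul_lt_mul_of_pos_right hp.one_lt hmpos
  omega

theorem normSurj_of_isCi_one {K : Type u} [Field K] (hK : Curves.IsCi K 1) (p : ℕ) : NormSurj p K :=
  fun _ _ _ _ _ _ _ _ _ _ x hx => norm_surjective_of_isCi_one (GrothLib.CiField.isCi_of_isAlgebraic hK) x hx

/-- `H²(-, 𝔾ₘ)` of a `C₁` field vanishes. -/
theorem subsingleton_H2Gm_of_isCi_one (K : Type u) [Field K] (hK : Curves.IsCi K 1) :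
    Subsingleton (EtCoh.H (Spec (CommRingCat.of K)) (EtCoh.Gm (Spec (CommRingCat.of K))) 2) := by
  suffices h : ∀ x : EtCoh.H (Spec (CommRingCat.of K)) (EtCoh.Gm (Spec (CommRingCat.of K))) 2, x = 0 from
    ⟨fun a b => (h a).trans (h b).symm⟩
  intro x
  refine eq_zero_of_isOfFinAddOrder (fun p hp y hy => ?_) x (isOfFinAddOrder_H K _ 1 x)
  haveI : Fact p.Prime := ⟨hp⟩
  exact primary_Br_eq_zero p K (normSurj_of_isCi_one hK p) y 1 (by rwa [pow_one])

/-- `H²(-, 𝔾ₘ)` of a field of transcendence degree at most one over an algebraically closed field vanishes. -/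
theorem subsingleton_H2Gm_of_trdeg_le_one (k K : Type u) [Field k] [IsAlgClosed k] [Field K] [Algebra k K]
    (h : Algebra.trdeg k K ≤ 1) :
    Subsingleton (EtCoh.H (Spec (CommRingCat.of K)) (EtCoh.Gm (Spec (CommRingCat.of K))) 2) := by
  obtain ⟨j, hj⟩ := Cardinal.lt_aleph0.1 (h.trans_lt Cardinal.one_lt_aleph0)
  refine subsingleton_H2Gm_of_isCi_one K ?_
  have hj1 : j ≤ 1 := by rw [hj] at h; exact_mod_cast h
  have hK := Groth.Agent.S0212.result k K j hj
  intro r n f d hfd hd hlt
  refine hK r n f d hfd hd (lt_of_le_of_lt (Finset.sum_le_sum fun ρ _ => ?_) hlt)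
  exact Nat.pow_le_pow_right (hd ρ) hj1

end GrothLib.GalCd
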