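import Groth.Agent.Lib.GalCd.PtSupp
import Groth.Agent.Lib.Unibranch.Points
import Groth.Prelude.Def_EtLim
import Groth.Agent.S0119
import Groth.Prelude.Def_EtGm
import Mathlib.AlgebraicGeometry.ResidueField

/-!
# The multiplicative group near maximal points
-/

set_option autoImplicit false
set_option backward.isDefEq.respectTransparency false
set_option backward.isDefEq.respectTransparency.types false
set_option linter.style.haveILetI false

universe u

open CategoryTheory CategoryTheory.Limits AlgebraicGeometry Opposite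
open GrothLib.EtSite GrothLib.EtTrace21

noncomputable section

namespace GrothLib.GalCd

variable {X : Scheme.{u}}

theorem preimage_default {Ω : Type u} [Field Ω] [IsSepClosed Ω] (ξ : Spec (CommRingCat.of Ω) ⟶ X) {V : X.Etale}
    (t : (Scheme.pointSmallEtale ξ).fiber.obj V) :
    V.hom.base (t.left.base (default : Spec (CommRingCat.of Ω))) = ξ.base (default : Spec (CommRingCat.of Ω)) := by
  have e : t.left ≫ V.hom = ξ := Over.w t
  exact congrArg (fun r => r.base (default : Spec (CommRingCat.of Ω))) e

/-- Every point has a maximal generalisation. -/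
theorem exists_maximal_generization (v : X) : ∃ η : X, η ⤳ v ∧ ∀ y, y ⤳ η → y = η := by
  have hirr := (isIrreducible_irreducibleComponent (x := v))
  obtain ⟨η, hη⟩ := QuasiSober.sober hirr isClosed_irreducibleComponent
  refine ⟨η, hη.specializes mem_irreducibleComponent, fun y hy => ?_⟩
  have h1 : irreducibleComponent v ⊆ closure ({y} : Set X) :=
    hη.def.symm.trans_subset (specializes_iff_closure_subset.1 hy)
  have h2 := eq_irreducibleComponent (isIrreducible_singleton.closure.isPreirreducible) h1
  have h3 : IsGenericPoint y (irreducibleComponent v) := h2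
  exact h3.eq hη

theorem isReduced_of_etale {Y : Scheme.{u}} [IsReduced Y] [IsLocallyNoetherian Y] {W : Scheme.{u}} (f : W ⟶ Y) [Etale f] : IsReduced W := by
  haveI : ∀ w : W, _root_.IsReduced (W.presheaf.stalk w) := fun w =>
    (Groth.Agent.S0119.result f w).2 inferInstance
  exact isReduced_of_isReduced_stalk _

/-- A unit on a reduced etale scheme restricting to one over every maximal point is one. -/
theorem eq_one_of_forall_max [IsReduced X] [IsLocallyNoetherian X] (V : X.Etale) (a : Γ(V.left, ⊤))
    (h : ∀ x : X, (∀ y, y ⤳ x → y = x) → (pullback.fst V.hom (X.fromSpecResidueField x)).appTop.hom a = 1) :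
    a = 1 := by
  let f : V.left ⟶ X := V.hom
  haveI : Etale f := V.prop
  haveI := isReduced_of_etale f
  rw [← sub_eq_zero]
  refine (basicOpen_eq_bot_iff _).1 (le_bot_iff.1 fun w hw => ?_)
  obtain ⟨w₀, hw₀, hmax⟩ := exists_maximal_generization w
  have hw₀' : w₀ ∈ V.left.basicOpen (a - 1) := hw₀.mem_open (V.left.basicOpen (a - 1)).2 hw
  have hx := GrothLib.Unibranch.maximal_map f (Flat.generalizingMap f) w₀ hmax
  obtain ⟨p, hp, -⟩ := Scheme.Pullback.exists_preimage_pullback (f := V.hom) (g := X.fromSpecResidueField (f.base w₀)) w₀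
    (default : Spec (X.residueField (f.base w₀))) (Scheme.fromSpecResidueField_apply (f.base w₀) _).symm
  have h1 : p ∈ (pullback.fst V.hom (X.fromSpecResidueField (f.base w₀))) ⁻¹ᵁ V.left.basicOpen (a - 1) := by
    change (pullback.fst V.hom (X.fromSpecResidueField (f.base w₀))).base p ∈ V.left.basicOpen (a - 1)
    rw [hp]
    exact hw₀'
  replace h1 := (Scheme.preimage_basicOpen_top (pullback.fst V.hom (X.fromSpecResidueField (f.base w₀))) _).le h1
  rw [map_sub, map_one] at h1
  erw [h _ hx, sub_self] at h1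
  rw [Scheme.basicOpen_zero] at h1
  exact h1

variable [IsLocallyNoetherian X]

/-- The maximal points. -/
abbrev MaxPts (X : Scheme.{u}) : Type u := {x : X // ∀ y, y ⤳ x → y = x}

theorem finite_maximal {W : Scheme.{u}} [IsNoetherian W] : Set.Finite {z : W | ∀ y, y ⤳ z → y = z} := by
  refine Set.Finite.of_finite_image (f := fun z => closure ({z} : Set W))
    ((finite_irreducibleComponents_of_isNoetherian (X := W)).subset ?_) ?_
  · rintro _ ⟨z, hz, rfl⟩
    obtain ⟨η, hη⟩ := QuasiSober.sober (isIrreducible_irreducibleComponent (x := z)) isClosed_irreducibleComponent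
    have e : η = z := hz η (hη.specializes mem_irreducibleComponent)
    subst e
    change closure {η} ∈ irreducibleComponents W
    rw [hη.def]
    exact irreducibleComponent_mem_irreducibleComponents η
  · intro a _ b _ hab
    exact IsGenericPoint.eq (S := closure ({a} : Set W)) rfl hab.symm

instance {X : Scheme.{u}} [AlgebraicGeometry.IsNoetherian X] : Finite (MaxPts X) := (finite_maximal (W := X)).to_subtype

variable (x : X)

/-- The evaluation point of an etale scheme at a point of it over `x`. -/
def fibrePt (V : X.Etale) (v : V.left) (hv : V.hom.base v = x) :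
    Spec (V.left.residueField v) ⟶ ((EtCoh.bc (X.fromSpecResidueField x)).obj V).left :=
  pullback.lift (V.left.fromSpecResidueField v)
    (Spec.map ((X.residueFieldCongr hv).inv ≫ V.hom.residueFieldMap v)) (by
      subst hv
      simp [Scheme.residueFieldCongr_refl, Scheme.Hom.SpecMap_residueFieldMap_fromSpecResidueField])

/-- Near a maximal point every unit of the fibre lifts. -/
theorem surjective_stalk_GmPush [IsReduced X] (hx : ∀ y, y ⤳ x → y = x) {Ω : Type u} [Field Ω] [IsSepClosed Ω]
    (ξ : Spec (CommRingCat.of Ω) ⟶ X) (hξ : ξ.base (default : Spec (CommRingCat.of Ω)) = x) :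
    Function.Surjective ((EtCoh.stalk ξ).map (EtLim.GmPush (X.fromSpecResidueField x))) := by
  intro y
  obtain ⟨V, t, s, rfl⟩ := exists_germ ξ _ y
  let v := t.left.base (default : Spec (CommRingCat.of Ω))
  have hvx : V.hom.base v = x := (preimage_default ξ t).trans hξ
  obtain ⟨_, ⟨A, hA, rfl⟩, hvA, -⟩ := V.left.isBasis_affineOpens.exists_subset_of_mem_open
    (Set.mem_univ v) isOpen_univ
  let A₀ : V.left.Opens := A
  let f : V.left ⟶ X := V.hom
  haveI : Etale f := V.prop
  haveI : IsAffine A₀.toScheme := hA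
  haveI : IsNoetherian A₀.toScheme := by
    haveI : IsLocallyNoetherian A₀.toScheme := LocallyOfFiniteType.isLocallyNoetherian (A₀.ι ≫ f)
    exact {}
  let fib : Set A₀.toScheme := {z | f.base z.1 = x ∧ z.1 ≠ v}
  have hfib : fib.Finite := by
    refine (finite_maximal (W := A₀.toScheme)).subset fun z hz y hy => ?_
    haveI : LocallyQuasiFinite (A₀.ι ≫ f) := GrothLib.EtBasicB.locallyQuasiFinite_of_unramified _
    refine GrothLib.Unibranch.maximal_of_locallyQuasiFinite (A₀.ι ≫ f) z (fun w hw => ?_) y hy
    have e : (A₀.ι ≫ f).base z = x := hz.1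
    rw [e] at hw ⊢
    exact hx w hw
  have hclosed : IsClosed (⋃ z ∈ fib, closure ({z.1} : Set V.left)) :=
    hfib.isClosed_biUnion fun z _ => isClosed_closure
  let O₁ : V.left.Opens := A₀ ⊓ ⟨_, hclosed.isOpen_compl⟩
  have hvO : v ∈ O₁ := ⟨hvA, fun h => by
    obtain ⟨z, hz, hzv⟩ := Set.mem_iUnion₂.1 h
    haveI : LocallyQuasiFinite f := GrothLib.EtBasicB.locallyQuasiFinite_of_unramified f
    exact hz.2 (GrothLib.EtFibre.eq_of_specializes_of_discrete f z.1 v (specializes_iff_mem_closure.2 hzv)
      (hz.1.trans hvx.symm))⟩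
  have hsing : ∀ z ∈ O₁, f.base z = x → z = v := fun z hz hzx => by
    by_contra hne
    exact hz.2 (Set.mem_iUnion₂.2 ⟨⟨z, hz.1⟩, ⟨hzx, hne⟩, subset_closure rfl⟩)
  -- the value at `v`
  let s₀ : (Γ(((EtCoh.bc (X.fromSpecResidueField x)).obj V).left, ⊤) : Type u)ˣ :=
    Additive.toMul (ULift.down (show ULift.{u + 1} (Additive
      (Γ(((EtCoh.bc (X.fromSpecResidueField x)).obj V).left, ⊤) : Type u)ˣ) from s))
  let c : V.left.residueField v :=
    (Scheme.ΓSpecIso (V.left.residueField v)).hom.hom ((fibrePt x V v hvx).appTop.hom s₀)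
  have hc : IsUnit c := (s₀.isUnit.map _).map _
  obtain ⟨r, hr⟩ := V.left.residue_surjective v c
  obtain ⟨O₂, hvO₂, b₀, hb₀⟩ := V.left.presheaf.exists_germ_eq r
  have hru : IsUnit r := by
    by_contra hn
    refine hc.ne_zero (hr ▸ ?_)
    exact (IsLocalRing.residue_eq_zero_iff r).2 ((IsLocalRing.mem_maximalIdeal r).2 hn)
  obtain ⟨O₃, i₃, hvO₃, hu₃⟩ := V.left.toRingedSpace.isUnit_res_of_isUnit_germ O₂ b₀ v hvO₂ (hb₀ ▸ hru)
  let O : V.left.Opens := O₁ ⊓ O₃
  let V' := opensObj V O
  let g : V' ⟶ V := opensHom V O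
  obtain ⟨t', ht', ht'v⟩ := GrothLib.EtBasicB.exists_fib_lift ξ g t (⟨v, hvO, hvO₃⟩ : O) rfl
  let b : Γ(O.toScheme, ⊤) := O.topIso.inv.hom (V.left.presheaf.map (homOfLE inf_le_right ≫ i₃).op b₀)
  have hb : IsUnit b := by
    refine IsUnit.map _ ?_
    rw [op_comp, Functor.map_comp, ConcreteCategory.comp_apply]
    exact hu₃.map _
  let w : EtCoh.sect (EtCoh.Gm X) V' :=
    (ULift.up (Additive.ofMul hb.unit) : ULift.{u + 1} (Additive (Γ(O.toScheme, ⊤) : Type u)ˣ))
  refine ⟨germ ξ _ t' w, ?_⟩
  rw [stalk_map_germ, ← ht', ← germ_map]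
  refine congrArg _ ?_
  -- comparison in the ring of the one point fibre
  let W := ((EtCoh.bc (X.fromSpecResidueField x)).obj V').left
  let q : W ⟶ O.toScheme := pullback.fst V'.hom (X.fromSpecResidueField x)
  let sn : W ⟶ Spec (X.residueField x) := pullback.snd V'.hom (X.fromSpecResidueField x)
  haveI : Subsingleton W := ⟨fun a a' => by
    have hpt : ∀ a : W, (q.base a).1 = v := fun a => by
      refine hsing _ (q.base a).2.1 ?_
      have e : q ≫ O.ι ≫ f = sn ≫ X.fromSpecResidueField x := pullback.condition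
      exact (congrArg (fun r => r.base a) e).trans (Scheme.fromSpecResidueField_apply x _)
    haveI : IsPreimmersion (X.fromSpecResidueField x) := by dsimp only [Scheme.fromSpecResidueField]; infer_instance
    haveI : IsPreimmersion q := MorphismProperty.pullback_fst (P := @IsPreimmersion) _ _ inferInstance
    exact q.isEmbedding.injective (Subtype.ext ((hpt a).trans (hpt a').symm))⟩
  let v' : O.toScheme := ⟨v, hvO, hvO₃⟩
  let e' := fibrePt x V' v' hvx
  haveI : Nonempty W := ⟨e'.base (default : Spec (O.toScheme.residueField v'))⟩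
  haveI : IsReduced W := by
    haveI : Etale sn := ((EtCoh.bc (X.fromSpecResidueField x)).obj V').prop
    exact isReduced_of_etale sn
  haveI : IrreducibleSpace W :=
    { isPreirreducible_univ := Set.subsingleton_univ.isPreirreducible, toNonempty := inferInstance }
  haveI : IsIntegral W := (isIntegral_iff_irreducibleSpace_and_isReduced W).2 ⟨inferInstance, inferInstance⟩
  letI := (isField_of_isIntegral_of_subsingleton W).toField
  have hinj : Function.Injective e'.appTop.hom := e'.appTop.hom.injective
  refine ULift.ext _ _ (Additive.toMul.injective (Units.ext (hinj ?_)))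
  change e'.appTop.hom (q.appTop.hom b) =
    e'.appTop.hom (((EtCoh.bc (X.fromSpecResidueField x)).map g).left.appTop.hom s₀.val)
  refine (congr($((Scheme.Hom.comp_appTop e' q).symm) b)).trans (Eq.trans ?_
    (congr($(Scheme.Hom.comp_appTop e' ((EtCoh.bc (X.fromSpecResidueField x)).map g).left) s₀.val)))
  have e1 : e' ≫ q = O.toScheme.fromSpecResidueField v' := pullback.lift_fst _ _ _
  have e2 : e' ≫ ((EtCoh.bc (X.fromSpecResidueField x)).map g).left =
      Spec.map (O.ι.residueFieldMap v') ≫ fibrePt x V v hvx := by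
    refine pullback.hom_ext ?_ ?_
    · rw [Category.assoc, Category.assoc]
      erw [(EtCoh.isPullback_bc_map (X.fromSpecResidueField x) g).w, pullback.lift_fst, pullback.lift_fst_assoc]
      exact (Scheme.Hom.SpecMap_residueFieldMap_fromSpecResidueField O.ι v').symm
    · rw [Category.assoc, Category.assoc]
      erw [MorphismProperty.Over.w ((EtCoh.bc (X.fromSpecResidueField x)).map g), pullback.lift_snd, pullback.lift_snd]
      rw [← Spec.map_comp]
      congr 1
      simp only [Category.assoc]
      congr 1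
      exact Scheme.residueFieldMap_comp O.ι f v'
  refine ((congrArg (fun r : _ ⟶ O.toScheme => r.appTop.hom b) e1).trans (Eq.trans ?_
    (congrArg (fun r : _ ⟶ ((EtCoh.bc (X.fromSpecResidueField x)).obj V).left => r.appTop.hom s₀.val) e2).symm))
  refine Eq.trans ?_ (congr($(Scheme.Hom.comp_appTop (Spec.map (O.ι.residueFieldMap v')) (fibrePt x V v hvx)) s₀.val)).symm
  apply (Scheme.ΓSpecIso (O.toScheme.residueField v')).commRingCatIsoToRingEquiv.injective
  refine Eq.trans ?_ (congr($(Scheme.ΓSpecIso_naturality (O.ι.residueFieldMap v')) _)).symm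
  change (Scheme.ΓSpecIso _).hom.hom ((O.toScheme.fromSpecResidueField v').appTop.hom b) =
    (O.ι.residueFieldMap v').hom c
  rw [← hr]
  refine Eq.trans ?_ (congr($(Scheme.residue_residueFieldMap O.ι v') r)).symm
  rw [Scheme.fromSpecResidueField, Scheme.Hom.comp_appTop, CommRingCat.comp_apply]
  refine (congr($(Scheme.ΓSpecIso_naturality (O.toScheme.residue v')) _)).trans ?_
  refine congrArg (O.toScheme.residue v').hom ?_
  rw [Scheme.fromSpecStalk_appTop]
  simp only [CommRingCat.comp_apply]
  rw [← hb₀]
  refine (congr($((Scheme.ΓSpecIso (O.toScheme.presheaf.stalk v')).inv_hom_id) _)).trans ?_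
  change (O.toScheme.presheaf.germ ⊤ v' trivial).hom b = (O.ι.stalkMap v').hom _
  rw [← Scheme.Opens.stalkIso_inv]
  refine (congr($(Scheme.Opens.germ_stalkIso_inv O ⊤ v' trivial) b)).symm.trans ?_
  refine congrArg (O.stalkIso v').inv.hom ?_
  simp [b]
  refine (V.left.presheaf.germ_res_apply' _ _ _ _).trans ((V.left.presheaf.germ_res_apply' _ _ _ _).trans ?_)
  exact V.left.presheaf.germ_res_apply i₃ v hvO₃ b₀

omit [IsLocallyNoetherian X] in
theorem isZero_stalk_push_of_not_specializes {Ω : Type u} [Field Ω] [IsSepClosed Ω]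
    (ξ : Spec (CommRingCat.of Ω) ⟶ X) (hξ : ¬ x ⤳ ξ.base (default : Spec (CommRingCat.of Ω)))
    (G : EtCoh.Ab (Spec (X.residueField x))) :
    IsZero ((EtCoh.stalk ξ).obj ((EtCoh.push (X.fromSpecResidueField x)).obj G)) := by
  refine stalk_isZero_of_nhds _ ξ ⟨(closure ({x} : Set X))ᶜ, isClosed_closure.isOpen_compl⟩
    (fun h => hξ (specializes_iff_mem_closure.2 h)) fun U hU => ?_
  haveI : IsEmpty ((EtCoh.bc (X.fromSpecResidueField x)).obj U).left := ⟨fun p => by
    let p : ↥(pullback U.hom (X.fromSpecResidueField x)) := p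
    refine hU (pullback.fst U.hom (X.fromSpecResidueField x) p) ?_
    rw [← Scheme.Hom.comp_apply, pullback.condition, Scheme.Hom.comp_apply]
    erw [Scheme.fromSpecResidueField_apply]
    exact subset_closure rfl⟩
  exact subsingleton_sect_of_isEmpty G _

end GrothLib.GalCd
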