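import Groth.Agent.Lib.GalCd.Primary
import Mathlib.FieldTheory.IsAlgClosed.AlgebraicClosure

/-!
# Cohomological dimension of fields with pro-`p` Galois group
-/

set_option autoImplicit false
set_option backward.isDefEq.respectTransparency false
set_option backward.isDefEq.respectTransparency.types false
set_option linter.style.haveILetI false

universe u

open CategoryTheory CategoryTheory.Limits CategoryTheory.Abelian AlgebraicGeometry Opposite
open GrothLib.EtSite GrothLib.EtTrace21

noncomputable section

namespace GrothLib.GalCd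

/-- The standard geometric point of a field. -/
abbrev algPt (k : Type u) [Field k] : Spec (CommRingCat.of (AlgebraicClosure k)) ⟶ Spec (CommRingCat.of k) :=
  Spec.map (CommRingCat.ofHom (algebraMap k (AlgebraicClosure k)))

theorem algPt_alg (k : Type u) [Field k] :
    letI : Algebra k (AlgebraicClosure k) := (Spec.preimage (algPt k)).hom.toAlgebra
    Algebra.IsAlgebraic k (AlgebraicClosure k) := by
  have e : (Spec.preimage (algPt k)).hom.toAlgebra = (inferInstance : Algebra k (AlgebraicClosure k)) :=
    Algebra.algebra_ext _ _ fun r => congr($(Spec.preimage_map (CommRingCat.ofHom (algebraMap k (AlgebraicClosure k)))) r)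
  rw [e]
  infer_instance

theorem killed_const {X : Scheme.{u}} (p : ℕ) : p • 𝟙 (EtCoh.const X (ZMod p)) = 0 := by
  haveI : (constantSheaf X.smallEtaleTopology AddCommGrpCat.{u + 1}).Additive := by
    haveI : (EtCore.gsec X).Additive := by
      haveI : PreservesFiniteLimits (EtCore.gsec X) :=
        ((EtCore.constAdj X).rightAdjoint_preservesLimits : PreservesLimitsOfSize.{0, 0} _).preservesFiniteLimits
      exact Functor.additive_of_preserves_binary_products _
    exact (EtCore.constAdj X).left_adjoint_additive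
  let M := AddCommGrpCat.of (ULift.{u + 1} (ZMod p))
  have hM : p • 𝟙 M = 0 := by
    refine AddCommGrpCat.hom_ext (AddMonoidHom.ext fun f => ?_)
    refine (map_nsmul (AddMonoidHom.mk' (fun q : M ⟶ M => q f) fun _ _ => rfl) p (𝟙 M)).trans ?_
    exact ULift.ext _ _ (by change p • f.down = 0; simp)
  have e := congrArg (fun q => (constantSheaf X.smallEtaleTopology AddCommGrpCat.{u + 1}).map q) hM
  simp only [Functor.map_nsmul, CategoryTheory.Functor.map_id, Functor.map_zero] at e
  exact e

theorem isTorsion_of_killed {X : Scheme.{u}} {G : EtCoh.Ab X} {N : ℕ} (hN : N ≠ 0) (hG : N • 𝟙 G = 0) :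
    EtCoh.IsTorsion G := fun U s x =>
  ⟨U, 𝟙 U, ⟨x, rfl⟩, isOfFinAddOrder_iff_nsmul_eq_zero.2 ⟨N, Nat.pos_of_ne_zero hN, nsmul_sect hG _⟩⟩

theorem nsmul_H {X : Scheme.{u}} {G : EtCoh.Ab X} {N r : ℕ} (hG : N • 𝟙 G = 0) (y : EtCoh.H X G r) : N • y = 0 := by
  rw [← comp_nsmul_id, hG, Ext.mk₀_zero, Ext.comp_zero]

variable (k : Type u) [Field k] (p : ℕ) [Fact p.Prime]

/-- Over a field all whose finite Galois extensions are `p`-extensions, vanishing for `ℤ/p` gives vanishing for
all sheaves killed by `p`. -/
theorem H_eq_zero_of_prop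
    (hpro : ∀ (L : Type u) [Field L] [Algebra k L] [FiniteDimensional k L] [IsGalois k L], IsPGroup p (L ≃ₐ[k] L))
    (r : ℕ) (hc : Subsingleton (EtCoh.H (Spec (CommRingCat.of k)) (EtCoh.const (Spec (CommRingCat.of k)) (ZMod p)) r))
    (G : EtCoh.Ab (Spec (CommRingCat.of k))) (hG : p • 𝟙 G = 0) (x : EtCoh.H (Spec (CommRingCat.of k)) G r) :
    x = 0 := by
  obtain ⟨G', i, y, hG', hfin, rfl⟩ := exists_finite_preimage (algPt k) p r G hG x
  obtain ⟨L, _, _, _, _, hsp⟩ := exists_split (algPt k) (algPt_alg k) hfin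
  rw [(subsingleton_H_of_split (algPt k) p (hpro L) r hc _ G' rfl hG' hfin hsp).elim y 0, Ext.zero_comp]

end GrothLib.GalCd
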