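import Groth.Agent.Lib.GalCd.GaField
import Groth.Agent.Lib.GalCd.Main
import Groth.Agent.S18415
import Mathlib.FieldTheory.Finite.Basic

/-!
# The Artin–Schreier sequence over a field
-/

set_option autoImplicit false
set_option backward.isDefEq.respectTransparency false
set_option backward.isDefEq.respectTransparency.types false
set_option linter.style.haveILetI false

universe u

open CategoryTheory CategoryTheory.Limits CategoryTheory.Abelian AlgebraicGeometry Opposite
open GrothLib.EtSite GrothLib.EtColim GrothLib.EtTrace21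

noncomputable section

namespace GrothLib.GalCd

variable (k : Type u) [Field k] (p : ℕ) [Fact p.Prime] [CharP k p]

theorem natCast_eq_zero_Γ : (p : Γ(Spec (CommRingCat.of k), ⊤)) = 0 := by
  have e := congrArg (Scheme.ΓSpecIso (CommRingCat.of k)).inv.hom (CharP.cast_eq_zero k p)
  rw [map_zero, map_natCast] at e
  exact e

/-- Constant sheaf coefficients go to the kernel of Artin–Schreier. -/
theorem exists_iso_const :
    Nonempty (EtCoh.const (Spec (CommRingCat.of k)) (ZMod p) ≅
      kernel (W4c5etcohweilstudent.artinSchreierEndo (Spec (CommRingCat.of k)) p (Fact.out : p.Prime) (natCast_eq_zero_Γ k p))) := by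
  let S := Spec (CommRingCat.of k)
  let hp : p.Prime := Fact.out
  let a := W4c5etcohweilstudent.artinSchreierEndo S p hp (natCast_eq_zero_Γ k p)
  let one₀ : EtCoh.sect (EtCoh.Ga S) (EtCoh.top S) := (ULift.up 1 : ULift.{u + 1} Γ(S, ⊤))
  have hone : p • one₀ = 0 := ULift.ext _ _ (by
    change p • (1 : Γ(S, ⊤)) = 0
    rw [nsmul_one]
    exact natCast_eq_zero_Γ k p)
  let φ : ZMod p →+ EtCoh.sect (EtCoh.Ga S) (EtCoh.top S) :=
    ZMod.lift p ⟨zmultiplesHom _ one₀, by
      change (p : ℤ) • one₀ = 0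
      rw [natCast_zsmul]; exact hone⟩
  have hφ : ∀ n : ZMod p, φ n = n.val • one₀ := fun n => by
    conv_lhs => rw [← ZMod.natCast_zmod_val n, ← Int.cast_natCast]
    exact (ZMod.lift_coe p _ _).trans (natCast_zsmul one₀ _)
  let g₀ : AddCommGrpCat.of (ULift.{u + 1} (ZMod p)) ⟶ (EtCore.gsec S).obj (EtCoh.Ga S) :=
    AddCommGrpCat.ofHom (φ.comp AddEquiv.ulift.toAddMonoidHom)
  let ι : EtCoh.const S (ZMod p) ⟶ EtCoh.Ga S := ((EtCore.constAdj S).homEquiv _ _).symm g₀
  have ha1 : a.hom.app (op (EtCoh.top S)) one₀ = 0 := ULift.ext _ _ (by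
    change (1 : Γ(S, ⊤)) ^ p - 1 = 0
    rw [one_pow, sub_self])
  have hιa : ι ≫ a = 0 := by
    refine ((EtCore.constAdj S).homEquiv _ _).injective ?_
    rw [Adjunction.homEquiv_naturality_right, Equiv.apply_symm_apply]
    rw [Adjunction.homEquiv_unit, Functor.map_zero, comp_zero]
    refine AddCommGrpCat.hom_ext (AddMonoidHom.ext fun c => ?_)
    change a.hom.app (op (EtCoh.top S)) (φ c.down) = 0
    rw [hφ, map_nsmul, ha1, smul_zero]
  let ι' : EtCoh.const S (ZMod p) ⟶ kernel a := kernel.lift a ι hιa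
  let ξ := algPt k
  have hι : ∀ (c : ULift.{u + 1} (ZMod p)),
      ι.hom.app (op (EtCoh.top S)) (GrothLib.EtDer.cst (AddCommGrpCat.of (ULift.{u + 1} (ZMod p))) _ c) =
        c.down.val • one₀ := fun c => by
    rw [← hφ, ← GrothLib.EtDer.cst_top]
    have e0 : g₀ = (EtCore.constAdj S).homEquiv _ _ ι := (Equiv.apply_symm_apply _ _).symm
    change _ = g₀ c
    rw [e0, Adjunction.homEquiv_unit]
    rfl
  haveI : Mono ι := mono_of_stalk ξ ι (by
    rw [injective_iff_map_eq_zero]
    intro y hy
    obtain ⟨c, rfl⟩ := (GrothLib.LocConst.bijective_germ_const ξ _).2 y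
    have key : (EtCoh.stalk ξ).map ι (((EtCore.constAdj S).unit.app (AddCommGrpCat.of (ULift.{u + 1} (ZMod p))) ≫
        germ ξ _ (GrothLib.LocConst.topFib ξ)) c) = (ULift.down c).val • germ ξ (EtCoh.Ga S) (GrothLib.LocConst.topFib ξ) one₀ := by
      rw [ConcreteCategory.comp_apply, GrothLib.EtDer.cst_top]
      refine (stalk_map_germ ξ ι _ _).trans ?_
      rw [hι, map_nsmul]
    rw [key] at hy
    have hne : germ ξ (EtCoh.Ga S) (GrothLib.LocConst.topFib ξ) one₀ ≠ 0 := fun h => by
      obtain ⟨V, g, v, -, hg⟩ := eq_zero_nhd ξ (EtCoh.Ga S) _ one₀ h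
      have h1 : g.left.appTop.hom (1 : Γ(S, ⊤)) = 0 := congrArg ULift.down hg
      have h2 : (1 : Γ(V.left, ⊤)) = 0 := (map_one g.left.appTop.hom).symm.trans h1
      exact one_ne_zero ((map_one _).symm.trans ((congrArg (V.left.presheaf.germ ⊤ v trivial).hom h2).trans (map_zero _)))
    have hord : addOrderOf (germ ξ (EtCoh.Ga S) (GrothLib.LocConst.topFib ξ) one₀) = p :=
      addOrderOf_eq_prime (by rw [← map_nsmul, hone, map_zero]) hne
    have := addOrderOf_dvd_of_nsmul_eq_zero hy
    rw [hord] at this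
    have hc : (ULift.down c).val = 0 := Nat.eq_zero_of_dvd_of_lt this (ZMod.val_lt _)
    rw [show c = 0 from ULift.ext _ _ ((ZMod.val_eq_zero _).1 hc)]
    exact map_zero _)
  haveI : Mono ι' := mono_of_mono_fac (kernel.lift_ι a ι hιa)
  haveI : Epi ι' := epi_of_stalk ξ ι' fun y => by
    letI : Algebra k (AlgebraicClosure k) := (Spec.preimage ξ).hom.toAlgebra
    obtain ⟨V, t, s, rfl⟩ := exists_germ ξ _ y
    obtain ⟨E, _, _, hE⟩ := exists_field_bound t
    obtain ⟨m, t', -, hm⟩ := hE E le_rfl
    rw [← hm, ← germ_map]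
    let s' := (kernel a).obj.map m.op s
    let b : Γ((VL k E).left, ⊤) := ULift.down (show ULift.{u + 1} Γ((VL k E).left, ⊤) from
      (kernel.ι a).hom.app (op (VL k E)) s')
    let c : E := (Scheme.ΓSpecIso (CommRingCat.of E)).hom.hom b
    have hb : b ^ p - b = 0 := by
      have e : a.hom.app (op (VL k E)) ((kernel.ι a).hom.app (op (VL k E)) s') = 0 :=
        congr($(congrArg (fun f : kernel a ⟶ EtCoh.Ga S => f.hom.app (op (VL k E))) (kernel.condition a)) s')
      exact congrArg ULift.down e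
    have hc : c ^ p = c := by
      have := congrArg (Scheme.ΓSpecIso (CommRingCat.of E)).hom.hom hb
      rw [map_sub, map_pow, map_zero, sub_eq_zero] at this
      exact this
    haveI : CharP E p := charP_of_injective_algebraMap (algebraMap k E).injective p
    obtain ⟨n, hn⟩ : ∃ n : ZMod p, ZMod.castHom (dvd_refl p) E n = c := by
      classical
      let f : Polynomial E := Polynomial.X ^ p - Polynomial.X
      have hf : f ≠ 0 := FiniteField.X_pow_card_sub_X_ne_zero E hp.one_lt
      have hsub : Finset.univ.image (ZMod.castHom (dvd_refl p) E) ⊆ f.roots.toFinset := by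
        intro x hx
        obtain ⟨i, -, rfl⟩ := Finset.mem_image.1 hx
        rw [Multiset.mem_toFinset, Polynomial.mem_roots hf]
        simp only [f, Polynomial.IsRoot, Polynomial.eval_sub, Polynomial.eval_pow, Polynomial.eval_X,
          ← map_pow, ZMod.pow_card, sub_self]
      have heq := Finset.eq_of_subset_of_card_le hsub (by
        rw [Finset.card_image_of_injective _ (ZMod.castHom (dvd_refl p) E).injective, Finset.card_univ, ZMod.card]
        refine (Multiset.toFinset_card_le _).trans ((Polynomial.card_roots' f).trans ?_)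
        rw [FiniteField.X_pow_card_sub_X_natDegree_eq E hp.one_lt])
      have hmem : c ∈ f.roots.toFinset := by
        rw [Multiset.mem_toFinset, Polynomial.mem_roots hf]
        simp [f, hc]
      rw [← heq] at hmem
      obtain ⟨i, -, hi⟩ := Finset.mem_image.1 hmem
      exact ⟨i, hi⟩
    let A₀ := AddCommGrpCat.of (ULift.{u + 1} (ZMod p))
    refine ⟨germ ξ _ t' (GrothLib.EtDer.cst A₀ (VL k E) (ULift.up n)), ?_⟩
    rw [stalk_map_germ]
    refine congrArg _ (injective_app (kernel.ι a) _ ?_)
    have e1 : (kernel.ι a).hom.app (op (VL k E)) (ι'.hom.app (op (VL k E)) (GrothLib.EtDer.cst A₀ (VL k E) (ULift.up n))) =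
        ι.hom.app (op (VL k E)) (GrothLib.EtDer.cst A₀ (VL k E) (ULift.up n)) := by
      conv_rhs => rw [← kernel.lift_ι a ι hιa]
      rfl
    refine e1.trans ?_
    rw [← GrothLib.EtDer.map_cst A₀ (toTop k E) (ULift.up n)]
    refine (NatTrans.naturality_apply ι.hom (toTop k E).op _).trans ?_
    rw [hι]
    refine (map_nsmul ((EtCoh.Ga S).obj.map (toTop k E).op).hom _ one₀).trans (ULift.ext _ _ ?_)
    change n.val • (toTop k E).left.appTop.hom (1 : Γ(S, ⊤)) = b
    rw [map_one]
    apply (Scheme.ΓSpecIso (CommRingCat.of E)).commRingCatIsoToRingEquiv.injective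
    change (Scheme.ΓSpecIso (CommRingCat.of E)).hom.hom (n.val • (1 : Γ(Spec (CommRingCat.of E), ⊤))) = c
    rw [map_nsmul, map_one, nsmul_one, ← hn, ZMod.castHom_apply, ZMod.natCast_val]
  haveI : IsIso ι' := isIso_of_mono_of_epi ι'
  exact ⟨asIso ι'⟩

/-- In characteristic `p` the constant sheaf `ℤ/p` has no cohomology in degrees at least two. -/
theorem H_const_eq_zero (r : ℕ)
    (x : EtCoh.H (Spec (CommRingCat.of k)) (EtCoh.const (Spec (CommRingCat.of k)) (ZMod p)) (r + 2)) : x = 0 := by
  obtain ⟨e⟩ := exists_iso_const k p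
  let a := W4c5etcohweilstudent.artinSchreierEndo (Spec (CommRingCat.of k)) p (Fact.out : p.Prime) (natCast_eq_zero_Γ k p)
  let T := ShortComplex.mk (kernel.ι a) a (kernel.condition a)
  haveI : Epi a := Groth.Agent.S18415.result p Fact.out (natCast_eq_zero_Γ k p)
  have hT : T.ShortExact := { exact := T.exact_of_f_is_kernel (kernelIsKernel a) }
  let y : EtCoh.H (Spec (CommRingCat.of k)) (kernel a) (r + 2) := Ext.comp x (Ext.mk₀ e.hom) (add_zero (r + 2))
  obtain ⟨w, hw⟩ := Ext.covariant_sequence_exact₁ _ hT y (H_Ga_eq_zero k (r + 1) _) rfl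
  have hy : y = 0 := by rw [← hw, H_Ga_eq_zero k r w, Ext.zero_comp]
  rw [← Ext.comp_mk₀_id x, ← e.hom_inv_id, ← Ext.mk₀_comp_mk₀, ← Ext.comp_assoc_of_third_deg_zero]
  change Ext.comp y _ _ = 0
  rw [hy, Ext.zero_comp]

end GrothLib.GalCd
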