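import Groth.Agent.Lib.GalCd.GmMax
import Groth.Agent.Lib.GalCd.BrC1
import Groth.Agent.Lib.EtTrace21.H90Push
import Groth.Agent.Lib.Dim.Scheme
import Groth.Prelude.Def_Dix

/-!
# `H²(-, 𝔾ₘ)` of a reduced curve over an algebraically closed field
-/

set_option autoImplicit false
set_option backward.isDefEq.respectTransparency false
set_option backward.isDefEq.respectTransparency.types false
set_option linter.style.haveILetI false

universe u

open CategoryTheory CategoryTheory.Limits CategoryTheory.Abelian AlgebraicGeometry Opposite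
open GrothLib.EtSite GrothLib.EtTrace21

noncomputable section

namespace GrothLib.GalCd

variable {X : Scheme.{u}} [AlgebraicGeometry.IsNoetherian X]

/-- Points which are neither closed nor maximal do not exist in dimension at most one. -/
theorem maximal_of_not_isClosed (hdim : topologicalKrullDim X ≤ 1) (x : X)
    (hx : ¬ IsClosed ({x} : Set X)) (y : X) (hy : y ⤳ x) : y = x := by
  by_contra hne
  obtain ⟨z, hz, hzx⟩ : ∃ z, x ⤳ z ∧ z ≠ x := by
    by_contra h
    push Not at h
    refine hx ?_
    rw [← closure_eq_iff_isClosed]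
    exact Set.Subset.antisymm (fun w hw => h w (specializes_iff_mem_closure.2 hw)) subset_closure
  let C : X → TopologicalSpace.IrreducibleCloseds X := fun w =>
    ⟨closure {w}, isIrreducible_singleton.closure, isClosed_closure⟩
  have hlt : ∀ {a b : X}, a ⤳ b → b ≠ a → C b < C a := fun {a b} hab hba => by
    refine lt_of_le_of_ne (specializes_iff_closure_subset.1 hab) fun e => hba ?_
    have e' : closure ({b} : Set X) = closure {a} := congrArg SetLike.coe e
    exact IsGenericPoint.eq (S := closure ({a} : Set X)) e' rfl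
  let c : LTSeries (TopologicalSpace.IrreducibleCloseds X) :=
    ((RelSeries.singleton _ (C z)).snoc (C x) (hlt hz hzx)).snoc (C y)
      (by simpa using hlt hy (Ne.symm hne))
  have := (Order.LTSeries.length_le_krullDim c).trans hdim
  simp [c] at this

variable [IsReduced X]

/-- `H²` of the multiplicative group of a reduced noetherian curve, with separably closed residue fields at closed
points, injects into the groups at the maximal points. -/
theorem H2Gm_eq_zero_of_max (hdim : topologicalKrullDim X ≤ 1)
    (hsep : ∀ x : X, IsClosed ({x} : Set X) → IsSepClosed (X.residueField x))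
    (h2 : ∀ x : MaxPts X, Subsingleton (EtCoh.H (Spec (X.residueField x.1)) (EtCoh.Gm (Spec (X.residueField x.1))) 2))
    (a : EtCoh.H X (EtCoh.Gm X) 2) : a = 0 := by
  classical
  haveI : Fintype (MaxPts X) := Fintype.ofFinite _
  let G : MaxPts X → EtCoh.Ab X := fun x =>
    (EtCoh.push (X.fromSpecResidueField x.1)).obj (EtCoh.Gm (Spec (X.residueField x.1)))
  let φ : EtCoh.Gm X ⟶ ⨁ G := biproduct.lift fun x => EtLim.GmPush (X.fromSpecResidueField x.1)
  haveI : Mono φ := by
    refine ⟨fun {T} g h e => ObjectProperty.hom_ext _ (NatTrans.ext (funext fun V =>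
      AddCommGrpCat.hom_ext (AddMonoidHom.ext fun z => ?_)))⟩
    let u₁ := g.hom.app V z
    let u₂ := h.hom.app V z
    refine sub_eq_zero.1 (ULift.ext _ _ (Additive.toMul.injective (Units.ext ?_)))
    refine eq_one_of_forall_max V.unop _ fun x hx => ?_
    have e2 : (EtLim.GmPush (X.fromSpecResidueField x)).hom.app V (u₁ - u₂) = 0 := by
      rw [map_sub, sub_eq_zero]
      have := congrArg (fun r => r ≫ biproduct.π G ⟨x, hx⟩) e
      simp only [φ, Category.assoc, biproduct.lift_π] at this
      exact congr($(congrArg (fun r : T ⟶ G ⟨x, hx⟩ => r.hom.app V) this) z)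
    exact congrArg (fun r : ULift.{u + 1} (Additive
      (Γ(((EtCoh.bc (X.fromSpecResidueField x)).obj V.unop).left, ⊤) : Type u)ˣ) =>
        ((Additive.toMul r.down : _ˣ) : Γ(((EtCoh.bc (X.fromSpecResidueField x)).obj V.unop).left, ⊤))) e2
  have htot : ∑ j, biproduct.π G j ≫ biproduct.ι G j = 𝟙 (⨁ G) := IsBilimit.total (biproduct.isBilimit G)
  let T := ShortComplex.mk φ (cokernel.π φ) (cokernel.condition φ)
  have hT : T.ShortExact := { exact := T.exact_of_g_is_cokernel (cokernelIsCokernel φ) }
  have hQ : ∀ (Ω : Type u) [Field Ω] [IsSepClosed Ω] (ξ : Spec (CommRingCat.of Ω) ⟶ X),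
      ¬ IsClosed ({ξ.base (default : Spec (CommRingCat.of Ω))} : Set X) → IsZero ((EtCoh.stalk ξ).obj T.X₃) := by
    intro Ω _ _ ξ hnc
    let x₀ := ξ.base (default : Spec (CommRingCat.of Ω))
    let i₀ : MaxPts X := ⟨x₀, fun y hy => maximal_of_not_isClosed hdim x₀ hnc y hy⟩
    have hzero : ∀ i : MaxPts X, i ≠ i₀ → IsZero ((EtCoh.stalk ξ).obj (G i)) := fun i hi =>
      isZero_stalk_push_of_not_specializes i.1 ξ (fun hs => hi (Subtype.ext (i₀.2 _ hs))) _
    have hid : ∀ y : (EtCoh.stalk ξ).obj (⨁ G),
        y = (EtCoh.stalk ξ).map (biproduct.ι G i₀) ((EtCoh.stalk ξ).map (biproduct.π G i₀) y) := by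
      intro y
      have e : (EtCoh.stalk ξ).map (𝟙 (⨁ G)) = (EtCoh.stalk ξ).map (biproduct.π G i₀ ≫ biproduct.ι G i₀) := by
        rw [← htot, Functor.map_sum, Finset.sum_eq_single i₀]
        · intro i _ hi
          rw [Functor.map_comp, (hzero i hi).eq_of_tgt ((EtCoh.stalk ξ).map (biproduct.π G i)) 0, zero_comp]
        · exact fun h => absurd (Finset.mem_univ _) h
      rw [CategoryTheory.Functor.map_id, Functor.map_comp] at e
      exact congr($e y)
    haveI : Epi ((EtCoh.stalk ξ).map φ) := by
      refine (AddCommGrpCat.epi_iff_surjective _).2 fun y => ?_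
      obtain ⟨c, hc⟩ := surjective_stalk_GmPush x₀ i₀.2 ξ rfl ((EtCoh.stalk ξ).map (biproduct.π G i₀) y)
      refine ⟨c, ?_⟩
      rw [hid ((EtCoh.stalk ξ).map φ c), hid y]
      congr 1
      rw [← hc, ← ConcreteCategory.comp_apply, ← Functor.map_comp, biproduct.lift_π]
    refine IsZero.of_epi_eq_zero ((EtCoh.stalk ξ).map T.g) ?_
    rw [← cancel_epi ((EtCoh.stalk ξ).map φ), ← Functor.map_comp, T.zero, Functor.map_zero, comp_zero]
  haveI : ∀ x : MaxPts X, PreservesFiniteLimits (EtCoh.pull (X.fromSpecResidueField x.1)) :=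
    fun x => GrothLib.EtDer.pullFL _
  have hcomp : ∀ i, Ext.comp a (Ext.mk₀ (φ ≫ biproduct.π G i)) (add_zero 2) = 0 := fun i =>
    GrothLib.EtTrace21.injective_HofPush_two (X.fromSpecResidueField i.1) _
      (GrothLib.EtTrace21.isZero_Rpush_one_Gm (X.fromSpecResidueField i.1))
      ((h2 i).elim _ _)
  have h0 : Ext.comp a (Ext.mk₀ φ) (add_zero 2) = 0 := by
    have e : φ = ∑ i, (φ ≫ biproduct.π G i) ≫ biproduct.ι G i := by
      simp only [Category.assoc, ← Preadditive.comp_sum]
      rw [htot, Category.comp_id]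
    rw [e, Ext.mk₀_sum, Ext.comp_sum]
    refine Finset.sum_eq_zero fun i _ => ?_
    rw [← Ext.mk₀_comp_mk₀, ← Ext.comp_assoc_of_third_deg_zero, hcomp, Ext.zero_comp]
  obtain ⟨w, rfl⟩ := Ext.covariant_sequence_exact₁ _ hT a h0 rfl
  rw [H_eq_zero_of_supp_closedPts hsep _ hQ 1 le_rfl w, Ext.zero_comp]

omit [IsReduced X] in
/-- The residue fields of a curve over a field have transcendence degree at most one. -/
theorem trdeg_residueField_le {k : Type u} [Field k] (f : X ⟶ Spec (CommRingCat.of k)) [LocallyOfFiniteType f]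
    (hdim : topologicalKrullDim X ≤ 1) (x : X) :
    letI : Algebra k (X.residueField x) := (Spec.preimage (X.fromSpecResidueField x ≫ f)).hom.toAlgebra
    Algebra.trdeg k (X.residueField x) ≤ 1 := by
  let K := X.residueField x
  letI : Algebra k K := (Spec.preimage (X.fromSpecResidueField x ≫ f)).hom.toAlgebra
  obtain ⟨_, ⟨A, hA, rfl⟩, hxA, -⟩ := X.isBasis_affineOpens.exists_subset_of_mem_open (Set.mem_univ x) isOpen_univ
  let U : X.Opens := A
  obtain ⟨ψ, hψ, hψf⟩ := GrothLib.Dim.exists_finiteType_specMap f (U := U) hA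
  letI : Algebra k Γ(X, U) := ψ.hom.toAlgebra
  haveI : Algebra.FiniteType k Γ(X, U) := hψ
  let ev : Γ(X, U) →ₐ[k] K :=
    { (X.evaluation U x hxA).hom with
      commutes' := fun r => by
        have e : Spec.map (ψ ≫ X.evaluation U x hxA) = X.fromSpecResidueField x ≫ f := by
          rw [Spec.map_comp, ← hψf, ← Category.assoc]
          congr 1
          rw [Scheme.evaluation, Spec.map_comp, Scheme.fromSpecResidueField, Category.assoc]
          congr 1
          exact hA.fromSpecStalk_eq_fromSpecStalk hxA
        exact (congr($((Spec.preimage_map _).symm.trans (congrArg Spec.preimage e)) r)) }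
  let B := ev.range
  haveI : Algebra.FiniteType k B := Algebra.FiniteType.of_surjective ev.rangeRestrict ev.rangeRestrict_surjective
  have hB : ringKrullDim B ≤ 1 := by
    refine (ringKrullDim_le_of_surjective ev.rangeRestrict.toRingHom ev.rangeRestrict_surjective).trans ?_
    rw [← GrothLib.Dim.topologicalKrullDim_affineOpen hA]
    exact (topologicalKrullDim_subspace_le X U).trans hdim
  obtain ⟨n, hn, hn'⟩ := GrothLib.Dim.exists_nat_trdeg_eq_and_ringKrullDim_eq k B
  haveI : IsFractionRing B K := by
    refine IsFractionRing.of_field B K fun z => ?_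
    obtain ⟨r, rfl⟩ := X.residue_surjective x z
    letI : Algebra Γ(X, U) (X.presheaf.stalk x) := TopCat.Presheaf.algebra_section_stalk X.presheaf (⟨x, hxA⟩ : U)
    haveI := hA.isLocalization_stalk ⟨x, hxA⟩
    obtain ⟨a, s, e⟩ := IsLocalization.exists_mk'_eq (hA.primeIdealOf ⟨x, hxA⟩).asIdeal.primeCompl
      (S := X.presheaf.stalk x) r
    refine ⟨⟨ev a, a, rfl⟩, ⟨ev s, s, rfl⟩, ?_⟩
    have h1 : r * algebraMap Γ(X, U) (X.presheaf.stalk x) s = algebraMap Γ(X, U) (X.presheaf.stalk x) a := by
      rw [← e, IsLocalization.mk'_spec]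
    have h3 := congrArg (X.residue x).hom h1
    rw [map_mul] at h3
    change (X.residue x).hom r = ev a / ev s
    refine (eq_div_iff ?_).2 h3
    exact ((IsLocalization.map_units (X.presheaf.stalk x) s).map (X.residue x).hom).ne_zero
  haveI : FaithfulSMul k B := (faithfulSMul_iff_algebraMap_injective _ _).2 (algebraMap k B).injective
  have h1 : Algebra.trdeg B K = 0 := by
    haveI := IsLocalization.isAlgebraic (R := B) (S := K) (nonZeroDivisors B)
    exact trdeg_eq_zero
  have h2 := lift_trdeg_add_eq k B K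
  rw [h1, hn] at h2
  simp only [Cardinal.lift_natCast, Cardinal.lift_zero, add_zero] at h2
  rw [hn'] at hB
  change Algebra.trdeg k K ≤ 1
  rw [show Algebra.trdeg k K = (n : Cardinal) by simpa using h2.symm]
  exact_mod_cast hB

omit [AlgebraicGeometry.IsNoetherian X] [IsReduced X] in
/-- Residue fields at closed points over an algebraically closed field are separably closed. -/
theorem isSepClosed_residueField_of_closed {k : Type u} [Field k] [IsAlgClosed k]
    (f : X ⟶ Spec (CommRingCat.of k)) [LocallyOfFiniteType f] (x : X) (hx : IsClosed ({x} : Set X)) :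
    IsSepClosed (X.residueField x) :=
  isSepClosed_of_ringEquiv (residueFieldIsoBase f x hx).commRingCatIsoToRingEquiv.symm

end GrothLib.GalCd
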