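import Groth.Agent.Lib.GalCd.Primary
import Groth.Agent.Lib.EtSupp19.Restr
import Groth.Agent.Lib.EtSite.Immersion
import Groth.Agent.Lib.EtSite.PushExact
import Groth.Agent.Lib.EtBasicB.GlobalSections
import Groth.Agent.Lib.EtBasicB.Supports
import Groth.Agent.S14451
import Groth.Agent.Lib.EtDer.HpullComp
import Groth.Agent.Lib.EtBasicB.OverField
import Groth.Agent.Lib.EtFibre.Basic
import Mathlib.AlgebraicGeometry.Noetherian
import Mathlib.AlgebraicGeometry.Artinian

/-!
# Sheaves concentrated at closed points with separably closed residue fields have no higher cohomology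
-/

set_option autoImplicit false
set_option backward.isDefEq.respectTransparency false
set_option backward.isDefEq.respectTransparency.types false
set_option linter.style.haveILetI false

universe u

open CategoryTheory CategoryTheory.Limits CategoryTheory.Abelian AlgebraicGeometry Opposite
open GrothLib.EtSite GrothLib.EtColim GrothLib.EtTrace21 GrothLib.EtLimit GrothLib.SheafCoh

noncomputable section

namespace GrothLib.GalCd

variable {X : Scheme.{u}}

/-- Finite sets of closed points. -/
abbrev ClosedPts (X : Scheme.{u}) : Type u := {x : X // IsClosed ({x} : Set X)}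

/-- The closed set of a finite set of closed points. -/
def ptsClosed (F : Finset (ClosedPts X)) : TopologicalSpace.Closeds X :=
  ⟨Subtype.val '' (F : Set (ClosedPts X)), by
    rw [← Set.biUnion_of_singleton (Subtype.val '' (F : Set (ClosedPts X)))]
    refine (F.finite_toSet.image _).isClosed_biUnion fun x hx => ?_
    obtain ⟨y, -, rfl⟩ := hx
    exact y.2⟩

/-- The open complement of a finite set of closed points. -/
def ptsCompl (F : Finset (ClosedPts X)) : X.Opens :=
  ⟨(ptsClosed F : Set X)ᶜ, (ptsClosed F).isClosed.isOpen_compl⟩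

theorem mem_ptsCompl {F : Finset (ClosedPts X)} {x : X} : x ∈ ptsCompl F ↔ ∀ y ∈ F, y.1 ≠ x := by
  change x ∉ Subtype.val '' (F : Set (ClosedPts X)) ↔ _
  simp only [Set.mem_image, not_exists, not_and, Finset.mem_coe]

variable (Q : EtCoh.Ab X)

/-- The part of `Q` supported in `F`. -/
def suppPart (F : Finset (ClosedPts X)) : EtCoh.Ab X :=
  kernel (EtDual.unitApp (ptsCompl F).ι Q)

theorem suppPart_comp {F F' : Finset (ClosedPts X)} (h : F ⊆ F') :
    kernel.ι (EtDual.unitApp (ptsCompl F).ι Q) ≫ EtDual.unitApp (ptsCompl F').ι Q = 0 := by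
  refine (GrothLib.EtSupp19.pull_map_eq_zero_iff (ptsCompl F').ι _).1
    (GrothLib.EtSupp19.pull_kernel_ι_eq_zero (ptsCompl F').ι (ptsCompl F).ι ?_ Q)
  rw [Scheme.Opens.range_ι, Scheme.Opens.range_ι]
  intro x hx
  exact mem_ptsCompl.2 fun y hy => mem_ptsCompl.1 hx y (h hy)

/-- The system of the parts with finite support. -/
def suppDiag : ULift.{u + 1} (Finset (ClosedPts X)) ⥤ EtCoh.Ab X where
  obj F := suppPart Q F.down
  map {F F'} h := kernel.lift _ (kernel.ι _) (suppPart_comp Q (ULift.down_le.mpr (leOfHom h)))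
  map_id F := equalizer.hom_ext (by simp [suppPart])
  map_comp f g := equalizer.hom_ext (by simp [suppPart])

/-- Its evident cocone. -/
def suppCocone : Cocone (suppDiag Q) where
  pt := Q
  ι :=
    { app := fun F => kernel.ι _
      naturality := fun F F' h => by simp [suppDiag, suppPart] }

variable {Q}

theorem injective_map_of_surjective' {G : EtCoh.Ab X} {W V : X.Etale} (h : W ⟶ V)
    (hs : Function.Surjective h.left.base) : Function.Injective (G.obj.map h.op) :=
  injective_map_of_surjective G h hs

/-- A section supported over `F` lies in the part supported in `F`. -/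
theorem unitApp_eq_zero (F : Finset (ClosedPts X)) (V : X.Etale) (s : EtCoh.sect Q V)
    (h : ∀ v ∈ EtShriek.sectSupp Q V s, V.hom.base v ∉ ptsCompl F) :
    (EtDual.unitApp (ptsCompl F).ι Q).hom.app (op V) s = 0 := by
  let f : V.left ⟶ X := V.hom
  let O : V.left.Opens := f ⁻¹ᵁ ptsCompl F
  let g : opensObj V O ⟶ V := opensHom V O
  have hg : Q.obj.map g.op s = 0 := by
    refine GrothLib.EtSite.section_eq_zero_of_germs _ _ _ fun Ω _ _ ξ t => ?_
    rw [germ_map]
    by_contra hne
    refine h _ ((GrothLib.EtBasicB.germ_ne_zero_iff ξ Q _ s).1 hne) ?_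
    exact (t.left.base (default : Spec (CommRingCat.of Ω))).2
  refine injective_map_of_surjective' (G := (EtCoh.pull (ptsCompl F).ι).obj Q)
    ((EtCoh.bc (ptsCompl F).ι).map g) ?_ (Eq.trans ?_ (map_zero _).symm)
  · intro p
    have hp : f.base ((pullback.fst V.hom (ptsCompl F).ι).base p) ∈ ptsCompl F := by
      have := congrArg (fun r => r.base p) (pullback.condition (f := V.hom) (g := (ptsCompl F).ι))
      simp only [Scheme.Hom.comp_base, TopCat.comp_app] at this
      change V.hom.base _ ∈ ptsCompl F
      rw [this]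
      exact ((pullback.snd V.hom (ptsCompl F).ι).base p).2
    obtain ⟨z, hz, -⟩ := Scheme.exists_preimage_of_isPullback (EtCoh.isPullback_bc_map (ptsCompl F).ι g) p
      (⟨_, hp⟩ : O) rfl
    exact ⟨z, hz⟩
  · refine (NatTrans.naturality_apply (EtDual.unitApp (ptsCompl F).ι Q).hom g.op s).symm.trans ?_
    rw [hg, map_zero]

/-- A closed set of points over closed points, in a noetherian etale scheme, is finite. -/
theorem finite_of_closed_over_closed {V : X.Etale} [IsNoetherian V.left] (S : Set V.left) (hS : IsClosed S)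
    (h : ∀ v ∈ S, IsClosed ({V.hom.base v} : Set X)) : S.Finite := by
  have key : ∀ v ∈ S, ∀ w : V.left, v ⤳ w → v = w := fun v hv w hvw => by
    let f : V.left ⟶ X := V.hom
    haveI : Etale f := V.prop
    have e : f.base w = f.base v := by
      have := (hvw.map f.continuous).mem_closed (h v hv) rfl
      exact this
    haveI : LocallyQuasiFinite f := GrothLib.EtBasicB.locallyQuasiFinite_of_unramified f
    exact GrothLib.EtFibre.eq_of_specializes_of_discrete f v w hvw e.symm
  haveI : TopologicalSpace.NoetherianSpace S := inferInstance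
  obtain ⟨T, hTf, hTc, hTi, hTeq⟩ := TopologicalSpace.NoetherianSpace.exists_finite_set_isClosed_irreducible hS
  rw [hTeq]
  refine Set.Finite.sUnion hTf fun t ht => ?_
  obtain ⟨η, hη⟩ := QuasiSober.sober (hTi t ht) (hTc t ht)
  refine (Set.finite_singleton η).subset fun w hw => ?_
  have hηS : η ∈ S := hTeq ▸ Set.mem_sUnion.2 ⟨t, ht, hη.mem⟩
  exact (key η hηS w (hη.specializes hw)).symm

variable [IsNoetherian X]

theorem isIso_suppDesc
    (hQ : ∀ (Ω : Type u) [Field Ω] [IsSepClosed Ω] (ξ : Spec (CommRingCat.of Ω) ⟶ X),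
      ¬ IsClosed ({ξ.base (default : Spec (CommRingCat.of Ω))} : Set X) → IsZero ((EtCoh.stalk ξ).obj Q)) :
    IsIso (colimit.desc (suppDiag Q) (suppCocone Q)) := by
  classical
  let c := colimit.desc (suppDiag Q) (suppCocone Q)
  have hfac : ∀ i, colimit.ι (suppDiag Q) i ≫ c = kernel.ι _ := fun i => colimit.ι_desc _ _
  haveI : Mono c := by
    haveI : Sheaf.IsLocallyInjective c := Sheaf.isLocallyInjective_iff_injective c |>.2 fun U => by
      rw [injective_iff_map_eq_zero]
      intro s hs
      refine GrothLib.EtSite.section_eq_zero_of_germs _ U.unop s fun Ω _ _ η t => ?_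
      obtain ⟨_, ⟨A, hA, rfl⟩, hxA, -⟩ := U.unop.left.isBasis_affineOpens.exists_subset_of_mem_open
        (Set.mem_univ (t.left.base (default : Spec (CommRingCat.of Ω)))) isOpen_univ
      let A₀ : U.unop.left.Opens := A
      let V := opensObj U.unop A₀
      let g : V ⟶ U.unop := opensHom U.unop A₀
      obtain ⟨t', ht', -⟩ := GrothLib.EtBasicB.exists_fib_lift η g t
        (⟨_, hxA⟩ : A₀) rfl
      rw [← ht', ← germ_map]
      have hV : Qcqs V :=
        haveI : IsAffine A₀.toScheme := hA
        ⟨(isCompact_iff_compactSpace.1 hA.isCompact :), (inferInstance : QuasiSeparatedSpace ↥A₀.toScheme)⟩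
      obtain ⟨i, a, ha⟩ := (ColimCoh.sections_colimit cov_h1 cov_h2 (suppDiag Q ⋙ (E X).functor)
        (isColimitOfPreserves (E X).functor (colimit.isColimit (suppDiag Q))) (U := up V) hV).1
        ((colimit (suppDiag Q)).obj.map g.op s)
      replace ha : (colimit.ι (suppDiag Q) i).hom.app (op V) a = (colimit (suppDiag Q)).obj.map g.op s := ha
      have h0 : (kernel.ι (EtDual.unitApp (ptsCompl i.down).ι Q)).hom.app (op V) a = 0 := by
        rw [← hfac i]
        change c.hom.app (op V) ((colimit.ι (suppDiag Q) i).hom.app (op V) a) = 0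
        rw [ha]
        refine (NatTrans.naturality_apply c.hom g.op s).trans ?_
        rw [hs, map_zero]
      have ha0 : a = 0 :=
        injective_app (kernel.ι (EtDual.unitApp (ptsCompl i.down).ι Q)) V (h0.trans (map_zero _).symm)
      rw [← ha, ha0, map_zero, map_zero]
    exact Sheaf.mono_of_isLocallyInjective c
  haveI : Epi c := by
    haveI : Sheaf.IsLocallySurjective c := by
      refine ⟨fun {U} s => ?_⟩
      rw [mem_topology_iff]
      intro x
      obtain ⟨_, ⟨A, hA, rfl⟩, hxA, -⟩ := U.left.isBasis_affineOpens.exists_subset_of_mem_open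
        (Set.mem_univ x) isOpen_univ
      let A₀ : U.left.Opens := A
      let V := opensObj U A₀
      let g : V ⟶ U := opensHom U A₀
      haveI : IsAffine V.left := (hA : IsAffine A₀.toScheme)
      haveI : IsNoetherian V.left := by
        let f : V.left ⟶ X := V.hom
        haveI : Etale f := V.prop
        haveI : IsLocallyNoetherian V.left := LocallyOfFiniteType.isLocallyNoetherian f
        exact {}
      let s₁ : EtCoh.sect Q V := Q.obj.map g.op s
      have hS : (EtShriek.sectSupp Q V s₁).Finite := by
        refine finite_of_closed_over_closed _ (GrothLib.EtBasicB.isClosed_sectSupp Q V s₁) fun v hv => ?_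
        by_contra hnc
        obtain ⟨t, ht⟩ := exists_fib (gpt (V.hom.base v)) (U := V) v (gpt_default _).symm
        refine (GrothLib.EtBasicB.germ_ne_zero_iff _ Q t s₁).2 (ht.symm ▸ hv)
          (@Subsingleton.elim _ (AddCommGrpCat.subsingleton_of_isZero (hQ _ (gpt (V.hom.base v)) ?_)) _ _)
        exact fun hc => hnc ((congrArg (fun y : X => IsClosed ({y} : Set X)) (gpt_default (V.hom.base v))).mp hc)
      let F : Finset (ClosedPts X) := (hS.toFinset.image V.hom.base).subtype fun y => IsClosed ({y} : Set X)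
      have hu : (EtDual.unitApp (ptsCompl F).ι Q).hom.app (op V) s₁ = 0 := by
        refine unitApp_eq_zero F V s₁ fun v hv hmem => ?_
        by_cases hc : IsClosed ({V.hom.base v} : Set X)
        · refine mem_ptsCompl.1 hmem ⟨_, hc⟩ ?_ rfl
          exact Finset.mem_subtype.2 (Finset.mem_image.2 ⟨v, hS.mem_toFinset.2 hv, rfl⟩)
        · obtain ⟨t, ht⟩ := exists_fib (gpt (V.hom.base v)) (U := V) v (gpt_default _).symm
          exact (GrothLib.EtBasicB.germ_ne_zero_iff _ Q t s₁).2 (ht.symm ▸ hv)
            (@Subsingleton.elim _ (AddCommGrpCat.subsingleton_of_isZero (hQ _ (gpt (V.hom.base v))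
              (fun hc' => hc ((congrArg (fun y : X => IsClosed ({y} : Set X)) (gpt_default (V.hom.base v))).mp hc')))) _ _)
      have h0 : ofSect s₁ ≫ EtDual.unitApp (ptsCompl F).ι Q = 0 := ZV_ext (by
        refine (congrArg ((EtDual.unitApp (ptsCompl F).ι Q).hom.app (op V)) (ofSect_gen s₁)).trans ?_
        exact hu)
      refine ⟨V, g, (⟨x, hxA⟩ : A₀), ⟨(colimit.ι (suppDiag Q) ⟨F⟩).hom.app (op V)
        ((kernel.lift _ _ h0).hom.app (op V) (gen V)), ?_⟩, rfl⟩
      refine Eq.trans ?_ (ofSect_gen s₁)
      conv_rhs => rw [← kernel.lift_ι _ _ h0, ← hfac ⟨F⟩]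
      rfl
    exact Sheaf.epi_of_isLocallySurjective c
  exact isIso_of_mono_of_epi c

theorem isAffine_of_finite (Z : Scheme.{u}) [Finite Z] [T1Space Z] : IsAffine Z := by
  haveI : DiscreteTopology Z := inferInstance
  have h : ∀ z : Z, IsAffineOpen (⟨{z}, isOpen_discrete _⟩ : Z.Opens) := fun z => by
    obtain ⟨_, ⟨A, hA, rfl⟩, hzA, hsub⟩ := Z.isBasis_affineOpens.exists_subset_of_mem_open
      (Set.mem_singleton z) (isOpen_discrete ({z} : Set Z))
    have e : A = (⟨{z}, isOpen_discrete _⟩ : Z.Opens) :=
      TopologicalSpace.Opens.ext (Set.Subset.antisymm hsub (Set.singleton_subset_iff.2 hzA))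
    exact e ▸ hA
  have htop : IsAffineOpen (⊤ : Z.Opens) := by
    have := IsAffineOpen.iSup_of_disjoint h fun a b hab => by
      rw [Function.onFun, disjoint_iff]
      exact TopologicalSpace.Opens.ext (Set.disjoint_iff_inter_eq_empty.1 (Set.disjoint_singleton.2 hab))
    convert this
    exact TopologicalSpace.Opens.ext (Set.ext fun z => ⟨fun _ =>
      TopologicalSpace.Opens.mem_iSup.2 ⟨z, rfl⟩, fun _ => trivial⟩)
  haveI : IsAffine (⊤ : Z.Opens).toScheme := htop
  exact IsAffine.of_isIso (Z.topIso.inv)

theorem isSepClosed_of_ringEquiv {A B : Type u} [Field A] [Field B] (e : A ≃+* B) [IsSepClosed A] :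
    IsSepClosed B := by
  refine IsSepClosed.of_exists_root _ fun q _ hirr hsep => ?_
  obtain ⟨a, ha⟩ := IsSepClosed.exists_root (q.map e.symm.toRingHom)
    (by rw [Polynomial.degree_map]; exact (Polynomial.degree_pos_of_irreducible hirr).ne')
    (hsep.map)
  refine ⟨e a, ?_⟩
  have h2 : q.eval₂ e.symm.toRingHom a = 0 := by rw [← Polynomial.eval_map]; exact ha
  have h3 := Polynomial.hom_eval₂ q e.symm.toRingHom e.toRingHom a
  rw [h2, map_zero] at h3
  rw [Polynomial.eval, show RingHom.id B = e.toRingHom.comp e.symm.toRingHom from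
    RingHom.ext fun b => (e.apply_symm_apply b).symm]
  exact h3.symm

/-- The parts with finite support have no higher cohomology. -/
theorem H_suppPart_eq_zero (hsep : ∀ x : X, IsClosed ({x} : Set X) → IsSepClosed (X.residueField x))
    (F : Finset (ClosedPts X)) (q : ℕ) (hq : 1 ≤ q) (x : EtCoh.H X (suppPart Q F) q) : x = 0 := by
  let I := Scheme.IdealSheafData.vanishingIdeal (ptsClosed F)
  let i : I.subscheme ⟶ X := I.subschemeι
  have hrange : Set.range i.base = (ptsClosed F : Set X) := by
    rw [Scheme.IdealSheafData.range_subschemeι]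
    exact Scheme.IdealSheafData.coe_support_vanishingIdeal _
  have hmem : ∀ z : I.subscheme, IsClosed ({i.base z} : Set X) := fun z => by
    obtain ⟨y, -, hy⟩ : i.base z ∈ (ptsClosed F : Set X) := hrange ▸ ⟨z, rfl⟩
    rw [← hy]
    exact y.2
  have hinj : Function.Injective i.base := i.isClosedEmbedding.injective
  haveI : Finite I.subscheme := by
    haveI : Finite ↥(ptsClosed F : Set X) := (F.finite_toSet.image _).to_subtype
    exact Finite.of_injective (fun z => (⟨i.base z, hrange ▸ ⟨z, rfl⟩⟩ : ↥(ptsClosed F : Set X)))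
      fun a b h => hinj (congrArg Subtype.val h)
  haveI : T1Space I.subscheme := ⟨fun z => by
    have := (hmem z).preimage i.continuous
    rwa [← Set.image_singleton, hinj.preimage_image] at this⟩
  haveI := isAffine_of_finite I.subscheme
  have h1 : ∀ z : I.subscheme, IsClosed ({z} : Set I.subscheme) := fun z => isClosed_singleton
  have h2 : ∀ z : I.subscheme, IsSepClosed (I.subscheme.residueField z) := fun z => by
    haveI := hsep _ (hmem z)
    have hsur : Function.Surjective (i.residueFieldMap z).hom := by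
      intro b
      obtain ⟨b', rfl⟩ := IsLocalRing.residue_surjective b
      obtain ⟨a, rfl⟩ := i.stalkMap_surjective z b'
      exact ⟨X.residue (i.base z) a, congr($(Scheme.residue_residueFieldMap i z) a)⟩
    exact isSepClosed_of_ringEquiv (RingEquiv.ofBijective _ ⟨RingHom.injective _, hsur⟩)
  haveI := GrothLib.EtDer.pullFL i
  have hvan : ∀ V : X.Etale, Disjoint (Set.range V.hom.base) (Set.range i.base) →
      Subsingleton (EtCoh.sect (suppPart Q F) V) := by
    intro V hV
    refine ⟨fun a b => injective_app (kernel.ι (EtDual.unitApp (ptsCompl F).ι Q)) V ?_⟩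
    refine sub_eq_zero.1 (GrothLib.EtSite.section_eq_zero_of_germs _ _ _ fun Ω _ _ ξ t => ?_)
    rw [← map_sub]
    refine (stalk_map_germ ξ (kernel.ι (EtDual.unitApp (ptsCompl F).ι Q)) t (a - b)).symm.trans ?_
    rw [GrothLib.EtSupp19.stalk_map_eq_zero (ptsCompl F).ι _
      ((GrothLib.EtSupp19.pull_map_eq_zero_iff _ _).2 (kernel.condition _)) ξ (by
        rw [Scheme.Opens.range_ι]
        intro hc
        have e : t.left ≫ V.hom = ξ := Over.w t
        refine Set.disjoint_left.1 hV ⟨t.left.base (default : Spec (CommRingCat.of Ω)), rfl⟩ ?_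
        rw [hrange]
        have e2 : V.hom.base (t.left.base (default : Spec (CommRingCat.of Ω))) = ξ.base default :=
          congrArg (fun r => r.base (default : Spec (CommRingCat.of Ω))) e
        exact e2 ▸ hc)]
    rfl
  haveI : IsIso ((EtCoh.pullPushAdj i).unit.app (suppPart Q F)) :=
    GrothLib.EtSite.isIso_unit_of_vanish i _ hvan
  let u := (EtCoh.pullPushAdj i).unit.app (suppPart Q F)
  have h0 : Ext.comp x (Ext.mk₀ u) (add_zero q) = 0 := by
    refine (Groth.Agent.S14451.result i _
      (fun r hr => GrothLib.EtSite.isZero_Rpush_of_integral i _ r hr) q).1 ?_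
    haveI := GrothLib.EtBasicB.subsingleton_H_zeroDim I.subscheme h1 h2 ((EtCoh.pull i).obj (suppPart Q F)) q hq
    exact Subsingleton.elim _ _
  refine (GrothLib.EtDer.bijective_comp_mk₀ (asIso u) q).1 (h0.trans ?_)
  exact (Ext.zero_comp _ _ _ _ (add_zero q)).symm

/-- A sheaf with no stalks outside closed points with separably closed residue fields has no higher cohomology. -/
theorem H_eq_zero_of_supp_closedPts (hsep : ∀ x : X, IsClosed ({x} : Set X) → IsSepClosed (X.residueField x))
    (Q : EtCoh.Ab X)
    (hQ : ∀ (Ω : Type u) [Field Ω] [IsSepClosed Ω] (ξ : Spec (CommRingCat.of Ω) ⟶ X),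
      ¬ IsClosed ({ξ.base (default : Spec (CommRingCat.of Ω))} : Set X) → IsZero ((EtCoh.stalk ξ).obj Q))
    (q : ℕ) (hq : 1 ≤ q) (x : EtCoh.H X Q q) : x = 0 := by
  classical
  haveI := isIso_suppDesc hQ
  let c := colimit.desc (suppDiag Q) (suppCocone Q)
  obtain ⟨i, y, hy⟩ := (gen_and_kill (suppDiag Q) q).1 (Ext.comp x (Ext.mk₀ (inv c)) (add_zero q))
  rw [H_suppPart_eq_zero hsep i.down q hq y, Ext.zero_comp] at hy
  refine (GrothLib.EtDer.bijective_comp_mk₀ (asIso (inv c)) q).1 (hy.symm.trans ?_)
  exact (Ext.zero_comp _ _ _ _ (add_zero q)).symm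

end GrothLib.GalCd
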