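import Groth.Agent.Lib.GalCd.Main

/-!
# Reduction of degree two vanishing to constant coefficients over finite separable extensions
-/

set_option autoImplicit false
set_option backward.isDefEq.respectTransparency false
set_option backward.isDefEq.respectTransparency.types false
set_option linter.style.haveILetI false

universe u

open CategoryTheory CategoryTheory.Limits AlgebraicGeometry Opposite
open GrothLib.EtSite GrothLib.EtTrace21

noncomputable section

namespace GrothLib.GalCd

theorem germ_injective' {k Ω : Type u} [Field k] [Field Ω] [IsAlgClosed Ω]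
    (ξ : Spec (CommRingCat.of Ω) ⟶ Spec (CommRingCat.of k)) {G : EtCoh.Ab (Spec (CommRingCat.of k))}
    {W : (Spec (CommRingCat.of k)).Etale} [Subsingleton W.left]
    (t : (Scheme.pointSmallEtale ξ).fiber.obj W) : Function.Injective (germ ξ G t) := by
  rw [injective_iff_map_eq_zero]
  intro s hs
  obtain ⟨V, g, v, -, hg⟩ := eq_zero_nhd ξ G t s hs
  exact injective_map_of_surjective G g (fun x => ⟨v, Subsingleton.elim _ _⟩) (hg.trans (map_zero _).symm)

/-- Restriction to an intermediate field of a splitting field. -/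
theorem split_restr {k K L Ω : Type u} [Field k] [Field K] [Field L] [Field Ω] [IsAlgClosed Ω]
    [Algebra k K] [Algebra k L] [Algebra K L] [IsScalarTower k K L] [FiniteDimensional k K]
    [Algebra.IsSeparable k K] [FiniteDimensional k L] [Algebra.IsSeparable k L] [FiniteDimensional K L] [IsGalois K L]
    [Etale (specMap k K)] [EtShriek.JCont (specMap k K)]
    (ξ : Spec (CommRingCat.of Ω) ⟶ Spec (CommRingCat.of k))
    (ξK : Spec (CommRingCat.of Ω) ⟶ Spec (CommRingCat.of K)) (hξ : ξK ≫ specMap k K = ξ)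
    (ψ : L →+* Ω) (hψ : Spec.map (CommRingCat.ofHom (ψ.comp (algebraMap K L))) = ξK)
    {G : EtCoh.Ab (Spec (CommRingCat.of k))} (h : Split ξ L G) (hfin : Finite ((EtCoh.stalk ξ).obj G)) :
    Split ξK L ((EtShriek.restrAlong (specMap k K)).obj G) ∧
      Finite ((EtCoh.stalk ξK).obj ((EtShriek.restrAlong (specMap k K)).obj G)) := by
  let j := specMap k K
  let G₁ := (EtShriek.restrAlong j).obj G
  let W₁ := (EtShriek.compEtale j).obj (VL K L)
  haveI : Subsingleton W₁.left := inferInstanceAs (Subsingleton (PrimeSpectrum L))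
  let iso₁ : W₁ ⟶ VL k L := MorphismProperty.Over.homMk (𝟙 _) (by
    change 𝟙 _ ≫ Spec.map _ = Spec.map _ ≫ Spec.map _
    rw [Category.id_comp, ← Spec.map_comp, ← CommRingCat.ofHom_comp, ← IsScalarTower.algebraMap_eq])
  have hsplit : Split ξK L G₁ := by
    intro t y
    letI : Algebra K Ω := (Spec.preimage ξK).hom.toAlgebra
    let ψK : L →ₐ[K] Ω := { ψ with
      commutes' := fun r => by
        have e : Spec.preimage ξK = CommRingCat.ofHom (ψ.comp (algebraMap K L)) := by
          rw [← hψ, Spec.preimage_map]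
        exact (congr($e r)).symm }
    obtain ⟨V, v, s, rfl⟩ := exists_germ ξK G₁ y
    obtain ⟨E, _, _, hE⟩ := exists_field_bound v
    haveI : FiniteDimensional K ψK.fieldRange := ψK.toLinearMap.finiteDimensional_range
    haveI : Algebra.IsSeparable K ψK.fieldRange := AlgEquiv.Algebra.isSeparable (AlgEquiv.ofInjectiveField ψK)
    let E' : IntermediateField K Ω := E ⊔ ψK.fieldRange
    haveI : Algebra.IsSeparable K E' := (le_separableClosure_iff K Ω E').1
      (sup_le (le_separableClosure K Ω E) (le_separableClosure K Ω _))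
    obtain ⟨m, t', ht', hm⟩ := hE E' le_sup_left
    let jL : L →ₐ[K] E' := ψK.codRestrict E'.toSubalgebra fun x => (le_sup_right : ψK.fieldRange ≤ E') ⟨x, rfl⟩
    let hK : VL K E' ⟶ VL K L := MorphismProperty.Over.homMk (Spec.map (CommRingCat.ofHom jL.toRingHom)) (by
      change Spec.map _ ≫ Spec.map _ = Spec.map _
      rw [← Spec.map_comp, ← CommRingCat.ofHom_comp]
      exact congrArg (fun f => Spec.map (CommRingCat.ofHom f)) jL.comp_algebraMap)
    let W := (EtShriek.compEtale j).obj (VL K E')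
    haveI : Subsingleton W.left := inferInstanceAs (Subsingleton (PrimeSpectrum E'))
    let tk : (Scheme.pointSmallEtale ξ).fiber.obj W := Over.homMk t'.left (by
      change t'.left ≫ (VL K E').hom ≫ j = ξ
      rw [← hξ, ← Category.assoc]
      exact congrArg (· ≫ j) (Over.w t'))
    let hW : W ⟶ VL k L := (EtShriek.compEtale j).map hK ≫ iso₁
    let s₁ : EtCoh.sect G W := G₁.obj.map m.op s
    obtain ⟨e, he⟩ := h ((Scheme.pointSmallEtale ξ).fiber.map hW tk) (germ ξ G tk s₁)
    have heq : G.obj.map hW.op e = s₁ := germ_injective' ξ tk (by rw [germ_map, he])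
    let e' : EtCoh.sect G₁ (VL K L) := G.obj.map iso₁.op e
    have h1 : G₁.obj.map hK.op e' = G₁.obj.map m.op s := by
      refine Eq.trans ?_ heq
      change G.obj.map ((EtShriek.compEtale j).map hK).op (G.obj.map iso₁.op e) = _
      rw [← Functor.map_comp_apply, ← op_comp]
    obtain ⟨σ, hσ⟩ := exists_galMap_fib ξK t ((Scheme.pointSmallEtale ξK).fiber.map hK t')
    refine ⟨G₁.obj.map (galMap σ).op e', ?_⟩
    rw [germ_map, hσ, ← germ_map, h1, germ_map, hm]
  refine ⟨hsplit, ?_⟩
  haveI : Finite (EtCoh.sect G₁ (VL K L)) := by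
    haveI : Finite (EtCoh.sect G W₁) := by
      obtain ⟨t₀, -⟩ := exists_fib_field ξ (show ↥W₁.left from (default : PrimeSpectrum L))
      exact Finite.of_injective _ (germ_injective' ξ t₀)
    exact ‹Finite (EtCoh.sect G W₁)›
  obtain ⟨t⟩ := exists_fib_VL ξK L
  exact Finite.of_surjective _ (hsplit t)

theorem H_two_eq_zero (k : Type u) [Field k] (p : ℕ) [Fact p.Prime] 
    (hc : ∀ (K : Type u) [Field K] [Algebra k K] [FiniteDimensional k K] [Algebra.IsSeparable k K],
      Subsingleton (EtCoh.H (Spec (CommRingCat.of K)) (EtCoh.const (Spec (CommRingCat.of K)) (ZMod p)) 2))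
    (G : EtCoh.Ab (Spec (CommRingCat.of k))) (hG : p • 𝟙 G = 0)
    (x : EtCoh.H (Spec (CommRingCat.of k)) G 2) : x = 0 := by
  obtain ⟨G', i, x', hG', hfin, rfl⟩ := exists_finite_preimage (algPt k) p 2 G hG x
  suffices hx' : x' = 0 by rw [hx', CategoryTheory.Abelian.Ext.zero_comp]
  obtain ⟨L, _, _, _, _, hsp⟩ := exists_split (algPt k) (algPt_alg k) hfin
  obtain ⟨P⟩ : Nonempty (Sylow p (L ≃ₐ[k] L)) := inferInstance
  let K : IntermediateField k L := IntermediateField.fixedField (P : Subgroup (L ≃ₐ[k] L))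
  have hdeg : ¬ p ∣ Module.finrank k K := by
    have h1 : Module.finrank K L = Nat.card (P : Subgroup (L ≃ₐ[k] L)) := IntermediateField.finrank_fixedField_eq_card _
    have h2 := Module.finrank_mul_finrank k K L
    rw [h1, ← IsGalois.card_aut_eq_finrank k L, mul_comm, ← Subgroup.card_mul_index (P : Subgroup (L ≃ₐ[k] L))] at h2
    rw [Nat.eq_of_mul_eq_mul_left Nat.card_pos h2]
    exact P.not_dvd_index
  have hPg : IsPGroup p (L ≃ₐ[K] L) := by
    let r : (L ≃ₐ[K] L) →* (P : Subgroup (L ≃ₐ[k] L)) :=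
      { toFun := fun σ => ⟨σ.restrictScalars k, by
          rw [← IntermediateField.fixingSubgroup_fixedField (P : Subgroup (L ≃ₐ[k] L))]
          exact (IntermediateField.mem_fixingSubgroup_iff _ _).2 fun x hx => σ.commutes ⟨x, hx⟩⟩
        map_one' := rfl
        map_mul' := fun _ _ => rfl }
    exact P.isPGroup'.of_injective r fun a b h => AlgEquiv.ext fun x =>
      congr($(congrArg (fun q : (P : Subgroup (L ≃ₐ[k] L)) => (q : L ≃ₐ[k] L)) h) x)
  let f := specMap k K
  haveI := isFinite_specMap k K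
  haveI := etale_specMap k K
  haveI := GrothLib.Constructible.jcont f
  haveI := GrothLib.EtDer.pullFL f
  let ψ : L →ₐ[k] AlgebraicClosure k := IsAlgClosed.lift
  let ξK : Spec (CommRingCat.of (AlgebraicClosure k)) ⟶ Spec (CommRingCat.of K) :=
    Spec.map (CommRingCat.ofHom (ψ.toRingHom.comp (algebraMap K L)))
  have hξ : ξK ≫ f = algPt k := by
    change Spec.map _ ≫ Spec.map _ = Spec.map _
    rw [← Spec.map_comp, ← CommRingCat.ofHom_comp]
    exact congrArg (fun g => Spec.map (CommRingCat.ofHom g)) (RingHom.ext fun r => ψ.commutes r)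
  obtain ⟨hsp₁, hfin₁⟩ := split_restr (algPt k) ξK hξ ψ.toRingHom rfl hsp hfin
  let G₁ := (EtShriek.restrAlong f).obj G'
  haveI : PreservesFiniteLimits (EtShriek.restrAlong f) :=
    preservesFiniteLimits_of_natIso (GrothLib.ExtZero.restrIsoPull f).symm
  haveI : (EtShriek.restrAlong f).Additive := Functor.additive_of_preserves_binary_products _
  have hG₁ : p • 𝟙 G₁ = 0 := by
    have e := congrArg (fun q => (EtShriek.restrAlong f).map q) hG'
    simpa [Functor.map_nsmul] using e
  have hsub := subsingleton_H_of_split ξK p hPg 2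
    (hc K) _ G₁ rfl hG₁ hfin₁ hsp₁
  let y : EtCoh.H (Spec (CommRingCat.of k)) ((EtCoh.push f).obj G₁) 2 :=
    CategoryTheory.Abelian.Ext.comp x' (CategoryTheory.Abelian.Ext.mk₀ (unitPush f G')) (add_zero 2)
  have hy : y = 0 := (Groth.Agent.S14451.result f G₁
    (fun q hq => GrothLib.EtSite.isZero_Rpush_of_integral f G₁ q hq) 2).1 (hsub.elim _ _)
  have hd : Module.finrank k K • x' = 0 := by
    rw [← comp_nsmul_id x' (Module.finrank k K), ← unit_tr f G' (Module.finrank k K)
      (fun Ω _ _ η => natCard_pts k K Ω η), ← CategoryTheory.Abelian.Ext.mk₀_comp_mk₀,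
      ← CategoryTheory.Abelian.Ext.comp_assoc_of_third_deg_zero]
    change CategoryTheory.Abelian.Ext.comp y _ _ = 0
    rw [hy, CategoryTheory.Abelian.Ext.zero_comp]
  refine AddMonoid.addOrderOf_eq_one_iff.1 (Nat.dvd_one.1 ?_)
  rw [← ((Fact.out : p.Prime).coprime_iff_not_dvd.2 hdeg).gcd_eq_one]
  exact Nat.dvd_gcd (addOrderOf_dvd_of_nsmul_eq_zero (nsmul_H hG' x')) (addOrderOf_dvd_of_nsmul_eq_zero hd)

end GrothLib.GalCd
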