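import Groth.Agent.Lib.GalCd.Killed
import Groth.Agent.Lib.EtColim.Cohomology
import Mathlib.Data.Nat.Factorial.Basic

/-!
# Primary torsion of the cohomology of torsion sheaves
-/

set_option autoImplicit false
set_option backward.isDefEq.respectTransparency false
set_option backward.isDefEq.respectTransparency.types false
set_option linter.style.haveILetI false

universe u

open CategoryTheory CategoryTheory.Limits CategoryTheory.Abelian AlgebraicGeometry Opposite
open GrothLib.EtSite GrothLib.EtColim GrothLib.EtTrace21 GrothLib.EtLimit GrothLib.SheafCoh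

noncomputable section

namespace GrothLib.GalCd

variable {X : Scheme.{u}} (F : EtCoh.Ab X)

theorem kernelι_nsmul {i j : ℕ} (h : i ≤ j) :
    kernel.ι (i.factorial • 𝟙 F) ≫ (j.factorial • 𝟙 F) = 0 := by
  obtain ⟨m, hm⟩ := Nat.factorial_dvd_factorial h
  have h0 : i.factorial • kernel.ι (i.factorial • 𝟙 F) = 0 := by
    have := kernel.condition (i.factorial • 𝟙 F)
    rwa [Preadditive.comp_nsmul, Category.comp_id] at this
  rw [Preadditive.comp_nsmul, Category.comp_id, hm, mul_comm, mul_nsmul', h0, nsmul_zero]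

/-- The system of kernels of multiplications by factorials. -/
def killDiag : ULift.{u + 1} ℕ ⥤ EtCoh.Ab X where
  obj i := kernel (i.down.factorial • 𝟙 F)
  map {i j} h := kernel.lift _ (kernel.ι _) (kernelι_nsmul F (ULift.down_le.mpr (leOfHom h)))
  map_id i := equalizer.hom_ext (by simp)
  map_comp f g := equalizer.hom_ext (by simp)

/-- Its evident cocone. -/
def killCocone : Cocone (killDiag F) where
  pt := F
  ι :=
    { app := fun i => kernel.ι _
      naturality := fun i j h => by simp [killDiag] }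

variable {F}

theorem isIso_desc [CompactSpace X] [QuasiSeparatedSpace X] (hF : EtCoh.IsTorsion F) :
    IsIso (colimit.desc (killDiag F) (killCocone F)) := by
  let c := colimit.desc (killDiag F) (killCocone F)
  have hfac : ∀ i, colimit.ι (killDiag F) i ≫ c = kernel.ι _ := fun i => colimit.ι_desc _ _
  haveI : Mono c := by
    haveI : Sheaf.IsLocallyInjective c := Sheaf.isLocallyInjective_iff_injective c |>.2 fun U => by
      rw [injective_iff_map_eq_zero]
      intro s hs
      refine GrothLib.EtSite.section_eq_zero_of_germs _ U.unop s fun Ω _ _ η t => ?_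
      obtain ⟨_, ⟨A, hA, rfl⟩, hxA, -⟩ := U.unop.left.isBasis_affineOpens.exists_subset_of_mem_open
        (Set.mem_univ (t.left.base (default : Spec (CommRingCat.of Ω)))) isOpen_univ
      let A₀ : U.unop.left.Opens := A
      let V := opensObj U.unop A₀
      let g : V ⟶ U.unop := opensHom U.unop A₀
      obtain ⟨t', ht', -⟩ := GrothLib.EtBasicB.exists_fib_lift η g t
        (⟨_, hxA⟩ : A₀) rfl
      rw [← ht', ← germ_map]
      have hV : Qcqs V :=
        haveI : IsAffine A₀.toScheme := hA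
        ⟨(isCompact_iff_compactSpace.1 hA.isCompact :), (inferInstance : QuasiSeparatedSpace ↥A₀.toScheme)⟩
      obtain ⟨i, a, ha⟩ := (ColimCoh.sections_colimit cov_h1 cov_h2 (killDiag F ⋙ (E X).functor)
        (isColimitOfPreserves (E X).functor (colimit.isColimit (killDiag F))) (U := up V) hV).1
        ((colimit (killDiag F)).obj.map g.op s)
      replace ha : (colimit.ι (killDiag F) i).hom.app (op V) a = (colimit (killDiag F)).obj.map g.op s := ha
      have h0 : (kernel.ι (i.down.factorial • 𝟙 F)).hom.app (op V) a = 0 := by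
        rw [← hfac i]
        change c.hom.app (op V) ((colimit.ι (killDiag F) i).hom.app (op V) a) = 0
        rw [ha]
        refine (NatTrans.naturality_apply c.hom g.op s).trans ?_
        rw [hs, map_zero]
      have ha0 : a = 0 := injective_app (kernel.ι (i.down.factorial • 𝟙 F)) V (h0.trans (map_zero _).symm)
      rw [← ha, ha0, map_zero, map_zero]
    exact Sheaf.mono_of_isLocallyInjective c
  haveI : Epi c := by
    haveI : Sheaf.IsLocallySurjective c := by
      refine ⟨fun {U} s => ?_⟩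
      rw [mem_topology_iff]
      intro x
      obtain ⟨V, g, ⟨v, hv⟩, hs⟩ := hF U s x
      obtain ⟨m, hm, hm0⟩ := isOfFinAddOrder_iff_nsmul_eq_zero.1 hs
      let i : ULift.{u + 1} ℕ := ⟨m⟩
      have h0 : ofSect (F.obj.map g.op s) ≫ (m.factorial • 𝟙 F) = 0 := ZV_ext (by
        obtain ⟨d, hd⟩ := Nat.dvd_factorial hm le_rfl
        rw [Preadditive.comp_nsmul, Category.comp_id]
        refine (map_nsmul (AddMonoidHom.mk' (fun a : ZV V ⟶ F => a.hom.app (op V) (gen V)) fun _ _ => rfl)
          m.factorial (ofSect (F.obj.map g.op s))).trans ?_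
        change m.factorial • _ = 0
        rw [AddMonoidHom.mk'_apply, ofSect_gen, hd, mul_comm, mul_nsmul', hm0, nsmul_zero])
      refine ⟨V, g, v, ⟨(colimit.ι (killDiag F) i).hom.app (op V)
        ((kernel.lift _ _ h0).hom.app (op V) (gen V)), ?_⟩, hv⟩
      refine Eq.trans ?_ (ofSect_gen (F.obj.map g.op s))
      conv_rhs => rw [← kernel.lift_ι _ _ h0, ← hfac i]
      rfl
    exact Sheaf.epi_of_isLocallySurjective c
  exact isIso_of_mono_of_epi c

/-- A class in a torsion sheaf comes from a sheaf killed by a positive integer. -/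
theorem exists_killed_preimage [CompactSpace X] [QuasiSeparatedSpace X] (hF : EtCoh.IsTorsion F) (q : ℕ)
    (x : EtCoh.H X F q) :
    ∃ (G : EtCoh.Ab X) (i : G ⟶ F) (y : EtCoh.H X G q) (N : ℕ),
      N ≠ 0 ∧ N • 𝟙 G = 0 ∧ Ext.comp y (Ext.mk₀ i) (add_zero q) = x := by
  haveI := isIso_desc hF
  let c := colimit.desc (killDiag F) (killCocone F)
  obtain ⟨i, y, hy⟩ := (gen_and_kill (killDiag F) q).1 (Ext.comp x (Ext.mk₀ (inv c)) (add_zero q))
  refine ⟨kernel (i.down.factorial • 𝟙 F), kernel.ι _, y, i.down.factorial, Nat.factorial_ne_zero _, ?_, ?_⟩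
  · rw [← cancel_mono (kernel.ι _), Preadditive.nsmul_comp, Category.id_comp, zero_comp]
    have := kernel.condition (i.down.factorial • 𝟙 F)
    rwa [Preadditive.comp_nsmul, Category.comp_id] at this
  · have h1 : (colimit.ι (killDiag F) i ≫ c) = kernel.ι _ := colimit.ι_desc _ _
    have h2 := congrArg (fun z => Ext.comp z (Ext.mk₀ c) (add_zero q)) hy
    simp only [Ext.comp_assoc_of_third_deg_zero, Ext.mk₀_comp_mk₀, IsIso.inv_hom_id, Ext.comp_mk₀_id] at h2
    rw [h1] at h2
    exact h2

/-- Vanishing for sheaves killed by powers of `p`. -/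
theorem H_eq_zero_of_killed_pow (p : ℕ) (r : ℕ)
    (h : ∀ G : EtCoh.Ab X, p • 𝟙 G = 0 → ∀ y : EtCoh.H X G r, y = 0) :
    ∀ (v : ℕ) (G : EtCoh.Ab X), p ^ v • 𝟙 G = 0 → ∀ y : EtCoh.H X G r, y = 0
  | 0, G, hG, y => by
    rw [pow_zero, one_smul] at hG
    rw [← Ext.comp_mk₀_id y, hG]
    simp
  | v + 1, G, hG, y => by
    let T := ShortComplex.mk (kernel.ι (p • 𝟙 G)) (cokernel.π (kernel.ι (p • 𝟙 G))) (cokernel.condition _)
    have hT : T.ShortExact := { exact := T.exact_of_g_is_cokernel (cokernelIsCokernel _) }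
    let b : T.X₃ ⟶ G := Abelian.factorThruCoimage (p • 𝟙 G)
    have hb : T.g ≫ b = p • 𝟙 G := Abelian.coimage.fac _
    haveI : Mono b := inferInstanceAs (Mono (Abelian.factorThruCoimage _))
    have hQ : p ^ v • 𝟙 T.X₃ = 0 := by
      haveI : Epi T.g := hT.epi_g
      rw [← cancel_mono b, ← cancel_epi T.g, Preadditive.nsmul_comp, Category.id_comp, Preadditive.comp_nsmul, hb,
        zero_comp, comp_zero, ← mul_nsmul', ← pow_succ, hG]
    obtain ⟨w, hw⟩ := Ext.covariant_sequence_exact₂ _ hT y (H_eq_zero_of_killed_pow p r h v T.X₃ hQ _)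
    have hK : p • 𝟙 T.X₁ = 0 := by
      rw [← cancel_mono (kernel.ι (p • 𝟙 G)), Preadditive.nsmul_comp, Category.id_comp, zero_comp]
      have := kernel.condition (p • 𝟙 G)
      rwa [Preadditive.comp_nsmul, Category.comp_id] at this
    rw [← hw, h _ hK w, Ext.zero_comp]

/-- Vanishing for sheaves killed by `p` gives vanishing of primary parts for torsion sheaves. -/
theorem primary_eq_zero [CompactSpace X] [QuasiSeparatedSpace X] (p : ℕ) [Fact p.Prime] (r : ℕ)
    (h : ∀ G : EtCoh.Ab X, p • 𝟙 G = 0 → ∀ y : EtCoh.H X G r, y = 0) (hF : EtCoh.IsTorsion F)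
    (x : EtCoh.H X F r) (hx : ∃ m : ℕ, p ^ m • x = 0) : x = 0 := by
  obtain ⟨m, hm⟩ := hx
  obtain ⟨G, i, y, N, hN, hG, rfl⟩ := exists_killed_preimage hF r x
  obtain ⟨v, M, hM, rfl⟩ := Nat.exists_eq_pow_mul_and_not_dvd hN p (Fact.out : p.Prime).ne_one
  have hker : p ^ v • 𝟙 (kernel (p ^ v • 𝟙 G)) = 0 := by
    rw [← cancel_mono (kernel.ι _), Preadditive.nsmul_comp, Category.id_comp, zero_comp]
    have := kernel.condition (p ^ v • 𝟙 G)
    rwa [Preadditive.comp_nsmul, Category.comp_id] at this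
  have hMf : (M • 𝟙 G) ≫ (p ^ v • 𝟙 G) = 0 := by
    rw [Preadditive.comp_nsmul, Category.comp_id, ← mul_nsmul', hG]
  let f : G ⟶ kernel (p ^ v • 𝟙 G) := kernel.lift _ (M • 𝟙 G) hMf
  have hMy : M • y = 0 := by
    rw [← comp_nsmul_id y M, ← kernel.lift_ι _ _ hMf, ← Ext.mk₀_comp_mk₀, ← Ext.comp_assoc_of_second_deg_zero,
      H_eq_zero_of_killed_pow p r h v _ hker (Ext.comp y (Ext.mk₀ f) (add_zero r)), Ext.zero_comp]
  have hMx : M • Ext.comp y (Ext.mk₀ i) (add_zero r) = 0 := by
    have e := map_nsmul (AddMonoidHom.mk' (fun z : EtCoh.H X G r => Ext.comp z (Ext.mk₀ i) (add_zero r))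
      (fun a b => Ext.add_comp _ _ _ _)) M y
    simp only [AddMonoidHom.mk'_apply, hMy, Ext.zero_comp] at e
    exact e.symm
  refine AddMonoid.addOrderOf_eq_one_iff.1 (Nat.dvd_one.1 ?_)
  have hcop : Nat.Coprime (p ^ m) M := ((Fact.out : p.Prime).coprime_iff_not_dvd.2 hM).pow_left m
  rw [← hcop.gcd_eq_one]
  exact Nat.dvd_gcd (addOrderOf_dvd_of_nsmul_eq_zero hm) (addOrderOf_dvd_of_nsmul_eq_zero hMx)

end GrothLib.GalCd
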