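import Groth.Agent.Lib.GalCd.CycH2
import Mathlib.GroupTheory.Sylow
import Mathlib.GroupTheory.Perm.Cycle.Type

/-!
# Surjective norms kill the `p`-primary part of `H²(-, 𝔾ₘ)` of a field
-/

set_option autoImplicit false
set_option backward.isDefEq.respectTransparency false
set_option backward.isDefEq.respectTransparency.types false
set_option linter.style.haveILetI false

universe u

open CategoryTheory CategoryTheory.Limits CategoryTheory.Abelian AlgebraicGeometry Opposite
open GrothLib.EtSite GrothLib.EtTrace21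

noncomputable section

namespace GrothLib.GalCd

/-- Norms of cyclic extensions of degree `p` of separable algebraic extensions are surjective. -/
def NormSurj (p : ℕ) (K : Type u) [Field K] : Prop :=
  ∀ (E : Type u) [Field E] [Algebra K E] [Algebra.IsSeparable K E] (M : Type u) [Field M] [Algebra E M]
    [FiniteDimensional E M] [IsGalois E M], Module.finrank E M = p → ∀ x : E, x ≠ 0 → ∃ y : M, Algebra.norm E y = x

theorem normSurj_trans {p : ℕ} {K E : Type u} [Field K] [Field E] [Algebra K E] [Algebra.IsSeparable K E]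
    (h : NormSurj p K) : NormSurj p E := fun E' _ _ _ M _ _ _ _ hM => by
  letI : Algebra K E' := ((algebraMap E E').comp (algebraMap K E)).toAlgebra
  haveI : IsScalarTower K E E' := IsScalarTower.of_algebraMap_eq fun _ => rfl
  haveI : Algebra.IsSeparable K E' := Algebra.IsSeparable.trans K E E'
  exact h E' M hM

theorem Hpull_comp_mk₀ {U X : Scheme.{u}} (f : U ⟶ X) [PreservesFiniteLimits (EtCoh.pull f)] {A B : EtCoh.Ab X}
    (φ : A ⟶ B) (n : ℕ) (x : EtCoh.H X A n) :
    EtCore.Hpull f B n (Ext.comp x (Ext.mk₀ φ) (add_zero n)) =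
      Ext.comp (EtCore.Hpull f A n x) (Ext.mk₀ ((EtCoh.pull f).map φ)) (add_zero n) := by
  rw [GrothLib.EtDer.MV.Hpull_apply, GrothLib.EtDer.MV.Hpull_apply]
  simp [Ext.mapExactFunctor_comp, Ext.mapExactFunctor_mk₀, Ext.comp_assoc_of_third_deg_zero]

/-- A class killed along a composite gives, on the intermediate scheme, a class killed along the first map. -/
theorem exists_res {W U X : Scheme.{u}} (f : W ⟶ U) (t : U ⟶ X) (f₀ : W ⟶ X) (w : f ≫ t = f₀)
    [Etale t] [EtShriek.JCont t] [PreservesFiniteLimits (EtCoh.pull f)] [PreservesFiniteLimits (EtCoh.pull t)]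
    [PreservesFiniteLimits (EtCoh.pull f₀)] (n : ℕ) (x : EtCoh.H X (EtCoh.Gm X) n)
    (h : EtCore.Hpull f₀ (EtCoh.Gm X) n x = 0) :
    ∃ y : EtCoh.H U (EtCoh.Gm U) n, EtCore.Hpull f (EtCoh.Gm U) n y = 0 ∧
      (y = 0 → EtCore.Hpull t (EtCoh.Gm X) n x = 0) := by
  obtain ⟨e₀⟩ := restrAlong_Gm t
  let e : (EtCoh.pull t).obj (EtCoh.Gm X) ≅ EtCoh.Gm U :=
    ((GrothLib.ExtZero.restrIsoPull t).app (EtCoh.Gm X)).symm ≪≫ e₀
  refine ⟨Ext.comp (EtCore.Hpull t (EtCoh.Gm X) n x) (Ext.mk₀ e.hom) (add_zero n), ?_, fun hy => ?_⟩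
  · rw [GrothLib.EtDer.bijective_Hpull_comp_iff f t f₀ w] at h
    have h0 := (GrothLib.EtDer.bijective_comp_mk₀
      (((EtCore.pullComp f t).symm ≪≫ EtCore.pullCongr w).app (EtCoh.Gm X)) n).1
      (h.trans (Ext.zero_comp _ _ _ _ (add_zero n)).symm)
    rw [Hpull_comp_mk₀]; simp only [Function.comp_apply] at h0; rw [h0, Ext.zero_comp]
  · exact (GrothLib.EtDer.bijective_comp_mk₀ e n).1 (hy.trans (Ext.zero_comp _ _ _ _ (add_zero n)).symm)

theorem eq_zero_of_nsmul_coprime {A : Type*} [AddCommGroup A] {a b : ℕ} (hab : Nat.Coprime a b) {x : A}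
    (ha : a • x = 0) (hb : b • x = 0) : x = 0 :=
  AddMonoid.addOrderOf_eq_one_iff.1 (Nat.eq_one_of_dvd_coprimes hab
    (addOrderOf_dvd_of_nsmul_eq_zero ha) (addOrderOf_dvd_of_nsmul_eq_zero hb))

theorem eq_zero_of_pGroup (p : ℕ) [hp : Fact p.Prime] : ∀ (a : ℕ) (K L : Type u) [Field K] [Field L] [Algebra K L]
    [FiniteDimensional K L] [IsGalois K L] [PreservesFiniteLimits (EtCoh.pull (specMap K L))],
    Module.finrank K L = p ^ a → NormSurj p K →
      ∀ x : EtCoh.H (Spec (CommRingCat.of K)) (EtCoh.Gm (Spec (CommRingCat.of K))) 2,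
        EtCore.Hpull (specMap K L) (EtCoh.Gm (Spec (CommRingCat.of K))) 2 x = 0 → x = 0
  | 0, K, L, _, _, _, _, _, _, ha, _, x, hx => by
    have := finrank_nsmul_eq_zero K L _ 2 x hx
    rwa [ha, pow_zero, one_nsmul] at this
  | a + 1, K, L, _, _, _, _, _, _, ha, hN, x, hx => by
    classical
    have hcard : Nat.card (L ≃ₐ[K] L) = p ^ (a + 1) := by rw [IsGalois.card_aut_eq_finrank, ha]
    obtain ⟨H, hH⟩ := Sylow.exists_subgroup_card_pow_prime p (G := L ≃ₐ[K] L) (n := a)
      (by rw [hcard]; exact pow_dvd_pow p (Nat.le_succ a))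
    have hidx : H.index = p := by
      have e := H.card_mul_index
      rw [hH, hcard, pow_succ] at e
      exact Nat.eq_of_mul_eq_mul_left (pow_pos hp.out.pos a) e
    haveI : H.Normal := Subgroup.normal_of_index_eq_minFac_card (by
      rw [hidx, hcard, Nat.Prime.pow_minFac hp.out (Nat.succ_ne_zero a)])
    let E : IntermediateField K L := IntermediateField.fixedField H
    haveI : IsGalois K E := IsGalois.of_fixedField_normal_subgroup H
    have h1 : Module.finrank E L = p ^ a := by rw [IntermediateField.finrank_fixedField_eq_card, hH]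
    have h2 : Module.finrank K E = p := by
      have := Module.finrank_mul_finrank K E L
      rw [h1, ha, pow_succ'] at this
      exact Nat.eq_of_mul_eq_mul_right (pow_pos hp.out.pos a) this
    haveI := etale_specMap K E
    haveI := GrothLib.Constructible.jcont (specMap K E)
    haveI := GrothLib.EtDer.pullFL (specMap K E)
    haveI := GrothLib.EtDer.pullFL (specMap E L)
    obtain ⟨y, hy, hyx⟩ := exists_res (specMap E L) (specMap K E) (specMap K L) (by
      rw [← Spec.map_comp, ← CommRingCat.ofHom_comp, ← IsScalarTower.algebraMap_eq]) 2 x hx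
    refine H2Gm_eq_zero_of_norm_surjective h2 (hN K E h2) x (hyx ?_)
    exact eq_zero_of_pGroup p a E L h1 (normSurj_trans hN) y hy

/-- Surjective norms kill `p`-primary torsion in `H²(-, 𝔾ₘ)`. -/
theorem primary_Br_eq_zero (p : ℕ) [hp : Fact p.Prime] (K : Type u) [Field K] (hN : NormSurj p K)
    (x : EtCoh.H (Spec (CommRingCat.of K)) (EtCoh.Gm (Spec (CommRingCat.of K))) 2) (m : ℕ) (hm : p ^ m • x = 0) :
    x = 0 := by
  obtain ⟨T, hT, h⟩ := exists_etale_kill _ 1 x
  obtain ⟨ι, Kf, _, _, _, _, e, he⟩ := (GrothLib.EtBasicB.etale_of_field_iff K T.left T.hom).1 T.prop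
  obtain ⟨t, -⟩ := hT.surj (show ↥(Spec (CommRingCat.of K)) from (default : PrimeSpectrum K))
  obtain ⟨i, -⟩ := (sigmaOpenCover fun i => Spec (CommRingCat.of (Kf i))).exists_eq (e.inv t)
  let j₀ : Kf i →ₐ[K] SeparableClosure K := IsSepClosed.lift
  let L : Type u := IntermediateField.normalClosure K (Kf i) (SeparableClosure K)
  let j₁ : Kf i →ₐ[K] L := j₀.codRestrict _ fun x => j₀.fieldRange_le_normalClosure ⟨x, rfl⟩
  haveI := GrothLib.EtDer.pullFL (specMap K L)
  have h0 := h (specMap K L) (Spec.map (CommRingCat.ofHom j₁.toRingHom) ≫ Sigma.ι (fun i => Spec (CommRingCat.of (Kf i))) i ≫ e.hom) (by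
    rw [Category.assoc, Category.assoc, he i, ← Spec.map_comp, ← CommRingCat.ofHom_comp]
    exact congrArg (fun f => Spec.map (CommRingCat.ofHom f)) j₁.comp_algebraMap)
  obtain ⟨P⟩ : Nonempty (Sylow p (L ≃ₐ[K] L)) := inferInstance
  let E : IntermediateField K L := IntermediateField.fixedField (P : Subgroup (L ≃ₐ[K] L))
  obtain ⟨a, ha⟩ := IsPGroup.iff_card.1 P.isPGroup'
  have h1 : Module.finrank E L = p ^ a := by rw [IntermediateField.finrank_fixedField_eq_card, ha]
  have hdeg : ¬ p ∣ Module.finrank K E := by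
    have h2 := Module.finrank_mul_finrank K E L
    rw [h1, ← IsGalois.card_aut_eq_finrank K L, mul_comm, ← Subgroup.card_mul_index (P : Subgroup (L ≃ₐ[K] L)),
      ha] at h2
    rw [Nat.eq_of_mul_eq_mul_left (pow_pos hp.out.pos a) h2]
    exact P.not_dvd_index
  haveI := etale_specMap K E
  haveI := GrothLib.Constructible.jcont (specMap K E)
  haveI := GrothLib.EtDer.pullFL (specMap K E)
  haveI := GrothLib.EtDer.pullFL (specMap E L)
  obtain ⟨y, hy, hyx⟩ := exists_res (specMap E L) (specMap K E) (specMap K L) (by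
    rw [← Spec.map_comp, ← CommRingCat.ofHom_comp, ← IsScalarTower.algebraMap_eq]) 2 x h0
  have hx := finrank_nsmul_eq_zero K E _ 2 x (hyx (eq_zero_of_pGroup p a E L h1 (normSurj_trans hN) y hy))
  exact eq_zero_of_nsmul_coprime (((hp.out.coprime_iff_not_dvd).2 hdeg).pow_left m) hm hx

end GrothLib.GalCd
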