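import Groth.Agent.Lib.GalCd.Main
import Groth.Agent.Lib.EtTrace21.H90
import Groth.Agent.Lib.EtBasicB.RootCover
import Groth.Prelude.Def_SixF3
import Mathlib.RingTheory.RootsOfUnity.PrimitiveRoots

/-!
# Roots of unity and constant coefficients over a field
-/

set_option autoImplicit false
set_option backward.isDefEq.respectTransparency false
set_option backward.isDefEq.respectTransparency.types false
set_option linter.style.haveILetI false

universe u

open CategoryTheory CategoryTheory.Limits CategoryTheory.Abelian AlgebraicGeometry Opposite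
open GrothLib.EtSite GrothLib.EtColim GrothLib.EtTrace21

noncomputable section

namespace GrothLib.GalCd

variable (k : Type u) [Field k] (p : ℕ) [Fact p.Prime]

/-- With a primitive root of unity the constant sheaf `ℤ/p` is `μ_p`. -/
theorem exists_iso_mu {ζ : k} (hζ : IsPrimitiveRoot ζ p) :
    Nonempty (EtCoh.const (Spec (CommRingCat.of k)) (ZMod p) ≅ EtCoh.mu (Spec (CommRingCat.of k)) p) := by
  let S := Spec (CommRingCat.of k)
  let hp : p.Prime := Fact.out
  let a := EtCoh.powMap S p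
  let eΓ := (Scheme.ΓSpecIso (CommRingCat.of k)).commRingCatIsoToRingEquiv
  let ζu : kˣ := Units.mk0 ζ (hζ.ne_zero hp.ne_zero)
  let ζΓ : (Γ(S, ⊤) : Type u)ˣ := Units.map eΓ.symm.toRingHom.toMonoidHom ζu
  have hζΓ : ζΓ ^ p = 1 := by
    rw [← map_pow, show ζu ^ p = 1 from Units.ext hζ.pow_eq_one, map_one]
  let one₀ : EtCoh.sect (EtCoh.Gm S) (EtCoh.top S) :=
    (ULift.up (Additive.ofMul ζΓ) : ULift.{u + 1} (Additive (Γ(S, ⊤) : Type u)ˣ))
  have hone : p • one₀ = 0 := ULift.ext _ _ (by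
    change p • Additive.ofMul ζΓ = 0
    rw [← ofMul_pow, hζΓ, ofMul_one])
  let φ : ZMod p →+ EtCoh.sect (EtCoh.Gm S) (EtCoh.top S) :=
    ZMod.lift p ⟨zmultiplesHom _ one₀, by
      change (p : ℤ) • one₀ = 0
      rw [natCast_zsmul]; exact hone⟩
  have hφ : ∀ n : ZMod p, φ n = n.val • one₀ := fun n => by
    conv_lhs => rw [← ZMod.natCast_zmod_val n, ← Int.cast_natCast]
    exact (ZMod.lift_coe p _ _).trans (natCast_zsmul one₀ _)
  let g₀ : AddCommGrpCat.of (ULift.{u + 1} (ZMod p)) ⟶ (EtCore.gsec S).obj (EtCoh.Gm S) :=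
    AddCommGrpCat.ofHom (φ.comp AddEquiv.ulift.toAddMonoidHom)
  let ι : EtCoh.const S (ZMod p) ⟶ EtCoh.Gm S := ((EtCore.constAdj S).homEquiv _ _).symm g₀
  have ha : ∀ (V : (S.Etale)ᵒᵖ) (s : (EtCoh.Gm S).obj.obj V), a.hom.app V s = p • s := fun V s =>
    map_nsmul (AddMonoidHom.mk' (fun h : EtCoh.Gm S ⟶ EtCoh.Gm S => h.hom.app V s) fun _ _ => rfl) p (𝟙 (EtCoh.Gm S))
  have hιa : ι ≫ a = 0 := by
    refine ((EtCore.constAdj S).homEquiv _ _).injective ?_
    rw [Adjunction.homEquiv_naturality_right, Equiv.apply_symm_apply]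
    rw [Adjunction.homEquiv_unit, Functor.map_zero, comp_zero]
    refine AddCommGrpCat.hom_ext (AddMonoidHom.ext fun c => ?_)
    change a.hom.app (op (EtCoh.top S)) (φ c.down) = 0
    rw [hφ, ha, smul_comm, hone, smul_zero]
  let ι' : EtCoh.const S (ZMod p) ⟶ EtCoh.mu S p := kernel.lift a ι hιa
  let ξ := algPt k
  have hι : ∀ (c : ULift.{u + 1} (ZMod p)),
      ι.hom.app (op (EtCoh.top S)) (GrothLib.EtDer.cst (AddCommGrpCat.of (ULift.{u + 1} (ZMod p))) _ c) =
        c.down.val • one₀ := fun c => by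
    rw [← hφ, ← GrothLib.EtDer.cst_top]
    have e0 : g₀ = (EtCore.constAdj S).homEquiv _ _ ι := (Equiv.apply_symm_apply _ _).symm
    change _ = g₀ c
    rw [e0, Adjunction.homEquiv_unit]
    rfl
  haveI : Mono ι := mono_of_stalk ξ ι (by
    rw [injective_iff_map_eq_zero]
    intro y hy
    obtain ⟨c, rfl⟩ := (GrothLib.LocConst.bijective_germ_const ξ _).2 y
    have key : (EtCoh.stalk ξ).map ι (((EtCore.constAdj S).unit.app (AddCommGrpCat.of (ULift.{u + 1} (ZMod p))) ≫
        germ ξ _ (GrothLib.LocConst.topFib ξ)) c) = (ULift.down c).val • germ ξ (EtCoh.Gm S) (GrothLib.LocConst.topFib ξ) one₀ := by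
      rw [ConcreteCategory.comp_apply, GrothLib.EtDer.cst_top]
      refine (stalk_map_germ ξ ι _ _).trans ?_
      rw [hι, map_nsmul]
    rw [key] at hy
    have hne : germ ξ (EtCoh.Gm S) (GrothLib.LocConst.topFib ξ) one₀ ≠ 0 := fun h => by
      obtain ⟨V, g, v, -, hg⟩ := eq_zero_nhd ξ (EtCoh.Gm S) _ one₀ h
      have h1 : g.left.appTop.hom (ζΓ : Γ(S, ⊤)) = 1 :=
        congrArg (fun r : ULift.{u + 1} (Additive (Γ(V.left, ⊤) : Type u)ˣ) => ((Additive.toMul r.down : _ˣ) : Γ(V.left, ⊤))) hg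
      have hu : IsUnit (g.left.appTop.hom ((ζΓ : Γ(S, ⊤)) - (1 : Γ(S, ⊤)) : Γ(S, ⊤))) := by
        refine RingHom.isUnit_map _ ?_
        have : IsUnit (ζ - 1) := (sub_ne_zero.2 (hζ.ne_one hp.one_lt)).isUnit
        have e := this.map eΓ.symm.toRingHom
        rw [map_sub, map_one] at e
        exact e
      rw [map_sub, h1, map_one, sub_self] at hu
      have := hu.map (V.left.presheaf.germ ⊤ v trivial).hom
      rw [map_zero] at this
      exact not_isUnit_zero this
    have hord : addOrderOf (germ ξ (EtCoh.Gm S) (GrothLib.LocConst.topFib ξ) one₀) = p :=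
      addOrderOf_eq_prime (by rw [← map_nsmul, hone, map_zero]) hne
    have := addOrderOf_dvd_of_nsmul_eq_zero hy
    rw [hord] at this
    have hc : (ULift.down c).val = 0 := Nat.eq_zero_of_dvd_of_lt this (ZMod.val_lt _)
    rw [show c = 0 from ULift.ext _ _ ((ZMod.val_eq_zero _).1 hc)]
    exact map_zero _)
  haveI : Mono ι' := mono_of_mono_fac (kernel.lift_ι a ι hιa)
  haveI : Epi ι' := epi_of_stalk ξ ι' fun y => by
    letI : Algebra k (AlgebraicClosure k) := (Spec.preimage ξ).hom.toAlgebra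
    obtain ⟨V, t, s, rfl⟩ := exists_germ ξ _ y
    obtain ⟨E, _, _, hE⟩ := exists_field_bound t
    obtain ⟨m, t', -, hm⟩ := hE E le_rfl
    rw [← hm, ← germ_map]
    let s' : EtCoh.sect (EtCoh.mu S p) (VL k E) := (EtCoh.mu S p).obj.map m.op s
    let b : EtCoh.sect (EtCoh.Gm S) (VL k E) := (kernel.ι a).hom.app (op (VL k E)) s'
    let c : Eˣ := (unitsEquiv b).toMul
    have hb : p • b = 0 := (ha _ b).symm.trans
      (congr($(congrArg (fun f : kernel a ⟶ EtCoh.Gm S => f.hom.app (op (VL k E))) (kernel.condition a)) s'))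
    have hc : (c : E) ^ p = 1 := by
      have := congrArg (fun r => (Additive.toMul (unitsEquiv r) : Eˣ)) hb
      simp only [map_nsmul, map_zero, toMul_nsmul, toMul_zero] at this
      exact congrArg Units.val this
    haveI : NeZero p := ⟨hp.ne_zero⟩
    obtain ⟨i, hi, hic⟩ := (hζ.map_of_injective (algebraMap k E).injective).eq_pow_of_pow_eq_one hc
    let A₀ := AddCommGrpCat.of (ULift.{u + 1} (ZMod p))
    refine ⟨germ ξ _ t' (GrothLib.EtDer.cst A₀ (VL k E) (ULift.up (i : ZMod p))), ?_⟩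
    rw [stalk_map_germ]
    refine congrArg _ (injective_app (kernel.ι a) _ ?_)
    have e1 : (kernel.ι a).hom.app (op (VL k E)) (ι'.hom.app (op (VL k E)) (GrothLib.EtDer.cst A₀ (VL k E) (ULift.up (i : ZMod p)))) =
        ι.hom.app (op (VL k E)) (GrothLib.EtDer.cst A₀ (VL k E) (ULift.up (i : ZMod p))) := by
      conv_rhs => rw [← kernel.lift_ι a ι hιa]
      rfl
    refine e1.trans ?_
    rw [← GrothLib.EtDer.map_cst A₀ (toTop k E) (ULift.up (i : ZMod p))]
    refine (NatTrans.naturality_apply ι.hom (toTop k E).op _).trans ?_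
    rw [hι]
    refine (map_nsmul ((EtCoh.Gm S).obj.map (toTop k E).op).hom _ one₀).trans ?_
    refine unitsEquiv.injective (Additive.toMul.injective (Units.ext ?_))
    rw [map_nsmul, toMul_nsmul, Units.val_pow_eq_pow_val, ZMod.val_natCast_of_lt hi]
    refine Eq.trans ?_ hic
    congr 1
    have e : (toTop k E).left = specMap k E := by
      have := MorphismProperty.Over.w (toTop k E)
      exact (Category.comp_id _).symm.trans this
    change (Scheme.ΓSpecIso (CommRingCat.of E)).hom.hom ((toTop k E).left.appTop.hom (ζΓ : Γ(S, ⊤))) = _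
    rw [e]
    refine (congr($(Scheme.ΓSpecIso_naturality (CommRingCat.ofHom (algebraMap k E))) _)).trans ?_
    exact congrArg (algebraMap k E) (eΓ.apply_symm_apply ζ)
  haveI : IsIso ι' := isIso_of_mono_of_epi ι'
  exact ⟨asIso ι'⟩

/-- Over a field with a primitive root of unity and no `p`-torsion in `H²(-, 𝔾ₘ)`, `H²(-, ℤ/p)` vanishes. -/
theorem H_const_two_eq_zero {ζ : k} (hζ : IsPrimitiveRoot ζ p) (hp : (p : k) ≠ 0)
    (h2 : ∀ x : EtCoh.H (Spec (CommRingCat.of k)) (EtCoh.Gm (Spec (CommRingCat.of k))) 2, p • x = 0 → x = 0)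
    (x : EtCoh.H (Spec (CommRingCat.of k)) (EtCoh.const (Spec (CommRingCat.of k)) (ZMod p)) 2) : x = 0 := by
  obtain ⟨e⟩ := exists_iso_mu k p hζ
  let S := Spec (CommRingCat.of k)
  haveI hepi : Epi (EtCoh.powMap S p) := GrothLib.EtBasicB.powMap_epi S p (by
    have := (Ne.isUnit hp).map (Scheme.ΓSpecIso (CommRingCat.of k)).inv.hom
    rwa [map_natCast] at this)
  have hT := EtSix.kummerShortExact hepi
  let y : EtCoh.H S (EtCoh.mu S p) 2 := Ext.comp x (Ext.mk₀ e.hom) (add_zero 2)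
  have hy : y = 0 := by
    have h0 : Ext.comp y (Ext.mk₀ (EtCoh.muι S p)) (add_zero 2) = 0 := by
      refine h2 _ ?_
      rw [← GrothLib.EtTrace21.comp_nsmul_id, Ext.comp_assoc_of_third_deg_zero, Ext.mk₀_comp_mk₀]
      rw [show EtCoh.muι S p ≫ (p • 𝟙 (EtCoh.Gm S)) = 0 from kernel.condition (EtCoh.powMap S p), Ext.mk₀_zero,
        Ext.comp_zero]
    obtain ⟨w, hw⟩ := Ext.covariant_sequence_exact₁ _ hT y h0 rfl
    haveI := subsingleton_H_one_Gm k
    rw [← hw, Subsingleton.elim (α := EtCoh.H S (EtCoh.Gm S) 1) w 0, Ext.zero_comp]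
  rw [← Ext.comp_mk₀_id x, ← e.hom_inv_id, ← Ext.mk₀_comp_mk₀, ← Ext.comp_assoc_of_third_deg_zero]
  change Ext.comp y _ _ = 0
  rw [hy, Ext.zero_comp]

end GrothLib.GalCd
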