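import Groth.Agent.Lib.GalCd.FacDiv
import Groth.Agent.Lib.EtTrace21.H90Push
import Groth.Agent.Lib.EtDer.ConstSec

/-!
# Cohomology of the sheaf of divisors and of the multiplicative group on factorial schemes
-/

set_option autoImplicit false
set_option backward.isDefEq.respectTransparency false
set_option backward.isDefEq.respectTransparency.types false
set_option linter.style.haveILetI false

universe u

open CategoryTheory CategoryTheory.Limits CategoryTheory.Abelian AlgebraicGeometry Opposite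
open GrothLib.EtSite GrothLib.EtTrace21 GrothLib.EtColim GrothLib.EtLimit GrothLib.SheafCoh

noncomputable section

namespace GrothLib.GalCd

variable {X : Scheme.{u}}

/-- A map from the constant sheaf to a sheaf with freely generated stalks is an isomorphism. -/
theorem exists_const_iso (F : EtCoh.Ab X) (gs : EtCoh.sect F (EtCoh.top X))
    (h : ∀ (Ω : Type u) [Field Ω] [IsSepClosed Ω] (ξ : Spec (CommRingCat.of Ω) ⟶ X)
      (p : (EtCoh.stalk ξ).obj F), ∃! n : ℤ, n • germ ξ F (GrothLib.LocConst.topFib ξ) gs = p) :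
    Nonempty (Z X ≅ F) := by
  obtain ⟨a, ha⟩ := (bijective_evOne F).2 gs
  haveI : IsIso a := by
    refine GrothLib.EtSite.isIso_of_stalks _ fun Ω _ _ ξ => ?_
    let A := AddCommGrpCat.of (ULift.{u + 1} ℤ)
    have hb := GrothLib.LocConst.bijective_germ_const ξ A
    have hval : ∀ n : ℤ, (EtCoh.stalk ξ).map a
        (germ ξ (Z X) (GrothLib.LocConst.topFib ξ) ((EtCore.constAdj X).unit.app A ⟨n⟩)) =
          n • germ ξ F (GrothLib.LocConst.topFib ξ) gs := fun n => by
      have e1 : (⟨n⟩ : ULift.{u + 1} ℤ) = n • (⟨1⟩ : ULift.{u + 1} ℤ) := ULift.ext _ _ (by simp)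
      have e2 : (EtCore.constAdj X).unit.app A (⟨n⟩ : ULift.{u + 1} ℤ) = n • one X :=
        (congrArg ((EtCore.constAdj X).unit.app A) e1).trans (map_zsmul ((EtCore.constAdj X).unit.app A).hom n _)
      erw [e2, map_zsmul, map_zsmul, stalk_map_germ]
      exact congrArg (fun r => n • germ ξ F (GrothLib.LocConst.topFib ξ) r) ha
    refine ⟨fun p q hpq => ?_, fun p => ?_⟩
    · obtain ⟨⟨n⟩, rfl⟩ := hb.2 p
      obtain ⟨⟨m⟩, rfl⟩ := hb.2 q
      have e : n • germ ξ F (GrothLib.LocConst.topFib ξ) gs = m • germ ξ F (GrothLib.LocConst.topFib ξ) gs :=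
        (hval n).symm.trans (hpq.trans (hval m))
      rw [(h Ω ξ _).unique e rfl]
    · obtain ⟨n, hn, -⟩ := h Ω ξ p
      exact ⟨_, (hval n).trans hn⟩
  exact ⟨asIso a⟩

section

variable [IsLocallyNoetherian X] [Finite (MaxPts X)] [IsReduced X] (hf : EtFactorial X)
include hf

/-- The values of divisors at a mid point form the constant sheaf `ℤ`. -/
theorem exists_pull_div_iso (y : MidPts X) :
    Nonempty (Z (Spec (X.residueField y.1)) ≅ (EtCoh.pull (X.fromSpecResidueField y.1)).obj (DivSheaf X)) := by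
  let i := X.fromSpecResidueField y.1
  let U : X.Etale := EtCoh.top X
  obtain ⟨O, hyO, hA, hI⟩ := (haveI := hf.dom U y.1; exists_chart U y.1)
  let V := opensObj U O
  haveI : IsAffine V.left := hA
  haveI : IsIntegral V.left := hI
  let z : V.left := (⟨y.1, hyO⟩ : O)
  letI : Algebra (Γ(V.left, ⊤) : Type u) (V.left.presheaf.stalk z) :=
    TopCat.Presheaf.algebra_section_stalk V.left.presheaf (⟨z, trivial⟩ : (⊤ : V.left.Opens))
  haveI : IsLocalization.AtPrime (V.left.presheaf.stalk z) (pAt V.left z) := isLocalization_pAt V.left z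
  haveI := (hf V z).1
  haveI := (hf V z).2
  have hz : IsMinNonzero (pAt V.left z) := (isMinNonzero_pAt_iff z).2 y.2
  obtain ⟨γ, hγP, hγ0, hdec, -⟩ := exists_generator_of_le (pAt V.left z) (V.left.presheaf.stalk z) hz le_rfl
  obtain ⟨sγ, hsγ⟩ := exists_sect_fnV V (c := evGen V.left γ) fun h0 =>
    hγ0 (evGen_injective V.left (h0.trans (map_zero (evGen V.left)).symm))
  have hinj : ∀ v : V.left, V.hom.base v = y.1 → v = z := fun v hv => Subtype.ext hv
  let g : V ⟶ EtCoh.top X := opensHom U O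
  let bg := (EtCoh.bc i).map g
  haveI : IsIso bg := by
    have sq := EtCoh.isPullback_bc_map i g
    haveI : IsOpenImmersion g.left := inferInstanceAs (IsOpenImmersion O.ι)
    haveI : IsOpenImmersion bg.left :=
      MorphismProperty.of_isPullback (P := @IsOpenImmersion) sq.flip inferInstance
    have hs : Function.Surjective bg.left.base := fun p => by
      have hp : (pullback.fst U.hom i).base p = y.1 := by
        have e : pullback.fst U.hom i ≫ U.hom = pullback.snd U.hom i ≫ i := pullback.condition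
        exact (congrArg (fun r => r.base p) e).trans (Scheme.fromSpecResidueField_apply y.1 _)
      obtain ⟨q, hq, -⟩ := Scheme.exists_preimage_of_isPullback sq p (z : V.left) hp
      exact ⟨q, hq⟩
    haveI : IsIso bg.left := by
      haveI : Surjective bg.left := ⟨hs⟩
      exact isIso_iff_isOpenImmersion_and_epi_base bg.left |>.2 ⟨inferInstance, (TopCat.epi_iff_surjective _).2 hs⟩
    haveI : IsIso ((Scheme.Etale.forget _).map bg) :=
      haveI : IsIso ((Over.forget _).map ((Scheme.Etale.forget _).map bg)) := ‹IsIso bg.left›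
      isIso_of_reflects_iso _ (Over.forget _)
    exact isIso_of_reflects_iso _ (Scheme.Etale.forget _)
  let F := (EtCoh.pull i).obj (DivSheaf X)
  let u₀ : EtCoh.sect F ((EtCoh.bc i).obj V) :=
    ((EtCoh.pullPushAdj i).unit.app (DivSheaf X)).hom.app (op V) ((toDiv X).hom.app (op V) sγ)
  let k : EtCoh.top (Spec (X.residueField y.1)) ⟶ (EtCoh.bc i).obj V := (EtCore.bcTopIso i).inv ≫ inv bg
  refine exists_const_iso F (F.obj.map k.op u₀) fun Ω _ _ ξ p => ?_
  rw [germ_map]
  obtain ⟨t, ht⟩ := exists_fib_bc ξ i V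
    ((Scheme.pointSmallEtale ξ).fiber.map k (GrothLib.LocConst.topFib ξ))
  rw [← ht]
  have htz : t.left.base (default : Spec (CommRingCat.of Ω)) = z := by
    refine hinj _ ?_
    rw [preimage_default (ξ ≫ i) t, Scheme.Hom.comp_apply]
    exact Scheme.fromSpecResidueField_apply y.1 _
  have hgen := span_of_gen z hγP fun a ha => hdec a ha
  obtain ⟨n, hn, hun⟩ := existsUnique_zsmul_germ hf hγ0 sγ hsγ (ξ ≫ i) t (by rw [htz]; exact hgen)
    ((pullStalkIso ξ i).hom.app (DivSheaf X) p)
  have hinv : (pullStalkIso ξ i).inv.app (DivSheaf X) ((pullStalkIso ξ i).hom.app (DivSheaf X) p) = p :=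
    congr($(Iso.hom_inv_id_app (pullStalkIso ξ i) (DivSheaf X)) p)
  refine ⟨n, ?_, fun m hm => hun m ?_⟩
  · dsimp only [F, u₀]
    rw [germ_unit]
    refine (map_zsmul ((pullStalkIso ξ i).inv.app (DivSheaf X)).hom n _).symm.trans ?_
    rw [← hinv]
    exact congrArg _ hn
  · dsimp only [F, u₀] at hm
    rw [germ_unit] at hm
    refine (ConcreteCategory.bijective_of_isIso ((pullStalkIso ξ i).inv.app (DivSheaf X))).injective ?_
    exact (map_zsmul ((pullStalkIso ξ i).inv.app (DivSheaf X)).hom m _).trans (hm.trans hinv.symm)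

end

variable [AlgebraicGeometry.IsNoetherian X] [IsReduced X] (hf : EtFactorial X)
include hf

theorem H_div_lift {q : ℕ} (x : EtCoh.H X (DivSheaf X) q) :
    ∃ (F : Finset (MidPts X)) (z : EtCoh.H X (⨁ midTarget X F) q) (c : ⨁ midTarget X F ⟶ DivSheaf X),
      Ext.comp z (Ext.mk₀ c) (add_zero q) = x := by
  classical
  haveI := isIso_midDesc hf
  let c := colimit.desc (midDiag X) (midCocone X)
  obtain ⟨i, y, hy⟩ := (gen_and_kill (midDiag X) q).1 (Ext.comp x (Ext.mk₀ (inv c)) (add_zero q))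
  haveI := isIso_midPsi hf i.down
  refine ⟨i.down, Ext.comp y (Ext.mk₀ (midPsi X i.down)) (add_zero q),
    inv (midPsi X i.down) ≫ colimit.ι (midDiag X) i ≫ c, ?_⟩
  rw [Ext.comp_assoc_of_third_deg_zero, Ext.mk₀_comp_mk₀, IsIso.hom_inv_id_assoc, ← Ext.mk₀_comp_mk₀,
    ← Ext.comp_assoc_of_third_deg_zero]
  erw [hy]
  rw [Ext.comp_assoc_of_third_deg_zero, Ext.mk₀_comp_mk₀, IsIso.inv_hom_id, Ext.comp_mk₀_id]

/-- The first cohomology of the sheaf of divisors vanishes. -/
theorem H1_div_eq_zero (x : EtCoh.H X (DivSheaf X) 1) : x = 0 := by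
  classical
  obtain ⟨F, z, c, rfl⟩ := H_div_lift hf x
  suffices z = 0 by rw [this, Ext.zero_comp]
  have e : ∀ j : F, Subsingleton (EtCoh.H X (midTarget X F j) 1) := fun j => by
    haveI : PreservesFiniteLimits (EtCoh.pull (X.fromSpecResidueField j.1.1)) := GrothLib.EtDer.pullFL _
    obtain ⟨iso⟩ := exists_pull_div_iso hf j.1
    haveI : Subsingleton (EtCoh.H (Spec (X.residueField j.1.1))
        ((EtCoh.pull (X.fromSpecResidueField j.1.1)).obj (DivSheaf X)) 1) := by
      haveI := subsingleton_H_one_const (X.residueField j.1.1) ℤ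
      exact ⟨fun a b => ((EtCoh.HF _ 1).mapIso iso).addCommGroupIsoToAddEquiv.symm.injective
        (Subsingleton.elim (α := EtCoh.H _ (Z (Spec (X.residueField j.1.1))) 1) _ _)⟩
    exact subsingleton_H_one_push _ _
  rw [← Ext.comp_mk₀_id z, ← IsBilimit.total (biproduct.isBilimit (midTarget X F)), Ext.mk₀_sum, Ext.comp_sum]
  refine Finset.sum_eq_zero fun j _ => ?_
  change Ext.comp z (Ext.mk₀ (biproduct.π (midTarget X F) j ≫ biproduct.ι (midTarget X F) j)) _ = 0
  rw [← Ext.mk₀_comp_mk₀, ← Ext.comp_assoc_of_third_deg_zero, show Ext.comp z (Ext.mk₀ (biproduct.π (midTarget X F) j)) (add_zero 1) = 0 from (e j).elim _ _, Ext.zero_comp]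

/-- Higher cohomology of the sheaf of divisors is torsion. -/
theorem finOrder_H_div (q : ℕ) (x : EtCoh.H X (DivSheaf X) (q + 1)) : IsOfFinAddOrder x := by
  classical
  obtain ⟨F, z, c, rfl⟩ := H_div_lift hf x
  refine finOrder_comp c ?_
  rw [← Ext.comp_mk₀_id z]
  exact finOrder_comp_of_components (fun y : F => y.1.1) (fun y => (EtCoh.pull _).obj (DivSheaf X)) (𝟙 _) q z

/-- `H^q(X, 𝔾ₘ)` is torsion for `q ≥ 2`. -/
theorem finOrder_H_Gm_of_factorial (q : ℕ) (a : EtCoh.H X (EtCoh.Gm X) (q + 2)) : IsOfFinAddOrder a := by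
  classical
  haveI : Fintype (MaxPts X) := Fintype.ofFinite _
  obtain ⟨m, hm, hm0⟩ := isOfFinAddOrder_iff_nsmul_eq_zero.1
    (finOrder_comp_of_components (fun i : MaxPts X => i.1) (fun i => EtCoh.Gm _) (toMax X) (q + 1) a)
  let L := AddMonoidHom.mk' (fun z : EtCoh.H X (EtCoh.Gm X) (q + 2) => Ext.comp z (Ext.mk₀ (toMax X)) (add_zero (q + 2)))
    fun _ _ => Ext.add_comp _ _ _ _
  obtain ⟨w, hw⟩ := Ext.covariant_sequence_exact₁ _ (shortExact_div (X := X)) (m • a) ((map_nsmul L m a).trans hm0) rfl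
  obtain ⟨d, hd, hd0⟩ := isOfFinAddOrder_iff_nsmul_eq_zero.1 (finOrder_H_div hf q w)
  refine isOfFinAddOrder_iff_nsmul_eq_zero.2 ⟨d * m, Nat.mul_pos hd hm, ?_⟩
  rw [mul_nsmul', ← hw]
  let D := AddMonoidHom.mk' (fun z : EtCoh.H X (DivSheaf X) (q + 1) =>
    Ext.comp z (shortExact_div (X := X)).extClass (rfl : q + 1 + 1 = q + 2))
    fun _ _ => Ext.add_comp _ _ _ _
  exact (map_nsmul D d w).symm.trans ((congrArg D hd0).trans (map_zero D))

/-- Degree two classes of the multiplicative group vanish when their restrictions to the maximal points do. -/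
theorem H2Gm_eq_zero_of_factorial [∀ x : X, PreservesFiniteLimits (EtCoh.pull (X.fromSpecResidueField x))]
    (a : EtCoh.H X (EtCoh.Gm X) 2)
    (h : ∀ i : MaxPts X, EtLim.HGmPull (X.fromSpecResidueField i.1) 2 a = 0) : a = 0 := by
  classical
  haveI : Fintype (MaxPts X) := Fintype.ofFinite _
  have hcomp : ∀ i : MaxPts X, Ext.comp a (Ext.mk₀ (toMax X ≫ Pmax.π X i)) (add_zero 2) = 0 := fun i => by
    refine GrothLib.EtTrace21.injective_HofPush_two (X.fromSpecResidueField i.1) _
      (GrothLib.EtTrace21.isZero_Rpush_one_Gm (X.fromSpecResidueField i.1)) ?_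
    rw [toMax_π, map_zero]
    exact h i
  have h0 : Ext.comp a (Ext.mk₀ (toMax X)) (add_zero 2) = 0 := by
    have e : toMax X = ∑ i, (toMax X ≫ Pmax.π X i) ≫ biproduct.ι (fun x : MaxPts X => GPush x.1) i := by
      simp only [Category.assoc, ← Preadditive.comp_sum]
      exact (Category.comp_id _).symm.trans
        (congrArg (toMax X ≫ ·) (IsBilimit.total (biproduct.isBilimit (fun x : MaxPts X => GPush x.1))).symm)
    rw [e, Ext.mk₀_sum, Ext.comp_sum]
    refine Finset.sum_eq_zero fun i _ => ?_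
    rw [← Ext.mk₀_comp_mk₀, ← Ext.comp_assoc_of_third_deg_zero, hcomp, Ext.zero_comp]
  obtain ⟨w, rfl⟩ := Ext.covariant_sequence_exact₁ _ (shortExact_div (X := X)) a h0 rfl
  rw [H1_div_eq_zero hf w, Ext.zero_comp]

end GrothLib.GalCd
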