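import Mathlib.RingTheory.Localization.AtPrime.Basic
import Mathlib.RingTheory.UniqueFactorizationDomain.Basic
import Mathlib.RingTheory.UniqueFactorizationDomain.Ideal
import Mathlib.RingTheory.UniqueFactorizationDomain.Multiplicity
import Mathlib.RingTheory.Localization.Ideal
import Mathlib.RingTheory.Localization.Submodule
import Mathlib.RingTheory.Noetherian.Basic
import Mathlib.Tactic.FieldSimp
import Mathlib.Tactic.LinearCombination

/-!
# Units and divisors of fractions at primes below a factorial point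

Throughout, `A` is a domain inside a field `K` and `O` is its localisation at a prime `m`, assumed factorial.
-/

set_option autoImplicit false

universe u v w

noncomputable section

namespace GrothLib.GalCd

variable {A : Type u} [CommRing A] {K : Type v} [Field K] (ev : A →+* K)

/-- `f` is a quotient of two elements outside `P`. -/
def IsUnitAt (P : Ideal A) (f : K) : Prop := ∃ a b : A, a ∉ P ∧ b ∉ P ∧ f * ev b = ev a

/-- A nonzero prime with no prime strictly in between it and zero. -/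
def IsMinNonzero (P : Ideal A) : Prop := P.IsPrime ∧ P ≠ ⊥ ∧ ∀ Q : Ideal A, Q.IsPrime → Q ≤ P → Q = ⊥ ∨ Q = P

variable {ev} {P : Ideal A}

theorem IsUnitAt.mul [P.IsPrime] {f g : K} (hf : IsUnitAt ev P f) (hg : IsUnitAt ev P g) : IsUnitAt ev P (f * g) := by
  obtain ⟨a, b, ha, hb, e⟩ := hf
  obtain ⟨a', b', ha', hb', e'⟩ := hg
  refine ⟨a * a', b * b', ‹P.IsPrime›.mul_notMem ha ha', ‹P.IsPrime›.mul_notMem hb hb', ?_⟩
  rw [map_mul, map_mul, ← e, ← e']
  ring

theorem isUnitAt_one [P.IsPrime] : IsUnitAt ev P 1 :=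
  ⟨1, 1, P.one_notMem, P.one_notMem, one_mul _⟩

theorem isUnitAt_of_notMem [P.IsPrime] {a : A} (ha : a ∉ P) : IsUnitAt ev P (ev a) :=
  ⟨a, 1, ha, P.one_notMem, by rw [map_one, mul_one]⟩

theorem IsUnitAt.inv (hev : Function.Injective ev) {f : K} (hf : IsUnitAt ev P f) : IsUnitAt ev P f⁻¹ := by
  obtain ⟨a, b, ha, hb, e⟩ := hf
  refine ⟨b, a, hb, ha, ?_⟩
  have hf0 : f ≠ 0 := fun h => ha (by
    have : a = 0 := hev (by rw [← e, h, zero_mul, map_zero])
    rw [this]; exact P.zero_mem)
  rw [← e, ← mul_assoc, inv_mul_cancel₀ hf0, one_mul]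

theorem IsUnitAt.zpow [P.IsPrime] (hev : Function.Injective ev) {f : K} (hf : IsUnitAt ev P f) :
    ∀ n : ℤ, IsUnitAt ev P (f ^ n) := by
  have hnat : ∀ n : ℕ, IsUnitAt ev P (f ^ n) := fun n => by
    induction n with
    | zero => rw [pow_zero]; exact isUnitAt_one
    | succ n ih => rw [pow_succ]; exact ih.mul hf
  rintro (n | n)
  · simpa using hnat n
  · rw [zpow_negSucc]; exact (hnat _).inv hev

theorem isUnitAt_prod [P.IsPrime] {ι : Type w} (t : Finset ι) (f : ι → K) (h : ∀ i ∈ t, IsUnitAt ev P (f i)) :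
    IsUnitAt ev P (∏ i ∈ t, f i) := by
  classical
  induction t using Finset.induction with
  | empty => rw [Finset.prod_empty]; exact isUnitAt_one
  | insert a t ha ih =>
    rw [Finset.prod_insert ha]
    exact (h a (Finset.mem_insert_self a t)).mul (ih fun i hi => h i (Finset.mem_insert_of_mem hi))

/-- A generator of `P` after localising at `P` has no nonzero power which is a unit at `P`. -/
theorem eq_zero_of_isUnitAt_zpow [P.IsPrime] (hev : Function.Injective ev) {γ : A} (hγ : γ ∈ P) {n : ℤ}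
    (h : IsUnitAt ev P (ev γ ^ n)) : n = 0 := by
  have hnat : ∀ k : ℕ, 0 < k → ¬ IsUnitAt ev P (ev γ ^ k) := fun k hk ⟨a, b, ha, _, e⟩ => ha (by
    have : a = γ ^ k * b := hev (by rw [← e, map_mul, map_pow])
    rw [this]
    exact Ideal.mul_mem_right _ _ (P.pow_mem_of_mem hγ k hk))
  rcases n with (n | n)
  · rcases Nat.eq_zero_or_pos n with rfl | hn
    · rfl
    · exact (hnat n hn (by simpa using h)).elim
  · rw [zpow_negSucc] at h
    exact (hnat _ n.succ_pos (by simpa using h.inv hev)).elim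

/-- The decomposition with respect to a local generator. -/
theorem exists_zpow [IsDomain A] [IsNoetherianRing A] [P.IsPrime] (hev : Function.Injective ev)
    (hfrac : ∀ c : K, ∃ a b : A, ev b ≠ 0 ∧ c * ev b = ev a) {γ : A} (hγ : γ ∈ P) (hγ0 : γ ≠ 0)
    (hgen : ∀ a ∈ P, ∃ c t : A, t ∉ P ∧ a * t = γ * c) {f : K} (hf : f ≠ 0) :
    ∃ n : ℤ, IsUnitAt ev P (f * (ev γ ^ n)⁻¹) := by
  have key : ∀ a : A, a ≠ 0 → ∃ (k : ℕ) (u : K), IsUnitAt ev P u ∧ ev a = ev γ ^ k * u := by
    intro a ha
    let L := Localization.AtPrime P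
    haveI : IsNoetherianRing L := IsLocalization.isNoetherianRing P.primeCompl L inferInstance
    have hinj : Function.Injective (algebraMap A L) :=
      IsLocalization.injective L P.primeCompl_le_nonZeroDivisors
    have hnu : ¬ IsUnit (algebraMap A L γ) := fun h =>
      (IsLocalization.AtPrime.isUnit_to_map_iff L P γ).1 h hγ
    obtain ⟨k, c, hndvd, hc⟩ := WfDvdMonoid.max_power_factor'
      (fun h => ha (hinj (h.trans (map_zero (algebraMap A L)).symm))) hnu
    obtain ⟨⟨c₀, s⟩, hs⟩ := IsLocalization.surj P.primeCompl c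
    dsimp only at hs
    have hc₀ : c₀ ∉ P := fun hmem => hndvd (by
      obtain ⟨d, t, ht, e⟩ := hgen c₀ hmem
      have ht' : IsUnit (algebraMap A L t) := (IsLocalization.AtPrime.isUnit_to_map_iff L P t).2 ht
      have e' : c * (algebraMap A L s * algebraMap A L t) = algebraMap A L γ * algebraMap A L d := by
        rw [← mul_assoc, hs, ← map_mul, e, map_mul]
      exact ((IsLocalization.map_units L s).mul ht').dvd_mul_right.1 ⟨_, e'⟩)
    have h1 : a * (s : A) = γ ^ k * c₀ := hinj (by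
      rw [map_mul, hc, mul_assoc, hs, map_mul, map_pow])
    refine ⟨k, ev c₀ * (ev (s : A))⁻¹, (isUnitAt_of_notMem hc₀).mul ((isUnitAt_of_notMem s.2).inv hev), ?_⟩
    have hs0 : ev (s : A) ≠ 0 := fun h => s.2 (by
      rw [hev (h.trans (map_zero ev).symm)]; exact P.zero_mem)
    apply mul_right_cancel₀ hs0
    rw [← map_mul, h1, map_mul, map_pow, mul_assoc, mul_assoc, inv_mul_cancel₀ hs0, mul_one]
  obtain ⟨a, b, hb, e⟩ := hfrac f
  have ha : a ≠ 0 := fun h => by
    rw [h, map_zero] at e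
    exact (mul_ne_zero hf hb) e
  obtain ⟨k, u, hu, hk⟩ := key a ha
  obtain ⟨l, u', hu', hl⟩ := key b fun h => hb (by rw [h, map_zero])
  refine ⟨(k : ℤ) - l, ?_⟩
  have hγK : ev γ ≠ 0 := fun h => hγ0 (hev (h.trans (map_zero ev).symm))
  have hu'0 : u' ≠ 0 := fun h => hb (by rw [hl, h, mul_zero])
  have : f * (ev γ ^ ((k : ℤ) - l))⁻¹ = u * u'⁻¹ := by
    rw [zpow_sub₀ hγK, zpow_natCast, zpow_natCast]
    rw [hl, hk] at e
    field_simp
    linear_combination e
  rw [this]
  exact hu.mul (hu'.inv hev)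

variable [IsDomain A] (m : Ideal A) [m.IsPrime] (O : Type u) [CommRing O] [IsDomain O] [Algebra A O]
  [IsLocalization.AtPrime O m] [UniqueFactorizationMonoid O]

include m O

theorem injective_algebraMap_atPrime : Function.Injective (algebraMap A O) :=
  IsLocalization.injective O (m.primeCompl_le_nonZeroDivisors)

theorem comap_span_le {q : O} (hq : Prime q) :
    (Ideal.span {q}).comap (algebraMap A O) ≤ m := by
  haveI := (Ideal.span_singleton_prime hq.ne_zero).2 hq
  exact ((IsLocalization.AtPrime.orderIsoOfPrime O m) ⟨Ideal.span {q}, inferInstance⟩).2.2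

/-- Prime elements give primes minimal among the nonzero ones. -/
theorem isMinNonzero_comap {q : O} (hq : Prime q) : IsMinNonzero ((Ideal.span {q}).comap (algebraMap A O)) := by
  haveI hqp := (Ideal.span_singleton_prime hq.ne_zero).2 hq
  refine ⟨inferInstance, fun h => ?_, fun Q hQ hle => ?_⟩
  · obtain ⟨⟨a, t⟩, e⟩ := IsLocalization.surj m.primeCompl q
    have ha : a ∈ (Ideal.span {q}).comap (algebraMap A O) :=
      Ideal.mem_span_singleton.2 ⟨_, e.symm⟩
    rw [h, Ideal.mem_bot] at ha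
    rw [ha, map_zero, mul_eq_zero] at e
    exact e.elim hq.ne_zero (IsLocalization.map_units O t).ne_zero
  · by_cases hQ0 : Q = ⊥
    · exact Or.inl hQ0
    right
    obtain ⟨a, haQ, ha0⟩ := Submodule.exists_mem_ne_zero_of_ne_bot hQ0
    have hdisj : Disjoint (m.primeCompl : Set A) Q :=
      Set.disjoint_left.2 fun x hx hxQ => hx (comap_span_le m O hq (hle hxQ))
    have hQO : (Q.map (algebraMap A O)).IsPrime := IsLocalization.isPrime_of_isPrime_disjoint m.primeCompl O Q hQ hdisj
    have hne : Q.map (algebraMap A O) ≠ ⊥ := fun h => ha0 (injective_algebraMap_atPrime m O (by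
      rw [map_zero, ← Ideal.mem_bot, ← h]
      exact Ideal.mem_map_of_mem _ haQ))
    obtain ⟨q', hq', hq'p⟩ := Ideal.IsPrime.exists_mem_prime_of_ne_bot hQO hne
    have hsub : Q.map (algebraMap A O) ≤ Ideal.span {q} := Ideal.map_le_iff_le_comap.2 hle
    have hd : q ∣ q' := Ideal.mem_span_singleton.1 (hsub hq')
    have heq : Q.map (algebraMap A O) = Ideal.span {q} :=
      le_antisymm hsub ((Ideal.span_singleton_le_iff_mem _).2
        ((Ideal.mem_iff_of_associated (hq.associated_of_dvd hq'p hd)).2 hq'))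
    rw [← heq]; exact (IsLocalization.under_map_of_isPrime_disjoint m.primeCompl O hQ hdisj).symm

/-- A fraction which is a unit at all such primes below `m` is a unit at `m`. -/
theorem isUnitAt_of_forall (hev : Function.Injective ev)
    (hfrac : ∀ c : K, ∃ a b : A, ev b ≠ 0 ∧ c * ev b = ev a) {f : K} (hf : f ≠ 0)
    (h : ∀ P : Ideal A, IsMinNonzero P → P ≤ m → IsUnitAt ev P f) : IsUnitAt ev m f := by
  obtain ⟨a₀, b₀, hb₀, e₀⟩ := hfrac f
  have hbO : algebraMap A O b₀ ≠ 0 := fun h0 => hb₀ (by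
    rw [injective_algebraMap_atPrime m O (h0.trans (map_zero _).symm), map_zero])
  have haO : algebraMap A O a₀ ≠ 0 := fun h0 => (mul_ne_zero hf hb₀) (by
    rw [e₀, injective_algebraMap_atPrime m O (h0.trans (map_zero _).symm), map_zero])
  obtain ⟨a', b', c', hrel, hca, hcb⟩ :=
    UniqueFactorizationMonoid.exists_reduced_factors (algebraMap A O a₀) haO (algebraMap A O b₀)
  have hc0 : c' ≠ 0 := fun h0 => haO (by rw [← hca, h0, zero_mul])
  have ha0 : a' ≠ 0 := fun h0 => haO (by rw [← hca, h0, mul_zero])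
  have hb0 : b' ≠ 0 := fun h0 => hbO (by rw [← hcb, h0, mul_zero])
  have key : ∀ a b : A, f * ev b = ev a → algebraMap A O b * a' = algebraMap A O a * b' := fun a b e => by
    have h1 : b * a₀ = a * b₀ := hev (by rw [map_mul, map_mul, ← e₀, ← e]; ring)
    have h2 := congrArg (algebraMap A O) h1
    rw [map_mul, map_mul, ← hca, ← hcb] at h2
    exact mul_left_cancel₀ hc0 (by linear_combination h2)
  have hq : ∀ q : O, Prime q → ¬ q ∣ a' ∧ ¬ q ∣ b' := fun q hq => by
    obtain ⟨a, b, ha, hb, e⟩ := h _ (isMinNonzero_comap m O hq) (comap_span_le m O hq)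
    rw [Ideal.mem_comap, Ideal.mem_span_singleton] at ha hb
    have hk := key a b e
    have hA : ¬ q ∣ a' := fun hd => by
      rcases hq.dvd_or_dvd (hk ▸ hd.mul_left (algebraMap A O b)) with h1 | h1
      · exact ha h1
      · exact hq.not_unit (hrel hd h1)
    refine ⟨hA, fun hd => ?_⟩
    rcases hq.dvd_or_dvd (hk.symm ▸ hd.mul_left (algebraMap A O a)) with h1 | h1
    · exact hb h1
    · exact hA h1
  have hunit : ∀ z : O, z ≠ 0 → (∀ q, Prime q → ¬ q ∣ z) → IsUnit z := fun z hz hz' => by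
    by_contra hu
    obtain ⟨q, hqi, hqd⟩ := WfDvdMonoid.exists_irreducible_factor hu hz
    exact hz' q hqi.prime hqd
  have hau := hunit a' ha0 fun q hq' => (hq q hq').1
  have hbu := hunit b' hb0 fun q hq' => (hq q hq').2
  obtain ⟨⟨α, s⟩, hα⟩ := IsLocalization.surj m.primeCompl a'
  obtain ⟨⟨β, t⟩, hβ⟩ := IsLocalization.surj m.primeCompl b'
  dsimp only at hα hβ
  have hαm : α ∉ m := (IsLocalization.AtPrime.isUnit_to_map_iff O m α).1 (hα ▸ hau.mul (IsLocalization.map_units O s))
  have hβm : β ∉ m := (IsLocalization.AtPrime.isUnit_to_map_iff O m β).1 (hβ ▸ hbu.mul (IsLocalization.map_units O t))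
  refine ⟨α * t, β * s, ‹m.IsPrime›.mul_notMem hαm t.2, ‹m.IsPrime›.mul_notMem hβm s.2, ?_⟩
  have h3 : a₀ * (β * s) = b₀ * (α * t) := injective_algebraMap_atPrime m O (by
    simp only [map_mul]
    rw [← hα, ← hβ, ← hca, ← hcb]
    ring)
  have h4 := congrArg ev h3
  rw [map_mul, ← e₀, map_mul ev b₀] at h4
  exact mul_left_cancel₀ hb₀ (by linear_combination h4)

/-- A local generator of a prime minimal among the nonzero ones below `m`. -/
theorem exists_generator_of_le {P : Ideal A} (hP : IsMinNonzero P) (hle : P ≤ m) :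
    ∃ γ : A, γ ∈ P ∧ γ ≠ 0 ∧ (∀ a ∈ P, ∃ c t : A, t ∉ m ∧ a * t = γ * c) ∧
      ∀ Q : Ideal A, IsMinNonzero Q → Q ≤ m → γ ∈ Q → Q = P := by
  haveI := hP.1
  obtain ⟨a, haP, ha0⟩ := Submodule.exists_mem_ne_zero_of_ne_bot hP.2.1
  have hdisj : Disjoint (m.primeCompl : Set A) P := Set.disjoint_left.2 fun x hx hxP => hx (hle hxP)
  have hPO : (P.map (algebraMap A O)).IsPrime := IsLocalization.isPrime_of_isPrime_disjoint m.primeCompl O P hP.1 hdisj
  have hne : P.map (algebraMap A O) ≠ ⊥ := fun h => ha0 (injective_algebraMap_atPrime m O (by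
    rw [map_zero, ← Ideal.mem_bot, ← h]
    exact Ideal.mem_map_of_mem _ haP))
  obtain ⟨q, hq, hqp⟩ := Ideal.IsPrime.exists_mem_prime_of_ne_bot hPO hne
  have hcomap := IsLocalization.comap_map_of_isPrime_disjoint m.primeCompl O hP.1 hdisj
  have hle' : (Ideal.span {q}).comap (algebraMap A O) ≤ P :=
    hcomap ▸ Ideal.comap_mono ((Ideal.span_singleton_le_iff_mem _).2 hq)
  have heq : (Ideal.span {q}).comap (algebraMap A O) = P :=
    (hP.2.2 _ (isMinNonzero_comap m O hqp).1 hle').resolve_left (isMinNonzero_comap m O hqp).2.1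
  obtain ⟨⟨γ, s⟩, hγ⟩ := IsLocalization.surj m.primeCompl q
  dsimp only at hγ
  have hγP : γ ∈ P := by
    rw [← heq, Ideal.mem_comap, Ideal.mem_span_singleton]
    exact ⟨_, hγ.symm⟩
  refine ⟨γ, hγP, fun h0 => ?_, fun b hb => ?_, fun Q hQ hQm hγQ => ?_⟩
  · rw [h0, map_zero, mul_eq_zero] at hγ
    exact hγ.elim hqp.ne_zero (IsLocalization.map_units O s).ne_zero
  · rw [← heq, Ideal.mem_comap, Ideal.mem_span_singleton] at hb
    obtain ⟨c, hc⟩ := hb
    obtain ⟨⟨c', t⟩, hc'⟩ := IsLocalization.surj m.primeCompl c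
    dsimp only at hc'
    refine ⟨c', s * t, ‹m.IsPrime›.mul_notMem s.2 t.2, injective_algebraMap_atPrime m O ?_⟩
    simp only [map_mul]
    rw [hc, ← hγ, ← hc']
    ring
  · refine ((hQ.2.2 P hP.1 ?_).resolve_left hP.2.1).symm
    intro b hb
    rw [← heq, Ideal.mem_comap, Ideal.mem_span_singleton] at hb
    obtain ⟨c, hc⟩ := hb
    obtain ⟨⟨c', t⟩, hc'⟩ := IsLocalization.surj m.primeCompl c
    dsimp only at hc'
    have h1 : b * (s * t) = γ * c' := injective_algebraMap_atPrime m O (by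
      simp only [map_mul]
      rw [hc, ← hγ, ← hc']
      ring)
    exact (hQ.1.mem_or_mem (h1 ▸ Ideal.mul_mem_right c' Q hγQ)).resolve_right
      fun h => ‹m.IsPrime›.mul_notMem s.2 t.2 (hQm h)

end GrothLib.GalCd
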