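import Groth.Agent.Lib.GalCd.GenFibre
import Groth.Agent.Lib.GalCd.FacAlg
import Groth.Agent.Lib.Weight.Multiplicity
import Groth.Agent.Lib.EtSite.ConnFibres
import Groth.Agent.Lib.Rat20Ext.Basic
import Mathlib.RingTheory.Flat.FaithfullyFlat.Algebra

/-!
# Integral affine charts: functions at the generic point and units at points
-/

set_option autoImplicit false
set_option backward.isDefEq.respectTransparency false
set_option backward.isDefEq.respectTransparency.types false
set_option linter.style.haveILetI false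

universe u

open CategoryTheory CategoryTheory.Limits AlgebraicGeometry Opposite
open GrothLib.EtSite GrothLib.EtTrace21

noncomputable section

namespace GrothLib.GalCd

variable {X : Scheme.{u}}

/-- The prime of a point among the global functions. -/
def pAt (W : Scheme.{u}) (v : W) : Ideal (Γ(W, ⊤) : Type u) :=
  (IsLocalRing.maximalIdeal (W.presheaf.stalk v)).comap (W.presheaf.germ ⊤ v trivial).hom

instance isPrime_pAt (W : Scheme.{u}) (v : W) : (pAt W v).IsPrime := by
  unfold pAt; infer_instance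

theorem mem_pAt {W : Scheme.{u}} {v : W} {a : (Γ(W, ⊤) : Type u)} :
    a ∈ pAt W v ↔ ¬ IsUnit ((W.presheaf.germ ⊤ v trivial).hom a) := by
  rw [pAt, Ideal.mem_comap, IsLocalRing.mem_maximalIdeal]
  rfl

theorem notMem_pAt_iff {W : Scheme.{u}} {v : W} {a : (Γ(W, ⊤) : Type u)} :
    a ∉ pAt W v ↔ v ∈ W.basicOpen a := by
  rw [mem_pAt, not_not, W.mem_basicOpen a v trivial]

theorem pAt_eq_primeIdealOf (W : Scheme.{u}) [IsAffine W] (v : W) :
    pAt W v = ((isAffineOpen_top W).primeIdealOf ⟨v, trivial⟩).asIdeal := by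
  rw [IsAffineOpen.primeIdealOf_eq_map_closedPoint]
  rfl

theorem pAt_le_iff {W : Scheme.{u}} [IsAffine W] {v w : W} : pAt W v ≤ pAt W w ↔ v ⤳ w := by
  constructor
  · intro h
    rw [specializes_iff_forall_open]
    intro O hO hw
    obtain ⟨f, hf, hwf⟩ := (isAffineOpen_top W).exists_basicOpen_le (V := ⟨O, hO⟩) ⟨w, hw⟩ trivial
    exact hf (notMem_pAt_iff.1 fun hm => notMem_pAt_iff.2 hwf (h hm))
  · intro h a ha
    by_contra hn
    exact notMem_pAt_iff.2 (h.mem_open (W.basicOpen a).2 (notMem_pAt_iff.1 hn)) |> fun hv => hv ha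

theorem exists_pAt_eq (W : Scheme.{u}) [IsAffine W] (Q : Ideal (Γ(W, ⊤) : Type u)) [hQ : Q.IsPrime] :
    ∃ v : W, pAt W v = Q := by
  let hA := isAffineOpen_top W
  let q : PrimeSpectrum (Γ(W, ⊤) : Type u) := ⟨Q, hQ⟩
  refine ⟨hA.fromSpec q, ?_⟩
  rw [pAt_eq_primeIdealOf]
  exact congrArg PrimeSpectrum.asIdeal (hA.fromSpec.isOpenEmbedding.injective (hA.fromSpec_primeIdealOf ⟨_, trivial⟩))

theorem eq_of_specializes_both {W : Scheme.{u}} {v w : W} (h₁ : v ⤳ w) (h₂ : w ⤳ v) : v = w :=
  Specializes.antisymm h₁ h₂ |>.eq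

/-- The evaluation at the generic point. -/
def evGen (W : Scheme.{u}) [IsIntegral W] : (Γ(W, ⊤) : Type u) →+* W.residueField (genericPoint W) :=
  (W.evaluation ⊤ (genericPoint W) trivial).hom

theorem evGen_injective (W : Scheme.{u}) [IsIntegral W] : Function.Injective (evGen W) := by
  rw [injective_iff_map_eq_zero]
  intro a ha
  have h := (W.evaluation_eq_zero_iff_notMem_basicOpen (U := ⊤) (genericPoint W) trivial a).1 ha
  refine (basicOpen_eq_bot_iff _).1 (le_bot_iff.1 fun w hw => ?_)
  exact h ((genericPoint_specializes w).mem_open (W.basicOpen a).2 hw)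

theorem pAt_genericPoint (W : Scheme.{u}) [IsIntegral W] : pAt W (genericPoint W) = ⊥ := by
  refine le_bot_iff.1 fun a ha => ?_
  have := (W.evaluation_eq_zero_iff_notMem_basicOpen (U := ⊤) (genericPoint W) trivial a).2 fun h => notMem_pAt_iff.2 h ha
  exact evGen_injective W (this.trans (map_zero (evGen W)).symm)

theorem evGen_frac (W : Scheme.{u}) [IsIntegral W] [IsAffine W] (c : W.residueField (genericPoint W)) :
    ∃ a b : (Γ(W, ⊤) : Type u), evGen W b ≠ 0 ∧ c * evGen W b = evGen W a := by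
  obtain ⟨r, rfl⟩ := W.residue_surjective _ c
  let ζ : (⊤ : W.Opens) := ⟨genericPoint W, trivial⟩
  letI : Algebra (Γ(W, ⊤) : Type u) (W.presheaf.stalk (genericPoint W)) :=
    TopCat.Presheaf.algebra_section_stalk W.presheaf ζ
  haveI := (isAffineOpen_top W).isLocalization_stalk ζ
  obtain ⟨⟨a, s⟩, e⟩ := IsLocalization.surj ((isAffineOpen_top W).primeIdealOf ζ).asIdeal.primeCompl r
  refine ⟨a, s, ?_, ?_⟩
  · exact ((IsLocalization.map_units (W.presheaf.stalk (genericPoint W)) s).map (W.residue _).hom).ne_zero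
  · exact ((map_mul (W.residue (genericPoint W)).hom _ _).symm.trans (congrArg (W.residue _).hom e))

theorem isLocalization_pAt (W : Scheme.{u}) [IsAffine W] (v : W) :
    letI : Algebra (Γ(W, ⊤) : Type u) (W.presheaf.stalk v) :=
      TopCat.Presheaf.algebra_section_stalk W.presheaf (⟨v, trivial⟩ : (⊤ : W.Opens))
    IsLocalization.AtPrime (W.presheaf.stalk v) (pAt W v) := by
  have h := (isAffineOpen_top W).isLocalization_stalk (⟨v, trivial⟩ : (⊤ : W.Opens))
  have e : (pAt W v).primeCompl = ((isAffineOpen_top W).primeIdealOf ⟨v, trivial⟩).asIdeal.primeCompl :=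
    SetLike.ext fun a => not_congr (by rw [pAt_eq_primeIdealOf])
  unfold IsLocalization.AtPrime at h ⊢
  rw [e]
  exact h

/-- Germs which are associated give units. -/
theorem isUnitAt_of_associated {W : Scheme.{u}} [IsIntegral W] [IsAffine W] (v : W)
    {f : W.residueField (genericPoint W)} {a b : (Γ(W, ⊤) : Type u)} (hb : evGen W b ≠ 0)
    (e : f * evGen W b = evGen W a)
    (h : Associated ((W.presheaf.germ ⊤ v trivial).hom b) ((W.presheaf.germ ⊤ v trivial).hom a)) :
    IsUnitAt (evGen W) (pAt W v) f := by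
  obtain ⟨u, hu⟩ := h
  letI : Algebra (Γ(W, ⊤) : Type u) (W.presheaf.stalk v) :=
    TopCat.Presheaf.algebra_section_stalk W.presheaf (⟨v, trivial⟩ : (⊤ : W.Opens))
  haveI : IsLocalization.AtPrime (W.presheaf.stalk v) (pAt W v) := by
    exact isLocalization_pAt W v
  obtain ⟨⟨s, t⟩, he⟩ := IsLocalization.surj (pAt W v).primeCompl (u : W.presheaf.stalk v)
  dsimp only at he
  have hs : s ∉ pAt W v := fun hm => mem_pAt.1 hm (he ▸ u.isUnit.mul (IsLocalization.map_units _ t))
  refine ⟨s, t, hs, t.2, ?_⟩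
  have hgi : Function.Injective (algebraMap (Γ(W, ⊤) : Type u) (W.presheaf.stalk v)) :=
    IsLocalization.injective _ (pAt W v).primeCompl_le_nonZeroDivisors
  have h1 : a * (t : (Γ(W, ⊤) : Type u)) = b * s := hgi (by
    rw [map_mul, map_mul, ← he, ← mul_assoc]
    exact congrArg (· * _) hu.symm)
  have h2 := congrArg (evGen W) h1
  rw [map_mul, map_mul, ← e, mul_comm f, mul_assoc] at h2
  exact mul_left_cancel₀ hb h2

/-- Associatedness descends along flat local maps. -/
theorem associated_of_map {R S : CommRingCat.{u}} (φ : R ⟶ S) [IsLocalRing R] [IsLocalRing S] [IsDomain R]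
    [IsLocalHom φ.hom] (hflat : φ.hom.Flat) {a b : R} (h : Associated (φ.hom a) (φ.hom b)) : Associated a b := by
  letI := φ.hom.toAlgebra
  haveI : Module.Flat R S := hflat
  haveI : IsLocalHom (algebraMap R S) := inferInstanceAs (IsLocalHom φ.hom)
  haveI : Module.FaithfullyFlat R S := Module.FaithfullyFlat.of_flat_of_isLocalHom
  have key : ∀ {a b : R}, φ.hom a ∣ φ.hom b → a ∣ b := fun {a b} hd => by
    rw [← Ideal.mem_span_singleton, ← Ideal.comap_map_eq_self_of_faithfullyFlat (B := S) (Ideal.span {a}),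
      Ideal.mem_comap, Ideal.map_span, Set.image_singleton, Ideal.mem_span_singleton]
    exact hd
  exact associated_of_dvd_dvd (key h.dvd) (key h.symm.dvd)

/-- A section generating the maximal ideal of the stalk gives a local generator. -/
theorem gen_of_span {W : Scheme.{u}} [IsIntegral W] [IsAffine W] (v : W) {γ : (Γ(W, ⊤) : Type u)}
    (h : IsLocalRing.maximalIdeal (W.presheaf.stalk v) = Ideal.span {(W.presheaf.germ ⊤ v trivial).hom γ}) :
    γ ∈ pAt W v ∧ ∀ a ∈ pAt W v, ∃ c t : (Γ(W, ⊤) : Type u), t ∉ pAt W v ∧ a * t = γ * c := by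
  letI : Algebra (Γ(W, ⊤) : Type u) (W.presheaf.stalk v) :=
    TopCat.Presheaf.algebra_section_stalk W.presheaf (⟨v, trivial⟩ : (⊤ : W.Opens))
  haveI : IsLocalization.AtPrime (W.presheaf.stalk v) (pAt W v) := by
    exact isLocalization_pAt W v
  refine ⟨Ideal.mem_comap.2 (h ▸ Ideal.mem_span_singleton_self _), fun a ha => ?_⟩
  rw [pAt, Ideal.mem_comap, h, Ideal.mem_span_singleton] at ha
  obtain ⟨c, hc⟩ := ha
  obtain ⟨⟨c', t⟩, he⟩ := IsLocalization.surj (pAt W v).primeCompl c
  dsimp only at he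
  refine ⟨c', t, t.2, IsLocalization.injective (W.presheaf.stalk v) (pAt W v).primeCompl_le_nonZeroDivisors ?_⟩
  rw [map_mul, map_mul, ← he, ← mul_assoc]
  exact congrArg (· * _) hc

/-- Near every point of an etale scheme with domains as local rings there is an integral affine chart. -/
theorem exists_chart [IsLocallyNoetherian X] (V : X.Etale) (v : V.left) [IsDomain (V.left.presheaf.stalk v)] :
    ∃ (O : V.left.Opens), v ∈ O ∧ IsAffine (opensObj V O).left ∧ IsIntegral (opensObj V O).left := by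
  let f : V.left ⟶ X := V.hom
  haveI : Etale f := V.prop
  haveI : IsLocallyNoetherian V.left := LocallyOfFiniteType.isLocallyNoetherian f
  obtain ⟨R, _, _, φ, _, z, hz⟩ := GrothLib.InvExt.exists_integral_affine_nhd v
  haveI : Nonempty φ.opensRange.toScheme := ⟨φ.isoOpensRange.hom z⟩
  exact ⟨φ.opensRange, ⟨z, hz⟩, (IsAffine.of_isIso φ.isoOpensRange.inv : IsAffine φ.opensRange.toScheme),
    (isIntegral_of_isOpenImmersion φ.isoOpensRange.inv : IsIntegral φ.opensRange.toScheme)⟩

end GrothLib.GalCd
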