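import Groth.Agent.Lib.GalCd.Chart
import Groth.Agent.Lib.GalCd.BrCurve

/-!
# The sheaf of divisors on charts
-/

set_option autoImplicit false
set_option backward.isDefEq.respectTransparency false
set_option backward.isDefEq.respectTransparency.types false
set_option linter.style.haveILetI false

universe u

open CategoryTheory CategoryTheory.Limits AlgebraicGeometry Opposite
open GrothLib.EtSite GrothLib.EtTrace21 GrothLib.EtColim GrothLib.EtLimit GrothLib.SheafCoh

noncomputable section

namespace GrothLib.GalCd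

variable (X : Scheme.{u}) [IsLocallyNoetherian X] [Finite (MaxPts X)]

/-- The sum of the groups at the maximal points. -/
def Pmax : EtCoh.Ab X := ⨁ fun x : MaxPts X => GPush x.1

/-- The projections. -/
def Pmax.π (x : MaxPts X) : Pmax X ⟶ GPush x.1 := biproduct.π (fun x : MaxPts X => GPush x.1) x

/-- The map from the multiplicative group. -/
def toMax : EtCoh.Gm X ⟶ Pmax X := biproduct.lift fun x : MaxPts X => EtLim.GmPush (X.fromSpecResidueField x.1)

theorem toMax_π (x : MaxPts X) : toMax X ≫ Pmax.π X x = EtLim.GmPush (X.fromSpecResidueField x.1) :=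
  biproduct.lift_π _ _

/-- The sheaf of divisors. -/
def DivSheaf : EtCoh.Ab X := cokernel (toMax X)

/-- The divisor of a function. -/
def toDiv : Pmax X ⟶ DivSheaf X := cokernel.π (toMax X)

theorem toMax_toDiv : toMax X ≫ toDiv X = 0 := cokernel.condition _

variable {X}

theorem mono_toMax [IsReduced X] : Mono (toMax X) := by
  refine ⟨fun {T} g h e => ObjectProperty.hom_ext _ (NatTrans.ext (funext fun V =>
    AddCommGrpCat.hom_ext (AddMonoidHom.ext fun z => ?_)))⟩
  let u₁ := g.hom.app V z
  let u₂ := h.hom.app V z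
  refine sub_eq_zero.1 (ULift.ext _ _ (Additive.toMul.injective (Units.ext ?_)))
  refine eq_one_of_forall_max V.unop _ fun x hx => ?_
  have e2 : (EtLim.GmPush (X.fromSpecResidueField x)).hom.app V (u₁ - u₂) = 0 := by
    rw [map_sub, sub_eq_zero]
    have := congrArg (fun r => r ≫ Pmax.π X ⟨x, hx⟩) e
    simp only [Category.assoc, toMax_π] at this
    exact congr($(congrArg (fun r : T ⟶ GPush x => r.hom.app V) this) z)
  exact congrArg (fun r : ULift.{u + 1} (Additive
    (Γ(((EtCoh.bc (X.fromSpecResidueField x)).obj V.unop).left, ⊤) : Type u)ˣ) =>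
      ((Additive.toMul r.down : _ˣ) : Γ(((EtCoh.bc (X.fromSpecResidueField x)).obj V.unop).left, ⊤))) e2

theorem shortExact_div [IsReduced X] :
    (ShortComplex.mk (toMax X) (toDiv X) (toMax_toDiv X)).ShortExact := by
  haveI := mono_toMax (X := X)
  haveI : Epi (toDiv X) := inferInstanceAs (Epi (cokernel.π (toMax X)))
  exact { exact := ShortComplex.exact_of_g_is_cokernel _ (cokernelIsCokernel (toMax X)) }

omit [IsLocallyNoetherian X] [Finite (MaxPts X)] in
/-- Points over maximal points are maximal. -/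
theorem maximal_over {V : X.Etale} (p : V.left) (h : ∀ y, y ⤳ V.hom.base p → y = V.hom.base p) :
    ∀ q, q ⤳ p → q = p := by
  let f : V.left ⟶ X := V.hom
  haveI : Etale f := V.prop
  haveI : LocallyQuasiFinite f := GrothLib.EtBasicB.locallyQuasiFinite_of_unramified f
  exact GrothLib.Unibranch.maximal_of_locallyQuasiFinite f p h

omit [IsLocallyNoetherian X] [Finite (MaxPts X)] in
theorem eq_genericPoint {V : X.Etale} [IsIntegral V.left] {p : V.left}
    (h : ∀ y, y ⤳ V.hom.base p → y = V.hom.base p) : p = genericPoint V.left :=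
  (maximal_over p h _ (genericPoint_specializes p)).symm

omit [IsLocallyNoetherian X] [Finite (MaxPts X)] in
theorem maximal_map_etale {V : X.Etale} (p : V.left) (h : ∀ q, q ⤳ p → q = p) :
    ∀ y, y ⤳ V.hom.base p → y = V.hom.base p := by
  let f : V.left ⟶ X := V.hom
  haveI : Etale f := V.prop
  exact GrothLib.Unibranch.maximal_map f (Flat.generalizingMap f) p h

omit [IsLocallyNoetherian X] [Finite (MaxPts X)] in
theorem gen_max (V : X.Etale) [IsIntegral V.left] :
    ∀ y, y ⤳ V.hom.base (genericPoint V.left) → y = V.hom.base (genericPoint V.left) :=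
  maximal_map_etale _ fun q hq => (genericPoint_specializes q).antisymm hq |>.eq.symm

omit [IsLocallyNoetherian X] [Finite (MaxPts X)] in
theorem map_genericPoint {W V : X.Etale} [IsIntegral W.left] [IsIntegral V.left] (g : W ⟶ V) :
    g.left.base (genericPoint W.left) = genericPoint V.left := by
  refine eq_genericPoint ?_
  have e : V.hom.base (g.left.base (genericPoint W.left)) = W.hom.base (genericPoint W.left) :=
    congr($(MorphismProperty.Over.w g).base (genericPoint W.left))
  rw [e]
  exact gen_max W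

/-- The function of a section on an integral chart. -/
def fnV {V : X.Etale} [IsIntegral V.left] (s : EtCoh.sect (Pmax X) V) : V.left.residueField (genericPoint V.left) :=
  fnAt (V.hom.base (genericPoint V.left)) (genericPoint V.left) rfl
    ((Pmax.π X ⟨_, gen_max V⟩).hom.app (op V) s)

theorem fnV_eq {V : X.Etale} [IsIntegral V.left] (s : EtCoh.sect (Pmax X) V) (η : MaxPts X)
    (h : V.hom.base (genericPoint V.left) = η.1) :
    fnV s = fnAt η.1 (genericPoint V.left) h ((Pmax.π X η).hom.app (op V) s) := by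
  obtain ⟨η, hη⟩ := η
  dsimp only at h
  subst h
  rfl

theorem fnV_ne_zero {V : X.Etale} [IsIntegral V.left] (s : EtCoh.sect (Pmax X) V) : fnV s ≠ 0 :=
  fnAt_ne_zero _ _ _ _

theorem fnV_add {V : X.Etale} [IsIntegral V.left] (s t : EtCoh.sect (Pmax X) V) :
    fnV (s + t) = fnV s * fnV t := by
  rw [fnV, map_add, fnAt_add]
  rfl

theorem fnV_zero {V : X.Etale} [IsIntegral V.left] : fnV (0 : EtCoh.sect (Pmax X) V) = 1 := by
  have h := fnV_add (0 : EtCoh.sect (Pmax X) V) 0
  rw [add_zero] at h
  exact mul_left_cancel₀ (fnV_ne_zero _) (h.symm.trans (mul_one _).symm)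

theorem fnV_neg {V : X.Etale} [IsIntegral V.left] (s : EtCoh.sect (Pmax X) V) : fnV (-s) = (fnV s)⁻¹ := by
  refine eq_inv_of_mul_eq_one_left ?_
  rw [← fnV_add, neg_add_cancel, fnV_zero]

theorem fnV_toMax {V : X.Etale} [IsIntegral V.left] (u : (Γ(V.left, ⊤) : Type u)ˣ) :
    fnV ((toMax X).hom.app (op V) (show EtCoh.sect (EtCoh.Gm X) V from (ULift.up (Additive.ofMul u) :
      ULift.{u + 1} (Additive (Γ(V.left, ⊤) : Type u)ˣ)))) = evGen V.left u := by
  refine Eq.trans ?_ (fnAt_GmPush (V.hom.base (genericPoint V.left)) (genericPoint V.left) rfl u)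
  exact congrArg (fnAt _ _ _) (congr($(congrArg (fun r : EtCoh.Gm X ⟶ GPush _ => r.hom.app (op V))
    (toMax_π X ⟨_, gen_max V⟩)) _))

theorem fnV_ext [IsReduced X] {V : X.Etale} [IsIntegral V.left] {s t : EtCoh.sect (Pmax X) V}
    (h : fnV s = fnV t) : s = t := by
  have key : ∀ η : MaxPts X, (Pmax.π X η).hom.app (op V) s = (Pmax.π X η).hom.app (op V) t := fun η => by
    by_cases hη : V.hom.base (genericPoint V.left) = η.1
    · rw [fnV_eq s η hη, fnV_eq t η hη] at h
      refine fnAt_injective η.1 _ hη (fun p hp => eq_genericPoint ?_) h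
      rw [hp]
      exact η.2
    · haveI := subsingleton_sect_GPush η.1 V fun p hp =>
        hη ((congrArg V.hom.base (eq_genericPoint (p := p) (hp ▸ η.2))).symm.trans hp)
      exact Subsingleton.elim _ _
  have e : ofSect s = ofSect t := biproduct.hom_ext _ _ fun η => ZV_ext (by
    change (Pmax.π X η).hom.app (op V) ((ofSect s).hom.app (op V) (gen V)) =
      (Pmax.π X η).hom.app (op V) ((ofSect t).hom.app (op V) (gen V))
    rw [ofSect_gen, ofSect_gen]
    exact key η)
  rw [← ofSect_gen s, ← ofSect_gen t, e]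

/-- The map of function fields of charts. -/
def rmap {W V : X.Etale} [IsIntegral W.left] [IsIntegral V.left] (g : W ⟶ V) :
    V.left.residueField (genericPoint V.left) →+* W.left.residueField (genericPoint W.left) :=
  ((V.left.residueFieldCongr (map_genericPoint g)).inv ≫ g.left.residueFieldMap (genericPoint W.left)).hom

omit [IsLocallyNoetherian X] [Finite (MaxPts X)] in
theorem rmap_evGen {W V : X.Etale} [IsIntegral W.left] [IsIntegral V.left] (g : W ⟶ V)
    (a : (Γ(V.left, ⊤) : Type u)) : rmap g (evGen V.left a) = evGen W.left (g.left.appTop.hom a) := by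
  have key : ∀ (v : V.left) (hv : g.left.base (genericPoint W.left) = v),
      (g.left.residueFieldMap (genericPoint W.left)).hom ((V.left.residueFieldCongr hv).inv.hom
        ((V.left.evaluation ⊤ v trivial).hom a)) =
          (W.left.evaluation ⊤ (genericPoint W.left) trivial).hom (g.left.appTop.hom a) := by
    intro v hv
    subst hv
    simp only [Scheme.residueFieldCongr_refl]
    exact congr($(Scheme.evaluation_naturality g.left (V := ⊤) (genericPoint W.left) trivial) a)
  exact key _ (map_genericPoint g)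

theorem fnV_map {W V : X.Etale} [IsIntegral W.left] [IsIntegral V.left] (g : W ⟶ V)
    (s : EtCoh.sect (Pmax X) V) : fnV ((Pmax X).obj.map g.op s) = rmap g (fnV s) := by
  let ζ := genericPoint W.left
  have e : V.hom.base (g.left.base ζ) = W.hom.base ζ := congr($(MorphismProperty.Over.w g).base ζ)
  let η : MaxPts X := ⟨W.hom.base ζ, gen_max W⟩
  have key : ∀ (v : V.left) (hv : g.left.base ζ = v) (hvη : V.hom.base v = η.1),
      fnAt η.1 ζ rfl ((GPush η.1).obj.map g.op ((Pmax.π X η).hom.app (op V) s)) =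
        (g.left.residueFieldMap ζ).hom ((V.left.residueFieldCongr hv).inv.hom
          (fnAt η.1 v hvη ((Pmax.π X η).hom.app (op V) s))) := by
    intro v hv hvη
    subst hv
    simp only [Scheme.residueFieldCongr_refl]
    exact fnAt_map η.1 g ζ rfl e _
  have hV : V.hom.base (genericPoint V.left) = η.1 := by rw [← map_genericPoint g]; exact e
  refine Eq.trans (congrArg (fnAt η.1 ζ rfl) (NatTrans.naturality_apply (Pmax.π X η).hom g.op s)) ?_
  rw [fnV_eq s η hV]
  exact key _ (map_genericPoint g) hV

variable [IsReduced X]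

/-- A function which is a unit at a point has zero germ as a divisor. -/
theorem germ_toDiv_of_isUnitAt {V : X.Etale} [IsIntegral V.left] [IsAffine V.left] (s : EtCoh.sect (Pmax X) V)
    {Ω : Type u} [Field Ω] [IsSepClosed Ω] (ξ : Spec (CommRingCat.of Ω) ⟶ X)
    (t : (Scheme.pointSmallEtale ξ).fiber.obj V)
    (h : IsUnitAt (evGen V.left) (pAt V.left (t.left.base (default : Spec (CommRingCat.of Ω)))) (fnV s)) :
    germ ξ (DivSheaf X) t ((toDiv X).hom.app (op V) s) = 0 := by
  let v := t.left.base (default : Spec (CommRingCat.of Ω))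
  obtain ⟨a, b, ha, hb, e⟩ := h
  let O : V.left.Opens := V.left.basicOpen (a * b)
  have hvO : v ∈ O := by
    change v ∈ V.left.basicOpen (a * b)
    rw [Scheme.basicOpen_mul]
    exact ⟨notMem_pAt_iff.1 ha, notMem_pAt_iff.1 hb⟩
  let W := opensObj V O
  let g : W ⟶ V := opensHom V O
  haveI : Nonempty O.toScheme := ⟨⟨v, hvO⟩⟩
  haveI : IsIntegral W.left := (isIntegral_of_isOpenImmersion O.ι : IsIntegral O.toScheme)
  obtain ⟨t', ht', -⟩ := GrothLib.EtBasicB.exists_fib_lift ξ g t (⟨v, hvO⟩ : O) rfl
  have hunit : ∀ c, c ∣ a * b → IsUnit (g.left.appTop.hom c) := by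
    intro c hc
    refine isUnit_of_dvd_unit (map_dvd _ hc) ?_
    have hu : IsUnit ((V.left.presheaf.map (homOfLE (le_top : O ≤ ⊤)).op).hom (a * b)) :=
      V.left.toRingedSpace.isUnit_res_basicOpen (a * b)
    have eq : g.left.appTop.hom (a * b) =
        O.topIso.inv.hom ((V.left.presheaf.map (homOfLE (le_top : O ≤ ⊤)).op).hom (a * b)) := by
      change O.ι.appTop.hom (a * b) = _
      simp only [Scheme.Opens.ι_appTop, Scheme.Opens.topIso_inv]
      exact congr($(V.left.presheaf.map_comp (homOfLE (le_top : O ≤ ⊤)).op (eqToHom O.ι_image_top).op) (a * b))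
    rw [eq]
    exact hu.map _
  let ua : EtCoh.sect (EtCoh.Gm X) W := (ULift.up (Additive.ofMul (hunit a ⟨b, rfl⟩).unit) :
    ULift.{u + 1} (Additive (Γ(W.left, ⊤) : Type u)ˣ))
  let ub : EtCoh.sect (EtCoh.Gm X) W := (ULift.up (Additive.ofMul (hunit b ⟨a, mul_comm a b⟩).unit) :
    ULift.{u + 1} (Additive (Γ(W.left, ⊤) : Type u)ˣ))
  have hs : (Pmax X).obj.map g.op s + (toMax X).hom.app (op W) ub = (toMax X).hom.app (op W) ua := fnV_ext (by
    rw [fnV_add, fnV_map]
    erw [fnV_toMax, fnV_toMax]
    rw [IsUnit.unit_spec, IsUnit.unit_spec, ← rmap_evGen, ← rmap_evGen, ← map_mul, e])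
  have hz : ∀ u : EtCoh.sect (EtCoh.Gm X) W, (toDiv X).hom.app (op W) ((toMax X).hom.app (op W) u) = 0 := fun u =>
    congr($(congrArg (fun r : EtCoh.Gm X ⟶ DivSheaf X => r.hom.app (op W)) (toMax_toDiv X)) u)
  rw [← ht', ← germ_map]
  have h0 : (DivSheaf X).obj.map g.op ((toDiv X).hom.app (op V) s) = 0 := by
    refine (NatTrans.naturality_apply (toDiv X).hom g.op s).symm.trans ?_
    have := congrArg ((toDiv X).hom.app (op W)) hs
    rw [map_add, hz, hz, add_zero] at this
    exact this
  rw [h0, map_zero]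

/-- A section with divisor vanishing near a point is a unit there. -/
theorem isUnitAt_of_germ_toDiv {V : X.Etale} [IsIntegral V.left] [IsAffine V.left] (s : EtCoh.sect (Pmax X) V)
    (hdom : ∀ (U : X.Etale) (u : U.left), IsDomain (U.left.presheaf.stalk u))
    {Ω : Type u} [Field Ω] [IsSepClosed Ω] (ξ : Spec (CommRingCat.of Ω) ⟶ X)
    (t : (Scheme.pointSmallEtale ξ).fiber.obj V)
    (h : germ ξ (DivSheaf X) t ((toDiv X).hom.app (op V) s) = 0) :
    IsUnitAt (evGen V.left) (pAt V.left (t.left.base (default : Spec (CommRingCat.of Ω)))) (fnV s) := by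
  obtain ⟨W₀, g₀, w₀, hw₀, hg₀⟩ := eq_zero_nhd ξ _ t _ h
  obtain ⟨O, hwO, hOA, hOI⟩ := (haveI := hdom W₀ w₀; exists_chart W₀ w₀)
  let W := opensObj W₀ O
  let g : W ⟶ V := opensHom W₀ O ≫ g₀
  let w : W.left := (⟨w₀, hwO⟩ : O)
  haveI : IsIntegral W.left := hOI
  have hgw : g.left.base w = t.left.base (default : Spec (CommRingCat.of Ω)) := hw₀
  rw [← hgw]
  have h0 : (toDiv X).hom.app (op W) ((Pmax X).obj.map g.op s) = 0 := by
    refine (NatTrans.naturality_apply (toDiv X).hom g.op s).trans ?_
    change (DivSheaf X).obj.map ((opensHom W₀ O ≫ g₀).op) _ = 0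
    rw [op_comp, Functor.map_comp, ConcreteCategory.comp_apply, hg₀, map_zero]
  obtain ⟨u, hu⟩ := exists_lift_sect shortExact_div ((Pmax X).obj.map g.op s) h0
  let uu : (Γ(W.left, ⊤) : Type u)ˣ :=
    Additive.toMul (ULift.down (show ULift.{u + 1} (Additive (Γ(W.left, ⊤) : Type u)ˣ) from u))
  have hf : rmap g (fnV s) = evGen W.left uu := by
    rw [← fnV_map, ← hu]
    exact fnV_toMax uu
  obtain ⟨a, b, hb, e⟩ := evGen_frac V.left (fnV s)
  have h1 : g.left.appTop.hom a = (uu : (Γ(W.left, ⊤) : Type u)) * g.left.appTop.hom b := evGen_injective W.left (by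
    rw [map_mul, ← hf, ← rmap_evGen, ← rmap_evGen, ← map_mul, e])
  haveI := GrothLib.ConnFibres.etale_left g
  haveI := hdom V (g.left.base w)
  have hst : ∀ c : (Γ(V.left, ⊤) : Type u), (g.left.stalkMap w).hom
      ((V.left.presheaf.germ ⊤ (g.left.base w) trivial).hom c) =
        (W.left.presheaf.germ ⊤ w trivial).hom (g.left.appTop.hom c) := fun c =>
    g.left.germ_stalkMap_apply ⊤ w trivial c
  refine isUnitAt_of_associated _ hb e (associated_of_map (g.left.stalkMap w) (Flat.stalkMap g.left w) ?_)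
  rw [hst, hst, h1, map_mul]
  exact (associated_unit_mul_left _ _ (uu.isUnit.map _)).symm

end GrothLib.GalCd
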