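import Groth.Agent.Lib.GalCd.CycSheaf
import Groth.Agent.Lib.EtTrace21.H90Push
import Mathlib.RingTheory.Norm.Basic

/-!
# Norms and degree two cohomology along a cyclic extension
-/

set_option autoImplicit false
set_option backward.isDefEq.respectTransparency false
set_option backward.isDefEq.respectTransparency.types false
set_option linter.style.haveILetI false

universe u

open CategoryTheory CategoryTheory.Limits CategoryTheory.Abelian AlgebraicGeometry Opposite
open GrothLib.EtSite GrothLib.EtColim GrothLib.EtLimit GrothLib.EtTrace21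

noncomputable section

namespace GrothLib.GalCd

variable {k L : Type u} [Field k] [Field L] [Algebra k L] [FiniteDimensional k L] [IsGalois k L]
variable [Etale (specMap k L)] [EtShriek.JCont (specMap k L)]
variable (F : EtCoh.Ab (Spec (CommRingCat.of k)))

local notation "T" => EtCoh.top (Spec (CommRingCat.of k))

/-- A global trace, after restriction to `L`, is the sum of the conjugates. -/
theorem map_toTop_trG (y : EtCoh.sect F (VL k L)) :
    F.obj.map (toTop k L).op ((trG (L := L) F).hom.app (op T) (F.obj.map (prL (L := L) T).op y)) =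
      ∑ σ : L ≃ₐ[k] L, act F σ y := by
  refine (NatTrans.naturality_apply (trG (L := L) F).hom (toTop k L).op _).symm.trans ?_
  let m : WV (L := L) (VL k L) ⟶ WV (L := L) T :=
    (EtShriek.compEtale (specMap k L)).map ((EtCoh.bc (specMap k L)).map (toTop k L))
  change trSect F (VL k L) (F.obj.map m.op (F.obj.map (prL (L := L) T).op y)) = _
  rw [← Functor.map_comp_apply, ← op_comp, prL_natural, trSect_eq_sum F (𝟙 (VL k L))]
  refine Finset.sum_congr rfl fun σ _ => ?_
  rw [← Functor.map_comp_apply, ← op_comp, eSec_prL, Category.id_comp]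
  rfl

theorem exists_prL_eq (a : EtCoh.sect F (WV (L := L) T)) : ∃ y, F.obj.map (prL (L := L) T).op y = a := by
  let m : WV (L := L) (VL k L) ⟶ WV (L := L) T :=
    (EtShriek.compEtale (specMap k L)).map ((EtCoh.bc (specMap k L)).map (toTop k L))
  refine ⟨F.obj.map (eSec (𝟙 (VL k L)) 1 ≫ m).op a, ?_⟩
  have e : prL (L := L) T ≫ eSec (𝟙 (VL k L)) 1 ≫ m = 𝟙 _ := by
    refine hom_ext_WV ((EtCore.topIsTerminal _).hom_ext _ _) ?_
    simp only [m, Category.assoc, prL_natural, eSec_prL, galMap_one, Category.id_comp, Category.comp_id]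
  rw [← Functor.map_comp_apply, ← op_comp, e, op_id, CategoryTheory.Functor.map_id]
  rfl

theorem evOne_comp' {A B : EtCoh.Ab (Spec (CommRingCat.of k))} (a : Z (Spec (CommRingCat.of k)) ⟶ A)
    (φ : A ⟶ B) : evOne B (a ≫ φ) = φ.hom.app (op T) (evOne A a) := rfl

variable [IsFinite (specMap k L)] [PreservesFiniteLimits (EtCoh.pull (specMap k L))]

theorem comp_unit_eq_zero (n : ℕ) (x : EtCoh.H (Spec (CommRingCat.of k)) F n)
    (h : EtCore.Hpull (specMap k L) F n x = 0) :
    Ext.comp x (Ext.mk₀ (unitPush (specMap k L) F)) (add_zero n) = 0 := by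
  let j := specMap k L
  let y : EtCoh.H (Spec (CommRingCat.of k)) (PF (L := L) F) n :=
    Ext.comp x (Ext.mk₀ (unitPush j F)) (add_zero n)
  refine (Groth.Agent.S14451.result j ((EtShriek.restrAlong j).obj F)
    (fun r hr => isZero_Rpush_of_integral j _ r hr) n).1 ?_
  rw [map_zero]
  have e' : EtCore.Hpull j (PF (L := L) F) n y =
      Ext.comp (EtCore.Hpull j F n x) (Ext.mk₀ ((EtCoh.pull j).map (unitPush j F))) (add_zero n) := by
    rw [GrothLib.EtDer.MV.Hpull_apply, GrothLib.EtDer.MV.Hpull_apply]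
    simp [y, Ext.mapExactFunctor_comp, Ext.mapExactFunctor_mk₀, Ext.comp_assoc_of_third_deg_zero]
  change ((EtCoh.HF _ n).map _).hom (EtCore.Hpull j _ n y) = 0
  rw [e', h, Ext.zero_comp, map_zero]

variable [hF : Subsingleton (EtCoh.H (Spec (CommRingCat.of L)) ((EtShriek.restrAlong (specMap k L)).obj F) 1)]

include hF in
/-- If every global section is a trace, a degree two class killed by `L` vanishes. -/
theorem eq_zero_of_forall_trace (σ : L ≃ₐ[k] L) (hσ : ∀ x, x ∈ Subgroup.zpowers σ)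
    (hsur : ∀ z : EtCoh.sect F T, ∃ y : EtCoh.sect F (VL k L), F.obj.map (toTop k L).op z = ∑ τ : L ≃ₐ[k] L, act F τ y)
    (x : EtCoh.H (Spec (CommRingCat.of k)) F 2) (h : EtCore.Hpull (specMap k L) F 2 x = 0) : x = 0 := by
  haveI : Subsingleton (EtCoh.H (Spec (CommRingCat.of k)) (PF (L := L) F) 1) :=
    subsingleton_H_one_push (specMap k L) _
  obtain ⟨c, rfl⟩ := Ext.covariant_sequence_exact₁ _ (cycS₁_shortExact F σ hσ) x (comp_unit_eq_zero F 2 x h) rfl
  obtain ⟨φ, hφ⟩ := Ext.covariant_sequence_exact₁ _ (cycS₂_shortExact (L := L) F) c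
    (Subsingleton.elim (α := EtCoh.H (Spec (CommRingCat.of k)) (PF (L := L) F) 1) _ 0) rfl
  obtain ⟨φ, rfl⟩ := (Ext.mk₀_bijective _ _).2 φ
  obtain ⟨y, hy⟩ := hsur (evOne F φ)
  obtain ⟨ψ, hψ⟩ := (bijective_evOne (PF (L := L) F)).2
    (F.obj.map (prL (L := L) T).op y : EtCoh.sect F (WV (L := L) T))
  have hlift : ψ ≫ trG F = φ := by
    refine (bijective_evOne F).1 (eq_of_map_toTop (L := L) _ _ ?_)
    rw [evOne_comp', hψ, hy]
    exact map_toTop_trG F y
  have hc : c = 0 := by
    rw [← hφ, ← hlift, ← Ext.mk₀_comp_mk₀, Ext.comp_assoc_of_second_deg_zero]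
    change Ext.comp _ (Ext.comp (Ext.mk₀ (cycS₂ (L := L) F).g) _ _) _ = 0
    rw [(cycS₂_shortExact (L := L) F).comp_extClass, Ext.comp_zero]
  rw [hc, Ext.zero_comp]

include hF in
/-- If no degree two class is killed by the degree, every global section is a trace. -/
theorem exists_trace_of_no_torsion (σ : L ≃ₐ[k] L) (hσ : ∀ x, x ∈ Subgroup.zpowers σ)
    (h2 : ∀ x : EtCoh.H (Spec (CommRingCat.of k)) F 2, Module.finrank k L • x = 0 → x = 0)
    (z : EtCoh.sect F T) : ∃ y : EtCoh.sect F (VL k L), F.obj.map (toTop k L).op z = ∑ τ : L ≃ₐ[k] L, act F τ y := by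
  haveI : Subsingleton (EtCoh.H (Spec (CommRingCat.of k)) (PF (L := L) F) 1) :=
    subsingleton_H_one_push (specMap k L) _
  let h₁ := cycS₁_shortExact F σ hσ
  let h₂ := cycS₂_shortExact (L := L) F
  obtain ⟨φ, rfl⟩ := (bijective_evOne F).2 z
  let c : EtCoh.H (Spec (CommRingCat.of k)) (cycS₂ (L := L) F).X₁ 1 :=
    Ext.comp (Ext.mk₀ φ) h₂.extClass (zero_add 1)
  have hnc : Module.finrank k L • c = 0 := by
    have e : Module.finrank k L • φ = (φ ≫ unitPush (specMap k L) F) ≫ (cycS₂ (L := L) F).g := by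
      rw [Category.assoc]
      change _ = φ ≫ unitPush _ _ ≫ trG F
      rw [unit_trG, Preadditive.comp_nsmul, Category.comp_id]
    have e2 : Ext.comp (Ext.mk₀ (Module.finrank k L • φ)) h₂.extClass (zero_add 1) = Module.finrank k L • c :=
      map_nsmul (AddMonoidHom.mk' (fun g : EtCoh.const (Spec (CommRingCat.of k)) ℤ ⟶ (cycS₂ (L := L) F).X₃ =>
        Ext.comp (Ext.mk₀ g) h₂.extClass (zero_add 1)) (fun a b => by rw [Ext.mk₀_add, Ext.add_comp])) _ φ
    rw [← e2, e, ← Ext.mk₀_comp_mk₀, Ext.comp_assoc_of_second_deg_zero, h₂.comp_extClass, Ext.comp_zero]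
  have hx : Ext.comp c h₁.extClass (rfl : 1 + 1 = 2) = 0 := h2 _ (by
    have := map_nsmul (AddMonoidHom.mk' (fun g : EtCoh.H (Spec (CommRingCat.of k)) (cycS₂ (L := L) F).X₁ 1 =>
      Ext.comp g h₁.extClass (rfl : 1 + 1 = 2)) (fun a b => Ext.add_comp _ _ _ _)) (Module.finrank k L) c
    refine this.symm.trans ?_
    rw [hnc]
    exact map_zero (AddMonoidHom.mk' (fun g : EtCoh.H (Spec (CommRingCat.of k)) (cycS₂ (L := L) F).X₁ 1 =>
      Ext.comp g h₁.extClass (rfl : 1 + 1 = 2)) (fun a b => Ext.add_comp _ _ _ _)))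
  obtain ⟨w, hw⟩ := Ext.covariant_sequence_exact₃ _ h₁ c rfl hx
  have hc : c = 0 := by
    rw [← hw, Subsingleton.elim (α := EtCoh.H (Spec (CommRingCat.of k)) (PF (L := L) F) 1) w 0, Ext.zero_comp]
  obtain ⟨ψ, hψ⟩ := Ext.covariant_sequence_exact₃ _ h₂ (Ext.mk₀ φ) rfl hc
  obtain ⟨ψ, rfl⟩ := (Ext.mk₀_bijective _ _).2 ψ
  rw [Ext.mk₀_comp_mk₀] at hψ
  have e : ψ ≫ trG F = φ := (Ext.mk₀_bijective _ _).1 hψ
  obtain ⟨y, hy⟩ := exists_prL_eq F (evOne _ ψ : EtCoh.sect F (WV (L := L) T))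
  refine ⟨y, ?_⟩
  rw [← map_toTop_trG, hy, ← e]
  rfl

end GrothLib.GalCd

namespace GrothLib.GalCd

variable {k L : Type u} [Field k] [Field L] [Algebra k L] [FiniteDimensional k L] [IsGalois k L]

/-- Norms are traces of the multiplicative group sheaf. -/
theorem norm_eq_iff (z : EtCoh.sect (EtCoh.Gm (Spec (CommRingCat.of k))) (EtCoh.top (Spec (CommRingCat.of k))))
    (x : kˣ) (hx : (Units.map (Scheme.ΓSpecIso (CommRingCat.of k)).hom.hom.toMonoidHom)
      (Additive.toMul (ULift.down (show ULift.{u + 1} (Additive (Γ(Spec (CommRingCat.of k), ⊤) : Type u)ˣ) from z))) = x)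
    (y : EtCoh.sect (EtCoh.Gm (Spec (CommRingCat.of k))) (VL k L)) :
    (EtCoh.Gm (Spec (CommRingCat.of k))).obj.map (toTop k L).op z =
        ∑ τ : L ≃ₐ[k] L, act (EtCoh.Gm (Spec (CommRingCat.of k))) τ y ↔
      Algebra.norm k ((unitsEquiv y).toMul : L) = x := by
  have e1 : ((unitsEquiv ((EtCoh.Gm (Spec (CommRingCat.of k))).obj.map (toTop k L).op z)).toMul : L) =
      algebraMap k L x := by
    have e : (toTop k L).left = specMap k L := by
      have := MorphismProperty.Over.w (toTop k L)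
      exact (Category.comp_id _).symm.trans this
    rw [← hx]
    change (Scheme.ΓSpecIso (CommRingCat.of L)).hom.hom ((toTop k L).left.appTop.hom _) = _
    rw [e]
    exact congr($(Scheme.ΓSpecIso_naturality (CommRingCat.ofHom (algebraMap k L))) _)
  have e2 : ((unitsEquiv (∑ τ : L ≃ₐ[k] L, act (EtCoh.Gm (Spec (CommRingCat.of k))) τ y)).toMul : L) =
      algebraMap k L (Algebra.norm k ((unitsEquiv y).toMul : L)) := by
    rw [Algebra.norm_eq_prod_automorphisms, map_sum, toMul_sum, Units.coe_prod]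
    exact Finset.prod_congr rfl fun τ _ => congrArg Units.val (unitsEquiv_act τ y)
  constructor
  · intro h
    refine (algebraMap k L).injective ?_
    rw [← e1, h, e2]
  · intro h
    refine unitsEquiv.injective (Additive.toMul.injective (Units.ext ?_))
    rw [e1, e2, h]

theorem exists_generator {p : ℕ} [Fact p.Prime] (hL : Module.finrank k L = p) :
    ∃ σ : L ≃ₐ[k] L, ∀ x, x ∈ Subgroup.zpowers σ := by
  haveI : IsCyclic (L ≃ₐ[k] L) := isCyclic_of_prime_card (p := p) (by rw [IsGalois.card_aut_eq_finrank, hL])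
  exact IsCyclic.exists_generator

/-- If the norm of a cyclic extension of prime degree is surjective, restriction is injective on `H²(-, 𝔾ₘ)`. -/
theorem H2Gm_eq_zero_of_norm_surjective {p : ℕ} [Fact p.Prime] (hL : Module.finrank k L = p)
    (hN : ∀ x : k, x ≠ 0 → ∃ y : L, Algebra.norm k y = x)
    [PreservesFiniteLimits (EtCoh.pull (specMap k L))]
    (x : EtCoh.H (Spec (CommRingCat.of k)) (EtCoh.Gm (Spec (CommRingCat.of k))) 2)
    (h : EtCore.Hpull (specMap k L) (EtCoh.Gm (Spec (CommRingCat.of k))) 2 x = 0) : x = 0 := by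
  haveI := etale_specMap k L
  haveI := isFinite_specMap k L
  haveI := GrothLib.Constructible.jcont (specMap k L)
  haveI : Subsingleton (EtCoh.H (Spec (CommRingCat.of L))
      ((EtShriek.restrAlong (specMap k L)).obj (EtCoh.Gm (Spec (CommRingCat.of k)))) 1) := by
    obtain ⟨e⟩ := restrAlong_Gm (specMap k L)
    haveI := subsingleton_H_one_Gm L
    exact ⟨fun a b => ((EtCoh.HF _ 1).mapIso e).addCommGroupIsoToAddEquiv.injective
      (Subsingleton.elim (α := EtCoh.H _ (EtCoh.Gm _) 1) _ _)⟩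
  obtain ⟨σ, hσ⟩ := exists_generator hL
  refine eq_zero_of_forall_trace _ σ hσ (fun z => ?_) x h
  let a : kˣ := Units.map (Scheme.ΓSpecIso (CommRingCat.of k)).hom.hom.toMonoidHom
    (Additive.toMul (ULift.down (show ULift.{u + 1} (Additive (Γ(Spec (CommRingCat.of k), ⊤) : Type u)ˣ) from z)))
  obtain ⟨y, hy⟩ := hN a a.ne_zero
  have hy0 : y ≠ 0 := fun e => a.ne_zero (by rw [← hy, e, Algebra.norm_zero])
  refine ⟨unitsEquiv.symm (Additive.ofMul (Units.mk0 y hy0)), (norm_eq_iff z a rfl _).2 ?_⟩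
  rw [AddEquiv.apply_symm_apply]
  exact hy

/-- If no class of `H²(-, 𝔾ₘ)` is killed by `p`, norms of cyclic extensions of degree `p` are surjective. -/
theorem norm_surjective_of_H2Gm {p : ℕ} [Fact p.Prime] (hL : Module.finrank k L = p)
    (h2 : ∀ x : EtCoh.H (Spec (CommRingCat.of k)) (EtCoh.Gm (Spec (CommRingCat.of k))) 2, p • x = 0 → x = 0)
    (x : k) (hx : x ≠ 0) : ∃ y : L, Algebra.norm k y = x := by
  haveI := etale_specMap k L
  haveI := isFinite_specMap k L
  haveI := GrothLib.Constructible.jcont (specMap k L)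
  haveI := GrothLib.EtDer.pullFL (specMap k L)
  haveI : Subsingleton (EtCoh.H (Spec (CommRingCat.of L))
      ((EtShriek.restrAlong (specMap k L)).obj (EtCoh.Gm (Spec (CommRingCat.of k)))) 1) := by
    obtain ⟨e⟩ := restrAlong_Gm (specMap k L)
    haveI := subsingleton_H_one_Gm L
    exact ⟨fun a b => ((EtCoh.HF _ 1).mapIso e).addCommGroupIsoToAddEquiv.injective
      (Subsingleton.elim (α := EtCoh.H _ (EtCoh.Gm _) 1) _ _)⟩
  obtain ⟨σ, hσ⟩ := exists_generator hL
  let a : (Γ(Spec (CommRingCat.of k), ⊤) : Type u)ˣ :=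
    Units.map (Scheme.ΓSpecIso (CommRingCat.of k)).inv.hom.toMonoidHom (Units.mk0 x hx)
  let z : EtCoh.sect (EtCoh.Gm (Spec (CommRingCat.of k))) (EtCoh.top (Spec (CommRingCat.of k))) :=
    (ULift.up (Additive.ofMul a) : ULift.{u + 1} (Additive (Γ(Spec (CommRingCat.of k), ⊤) : Type u)ˣ))
  obtain ⟨y, hy⟩ := exists_trace_of_no_torsion _ σ hσ (by rw [hL]; exact h2) z
  refine ⟨((unitsEquiv y).toMul : L), (norm_eq_iff z (Units.mk0 x hx) (Units.ext ?_) y).1 hy⟩
  exact congr($((Scheme.ΓSpecIso (CommRingCat.of k)).inv_hom_id) x)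

end GrothLib.GalCd
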