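import Groth.Agent.Lib.GalCd.GaField

/-!
# The four term sequence of a sheaf along a cyclic extension

For a Galois extension `L/k` we construct the trace `j_* j^* F ⟶ F` by descending the sum over the group; when the
group is generated by `σ` the sequence `0 → F → j_* j^* F → j_* j^* F → F → 0`, with middle map `σ - 1`, is exact.
-/

set_option autoImplicit false
set_option backward.isDefEq.respectTransparency false
set_option backward.isDefEq.respectTransparency.types false
set_option linter.style.haveILetI false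

universe u

open CategoryTheory CategoryTheory.Limits CategoryTheory.Abelian AlgebraicGeometry Opposite
open GrothLib.EtSite GrothLib.EtColim GrothLib.EtTrace21

noncomputable section

namespace GrothLib.GalCd

/-- A sheaf morphism is an epimorphism if sections lift after surjective etale maps. -/
theorem epi_of_local {X : Scheme.{u}} {A B : EtCoh.Ab X} (φ : A ⟶ B)
    (h : ∀ (V : X.Etale) (y : EtCoh.sect B V), ∃ (W : X.Etale) (g : W ⟶ V),
      Function.Surjective g.left.base ∧ ∃ z, φ.hom.app (op W) z = B.obj.map g.op y) : Epi φ := by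
  haveI : Sheaf.IsLocallySurjective φ := by
    constructor
    intro V y
    obtain ⟨W, g, hg, z, hz⟩ := h V y
    refine (mem_topology_iff _).2 fun v => ?_
    obtain ⟨w, hw⟩ := hg v
    exact ⟨W, g, w, ⟨z, hz⟩, hw⟩
  exact (Sheaf.isLocallySurjective_iff_epi' _ _).1 inferInstance

theorem nsmul_app {X : Scheme.{u}} (A : EtCoh.Ab X) (n : ℕ) (V : (X.Etale)ᵒᵖ) (s : A.obj.obj V) :
    (n • 𝟙 A).hom.app V s = n • s :=
  map_nsmul (AddMonoidHom.mk' (fun k : A ⟶ A => k.hom.app V s) fun _ _ => rfl) n (𝟙 A)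

/-- The combinatorics of a cyclic group. -/
theorem exists_shift_sub_eq {G : Type*} [Group G] [Fintype G] {M : Type*} [AddCommGroup M] (σ : G)
    (hσ : ∀ x, x ∈ Subgroup.zpowers σ) (a : G → M) (ha : ∑ τ, a τ = 0) :
    ∃ b : G → M, ∀ τ, b (τ * σ) - b τ = a τ := by
  classical
  have hn : 0 < orderOf σ := orderOf_pos σ
  have hex : ∀ τ : G, ∃ i, i < orderOf σ ∧ σ ^ i = τ := fun τ => by
    obtain ⟨i, hi⟩ := ((isOfFinOrder_of_finite σ).mem_powers_iff_mem_zpowers).2 (hσ τ)
    exact ⟨i % orderOf σ, Nat.mod_lt _ hn, (pow_mod_orderOf σ i).trans hi⟩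
  choose ix hlt hix using hex
  have hix' : ∀ i, i < orderOf σ → ix (σ ^ i) = i := fun i hi =>
    pow_injOn_Iio_orderOf (hlt _) hi (hix _)
  let e : Finset.range (orderOf σ) ≃ G :=
    { toFun := fun i => σ ^ (i : ℕ)
      invFun := fun τ => ⟨ix τ, Finset.mem_range.2 (hlt τ)⟩
      left_inv := fun i => Subtype.ext (hix' _ (Finset.mem_range.1 i.2))
      right_inv := hix }
  have hsum : ∑ i ∈ Finset.range (orderOf σ), a (σ ^ i) = 0 := by
    rw [← Finset.sum_coe_sort]
    exact (Fintype.sum_equiv e _ a fun i => rfl).trans ha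
  refine ⟨fun τ => ∑ m ∈ Finset.range (ix τ), a (σ ^ m), fun τ => ?_⟩
  dsimp only
  have hmul : τ * σ = σ ^ (ix τ + 1) := by rw [pow_succ, hix]
  rcases Nat.lt_or_ge (ix τ + 1) (orderOf σ) with hl | hl
  · rw [hmul, hix' _ hl, Finset.sum_range_succ, add_sub_cancel_left, hix]
  · have he : ix τ + 1 = orderOf σ := le_antisymm (hlt τ) hl
    have h0 : ix (τ * σ) = 0 := by
      rw [hmul, he, pow_orderOf_eq_one, ← pow_zero σ, hix' 0 hn]
    rw [← he, Finset.sum_range_succ, hix] at hsum
    rw [h0, Finset.sum_range_zero, zero_sub, neg_eq_iff_add_eq_zero, hsum]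

variable {k L : Type u} [Field k] [Field L] [Algebra k L] [FiniteDimensional k L] [IsGalois k L]
variable [Etale (specMap k L)]

/-- The sections of `V ×_k L → V` attached to a map `V → L` and an automorphism. -/
def eSec {W : (Spec (CommRingCat.of k)).Etale} (s : W ⟶ VL k L) (σ : L ≃ₐ[k] L) : W ⟶ WV (L := L) W :=
  MorphismProperty.Over.homMk
    (pullback.lift (𝟙 W.left) (s ≫ galMap σ).left (by
      rw [Category.id_comp]
      exact (MorphismProperty.Over.w (s ≫ galMap σ)).symm)) (by
      change pullback.lift _ _ _ ≫ pullback.snd W.hom (specMap k L) ≫ specMap k L = _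
      rw [pullback.lift_snd_assoc]
      exact MorphismProperty.Over.w (s ≫ galMap σ))

theorem eSec_proj {W : (Spec (CommRingCat.of k)).Etale} (s : W ⟶ VL k L) (σ : L ≃ₐ[k] L) :
    eSec s σ ≫ proj (specMap k L) W = 𝟙 W :=
  MorphismProperty.Over.Hom.ext (pullback.lift_fst _ _ _)

theorem eSec_prL {W : (Spec (CommRingCat.of k)).Etale} (s : W ⟶ VL k L) (σ : L ≃ₐ[k] L) :
    eSec s σ ≫ prL W = s ≫ galMap σ :=
  MorphismProperty.Over.Hom.ext (pullback.lift_snd _ _ _)

theorem hom_ext_WV {Z W : (Spec (CommRingCat.of k)).Etale} {p q : Z ⟶ WV (L := L) W}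
    (h₁ : p ≫ proj (specMap k L) W = q ≫ proj (specMap k L) W) (h₂ : p ≫ prL W = q ≫ prL W) : p = q :=
  MorphismProperty.Over.Hom.ext (pullback.hom_ext
    (congrArg (fun r : Z ⟶ W => r.left) h₁) (congrArg (fun r : Z ⟶ VL k L => r.left) h₂))

theorem eSec_gmap {W : (Spec (CommRingCat.of k)).Etale} (s : W ⟶ VL k L) (σ τ : L ≃ₐ[k] L) :
    eSec s τ ≫ gmap W σ = eSec s (τ * σ) := by
  refine hom_ext_WV ?_ ?_
  · rw [Category.assoc, gmap_proj, eSec_proj, eSec_proj]
  · rw [Category.assoc, gmap_prL, ← Category.assoc, eSec_prL, eSec_prL, galMap_mul, Category.assoc]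

/-- Every geometric point of `W ×_k L` factors through one of the sections. -/
theorem exists_eSec_fib {W : (Spec (CommRingCat.of k)).Etale} (s : W ⟶ VL k L) {Ω : Type u} [Field Ω]
    [IsAlgClosed Ω] (ξ : Spec (CommRingCat.of Ω) ⟶ Spec (CommRingCat.of k))
    (t : (Scheme.pointSmallEtale ξ).fiber.obj (WV (L := L) W)) :
    ∃ (σ : L ≃ₐ[k] L) (t' : (Scheme.pointSmallEtale ξ).fiber.obj W),
      (Scheme.pointSmallEtale ξ).fiber.map (eSec s σ) t' = t := by
  let fib := (Scheme.pointSmallEtale ξ).fiber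
  let t' := fib.map (proj (specMap k L) W) t
  obtain ⟨σ, hσ⟩ := exists_galMap_fib ξ (fib.map s t') (fib.map (prL W) t)
  have hσ' : fib.map (s ≫ galMap σ) t' = fib.map (prL W) t :=
    (congr($(fib.map_comp s (galMap σ)) t')).trans hσ
  refine ⟨σ, t', Over.OverMorphism.ext (pullback.hom_ext ?_ ?_)⟩
  · change (t'.left ≫ (eSec s σ).left) ≫ _ = _
    rw [Category.assoc]
    change t'.left ≫ pullback.lift _ _ _ ≫ pullback.fst _ _ = _
    rw [pullback.lift_fst]; erw [Category.comp_id]
  · change (t'.left ≫ (eSec s σ).left) ≫ _ = _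
    rw [Category.assoc]
    change t'.left ≫ pullback.lift _ _ _ ≫ pullback.snd _ _ = _
    rw [pullback.lift_snd]
    exact congrArg (fun r : fib.obj (VL k L) => r.left) hσ'

/-- The automorphism group acts freely on geometric points of `L`. -/
theorem galMap_fib_free {Ω : Type u} [Field Ω]
    {σ τ : L ≃ₐ[k] L} (t : Spec (CommRingCat.of Ω) ⟶ (VL k L).left)
    (h : t ≫ (galMap σ).left = t ≫ (galMap τ).left) : σ = τ := by
  let φ : L →+* Ω := (Spec.preimage t).hom
  have e : t ≫ (galMap σ).left = Spec.map (CommRingCat.ofHom (φ.comp (σ : L →+* L))) := by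
    rw [CommRingCat.ofHom_comp, Spec.map_comp]
    exact congrArg (· ≫ _) (Spec.map_preimage t).symm
  have e' : t ≫ (galMap τ).left = Spec.map (CommRingCat.ofHom (φ.comp (τ : L →+* L))) := by
    rw [CommRingCat.ofHom_comp, Spec.map_comp]
    exact congrArg (· ≫ _) (Spec.map_preimage t).symm
  refine AlgEquiv.ext fun x => φ.injective ?_
  exact congr($(Spec.map_injective (e.symm.trans (h.trans e'))) x)

variable (F : EtCoh.Ab (Spec (CommRingCat.of k)))

theorem sect_ext {W : (Spec (CommRingCat.of k)).Etale} (s : W ⟶ VL k L)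
    (a b : EtCoh.sect F (WV (L := L) W))
    (h : ∀ σ, F.obj.map (eSec s σ).op a = F.obj.map (eSec s σ).op b) : a = b := by
  refine sub_eq_zero.1 (section_eq_zero_of_germsAC F _ _ fun Ω _ _ ξ t => ?_)
  obtain ⟨σ, t', rfl⟩ := exists_eSec_fib s ξ t
  rw [map_sub, sub_eq_zero, ← germ_map, ← germ_map, h σ]

theorem exists_sect {W : (Spec (CommRingCat.of k)).Etale} (s : W ⟶ VL k L)
    (a : (L ≃ₐ[k] L) → EtCoh.sect F W) :
    ∃ b : EtCoh.sect F (WV (L := L) W), ∀ σ, F.obj.map (eSec s σ).op b = a σ := by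
  refine GrothLib.EtShriek.exists_glue F (WV (L := L) W) (fun _ => W) (fun σ => eSec s σ) ?_ a ?_
  · intro x
    obtain ⟨t, ht⟩ := exists_fib (gac ((WV (L := L) W).hom.base x)) (U := WV (L := L) W) x (gac_default _).symm
    obtain ⟨σ, t', rfl⟩ := exists_eSec_fib s _ t
    exact ⟨σ, _, ht⟩
  · intro σ τ Z p q hpq
    refine sub_eq_zero.1 (section_eq_zero_of_germsAC F _ _ fun Ω _ _ ξ t => ?_)
    have hpq' : p = q := by
      have := congrArg (· ≫ proj (specMap k L) W) hpq
      simpa only [Category.assoc, eSec_proj, Category.comp_id] using this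
    subst hpq'
    have hστ : σ = τ := by
      refine galMap_fib_free (Ω := Ω) (t.left ≫ (p ≫ s).left) ?_
      have e := congrArg (fun r : Z ⟶ VL k L => t.left ≫ r.left) (congrArg (· ≫ prL W) hpq)
      simp only [Category.assoc, eSec_prL] at e
      change (t.left ≫ p.left ≫ s.left) ≫ _ = (t.left ≫ p.left ≫ s.left) ≫ _
      simp only [Category.assoc]
      exact e
    subst hστ
    rw [sub_self, map_zero]

/-- Invariant sections descend. -/
theorem existsUnique_descend (V : (Spec (CommRingCat.of k)).Etale) (a : EtCoh.sect F (WV (L := L) V))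
    (ha : ∀ σ, F.obj.map (gmap V σ).op a = a) :
    ∃! z : EtCoh.sect F V, F.obj.map (proj (specMap k L) V).op z = a := by
  obtain ⟨w, hw⟩ : ∃ w, F.obj.map (proj (specMap k L) V).op w = a := by
    refine (GrothLib.EtShriek.exists_glue F V (fun _ : PUnit.{1} => WV (L := L) V)
      (fun _ => proj (specMap k L) V) ?_ (fun _ => a) ?_).imp fun w hw => hw PUnit.unit
    · intro x
      obtain ⟨y, hy⟩ := surjective_proj (L := L) V x
      exact ⟨PUnit.unit, y, hy⟩
    · intro i j Z p q hpq
      refine sub_eq_zero.1 (section_eq_zero_of_germsAC _ _ _ fun Ω _ _ ξ t => ?_)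
      obtain ⟨σ, hσ⟩ := exists_gmap_fib V ξ ((Scheme.pointSmallEtale ξ).fiber.map p t)
        ((Scheme.pointSmallEtale ξ).fiber.map q t) (by
          change ((Scheme.pointSmallEtale ξ).fiber.map p ≫ (Scheme.pointSmallEtale ξ).fiber.map _) t =
            ((Scheme.pointSmallEtale ξ).fiber.map q ≫ (Scheme.pointSmallEtale ξ).fiber.map _) t
          rw [← Functor.map_comp, ← Functor.map_comp, hpq])
      rw [map_sub, sub_eq_zero, germ_map, germ_map, ← hσ, ← germ_map ξ _ (gmap V σ)]
      exact congrArg _ (ha σ).symm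
  exact ⟨w, hw, fun y hy => injective_map_of_surjective F _ (surjective_proj V) (hy.trans hw.symm)⟩

/-- The sum over the group. -/
def gsum (V : (Spec (CommRingCat.of k)).Etale) (a : EtCoh.sect F (WV (L := L) V)) : EtCoh.sect F (WV (L := L) V) :=
  ∑ σ : L ≃ₐ[k] L, F.obj.map (gmap V σ).op a

theorem map_gsum (V : (Spec (CommRingCat.of k)).Etale) (a : EtCoh.sect F (WV (L := L) V)) (τ : L ≃ₐ[k] L) :
    F.obj.map (gmap V τ).op (gsum F V a) = gsum F V a := by
  rw [gsum, map_sum]
  refine Fintype.sum_equiv (Equiv.mulLeft τ) _ _ fun σ => ?_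
  rw [Equiv.coe_mulLeft, gmap_mul, op_comp, Functor.map_comp_apply]

/-- The trace on sections. -/
def trSect (V : (Spec (CommRingCat.of k)).Etale) (a : EtCoh.sect F (WV (L := L) V)) : EtCoh.sect F V :=
  (existsUnique_descend F V _ (map_gsum F V a)).choose

theorem trSect_spec (V : (Spec (CommRingCat.of k)).Etale) (a : EtCoh.sect F (WV (L := L) V)) :
    F.obj.map (proj (specMap k L) V).op (trSect F V a) = gsum F V a :=
  (existsUnique_descend F V _ (map_gsum F V a)).choose_spec.1

theorem trSect_unique (V : (Spec (CommRingCat.of k)).Etale) (a : EtCoh.sect F (WV (L := L) V)) (z : EtCoh.sect F V)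
    (h : F.obj.map (proj (specMap k L) V).op z = gsum F V a) : trSect F V a = z :=
  ((existsUnique_descend F V _ (map_gsum F V a)).choose_spec.2 z h).symm

variable [EtShriek.JCont (specMap k L)]

/-- `j_* j^* F`. -/
abbrev PF : EtCoh.Ab (Spec (CommRingCat.of k)) :=
  (EtCoh.push (specMap k L)).obj ((EtShriek.restrAlong (specMap k L)).obj F)

/-- The trace. -/
def trG : PF (L := L) F ⟶ F :=
  ⟨{ app := fun V => AddCommGrpCat.ofHom (AddMonoidHom.mk'
        (fun a : EtCoh.sect F (WV (L := L) V.unop) => trSect F V.unop a)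
        (fun a b => trSect_unique F V.unop _ _ (by
          rw [map_add, trSect_spec, trSect_spec]
          simp only [gsum, map_add, Finset.sum_add_distrib])))
     naturality := fun V V' g => by
      refine AddCommGrpCat.hom_ext (AddMonoidHom.ext fun (a : EtCoh.sect F (WV (L := L) V.unop)) => ?_)
      refine trSect_unique F V'.unop _ (F.obj.map g (trSect F V.unop a)) ?_
      rw [← Functor.map_comp_apply]
      have e : g ≫ (proj (specMap k L) V'.unop).op = (proj (specMap k L) V.unop).op ≫
          ((EtShriek.compEtale (specMap k L)).map ((EtCoh.bc (specMap k L)).map g.unop)).op := by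
        rw [← op_comp, proj_naturality, op_comp]
        rfl
      rw [e, Functor.map_comp_apply, trSect_spec, gsum, map_sum, gsum]
      refine Finset.sum_congr rfl fun σ _ => ?_
      rw [← Functor.map_comp_apply, ← op_comp, ← gmap_natural, op_comp, Functor.map_comp_apply]
      rfl }⟩

/-- The translation by an automorphism. -/
def shift (σ : L ≃ₐ[k] L) : PF (L := L) F ⟶ PF (L := L) F :=
  ⟨{ app := fun V => F.obj.map (gmap V.unop σ).op
     naturality := fun V V' g => by
      change F.obj.map ((EtShriek.compEtale _).map ((EtCoh.bc _).map g.unop)).op ≫ _ =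
        _ ≫ F.obj.map ((EtShriek.compEtale _).map ((EtCoh.bc _).map g.unop)).op
      rw [← Functor.map_comp, ← Functor.map_comp, ← op_comp, ← op_comp, gmap_natural] }⟩

/-- The difference operator. -/
def diffMor (σ : L ≃ₐ[k] L) : PF (L := L) F ⟶ PF (L := L) F := shift F σ - 𝟙 _

theorem diffMor_app (σ : L ≃ₐ[k] L) (V : (Spec (CommRingCat.of k)).Etale) (b : EtCoh.sect F (WV (L := L) V)) :
    (diffMor F σ).hom.app (op V) b = F.obj.map (gmap V σ).op b - b := rfl

theorem unitPush_app (V : (Spec (CommRingCat.of k)).Etale) (w : EtCoh.sect F V) :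
    (unitPush (specMap k L) F).hom.app (op V) w = F.obj.map (proj (specMap k L) V).op w := rfl

theorem unit_diffMor (σ : L ≃ₐ[k] L) : unitPush (specMap k L) F ≫ diffMor F σ = 0 := by
  refine ObjectProperty.hom_ext _ (NatTrans.ext (funext fun V => AddCommGrpCat.hom_ext (AddMonoidHom.ext fun w => ?_)))
  change F.obj.map (gmap V.unop σ).op (F.obj.map (proj (specMap k L) V.unop).op w) -
    F.obj.map (proj (specMap k L) V.unop).op w = 0
  rw [← Functor.map_comp_apply, ← op_comp, gmap_proj, sub_self]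

theorem diffMor_trG (σ : L ≃ₐ[k] L) : diffMor F σ ≫ trG F = 0 := by
  refine ObjectProperty.hom_ext _ (NatTrans.ext (funext fun V => AddCommGrpCat.hom_ext
    (AddMonoidHom.ext fun (a : EtCoh.sect F (WV (L := L) V.unop)) => ?_)))
  refine trSect_unique F V.unop (F.obj.map (gmap V.unop σ).op a - a) 0 ?_
  rw [map_zero, gsum]
  simp only [map_sub, Finset.sum_sub_distrib]
  rw [eq_comm, sub_eq_zero]
  refine Fintype.sum_equiv (Equiv.mulRight σ) _ _ fun τ => ?_
  rw [Equiv.coe_mulRight, gmap_mul, op_comp, Functor.map_comp_apply]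

theorem unit_trG : unitPush (specMap k L) F ≫ trG F = Module.finrank k L • 𝟙 F := by
  refine ObjectProperty.hom_ext _ (NatTrans.ext (funext fun V => AddCommGrpCat.hom_ext (AddMonoidHom.ext fun w => ?_)))
  refine trSect_unique F V.unop (F.obj.map (proj (specMap k L) V.unop).op w) ((Module.finrank k L • 𝟙 F).hom.app V w) ?_
  rw [nsmul_app, map_nsmul, gsum]
  simp only [← Functor.map_comp_apply, ← op_comp, gmap_proj, Finset.sum_const, Finset.card_univ]
  rw [← IsGalois.card_aut_eq_finrank, Nat.card_eq_fintype_card]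

theorem trSect_eq_sum {W : (Spec (CommRingCat.of k)).Etale} (s : W ⟶ VL k L) (a : EtCoh.sect F (WV (L := L) W)) :
    trSect F W a = ∑ τ : L ≃ₐ[k] L, F.obj.map (eSec s τ).op a := by
  have h := congrArg (F.obj.map (eSec s 1).op) (trSect_spec F W a)
  rw [← Functor.map_comp_apply, ← op_comp, eSec_proj, op_id, CategoryTheory.Functor.map_id, gsum, map_sum] at h
  refine Eq.trans h (Finset.sum_congr rfl fun σ _ => ?_)
  rw [← Functor.map_comp_apply, ← op_comp, eSec_gmap, one_mul]

theorem epi_trG : Epi (trG (L := L) F) := by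
  classical
  refine epi_of_local _ fun V y => ⟨WV (L := L) V, proj (specMap k L) V, surjective_proj V, ?_⟩
  obtain ⟨b, hb⟩ := exists_sect F (prL V) fun τ => if τ = 1 then F.obj.map (proj (specMap k L) V).op y else 0
  refine ⟨b, ?_⟩
  change trSect F _ b = _
  rw [trSect_eq_sum F (prL V) b]
  simp only [hb, Finset.sum_ite_eq', Finset.mem_univ, if_true]

/-- Left half of the sequence. -/
def cycS₁ (σ : L ≃ₐ[k] L) : ShortComplex (EtCoh.Ab (Spec (CommRingCat.of k))) :=
  ShortComplex.mk (unitPush (specMap k L) F) (kernel.lift (trG F) (diffMor F σ) (diffMor_trG F σ)) (by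
    rw [← cancel_mono (kernel.ι (trG (L := L) F)), Category.assoc, kernel.lift_ι, unit_diffMor, zero_comp])

/-- Right half of the sequence. -/
def cycS₂ : ShortComplex (EtCoh.Ab (Spec (CommRingCat.of k))) :=
  ShortComplex.mk (kernel.ι (trG (L := L) F)) (trG F) (kernel.condition _)

theorem cycS₂_shortExact : (cycS₂ (L := L) F).ShortExact where
  exact := ShortComplex.exact_of_f_is_kernel _ (kernelIsKernel _)
  mono_f := inferInstanceAs (Mono (kernel.ι _))
  epi_g := epi_trG F

theorem cycS₁_shortExact (σ : L ≃ₐ[k] L) (hσ : ∀ x, x ∈ Subgroup.zpowers σ) : (cycS₁ F σ).ShortExact := by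
  have hg : ∀ (V : (Spec (CommRingCat.of k)).Etale) (b : EtCoh.sect F (WV (L := L) V)),
      (kernel.ι (trG (L := L) F)).hom.app (op V) ((cycS₁ F σ).g.hom.app (op V) b) =
        F.obj.map (gmap V σ).op b - b := fun V b =>
    congr($(congrArg (fun φ : PF (L := L) F ⟶ PF (L := L) F => φ.hom.app (op V))
      (kernel.lift_ι (trG F) (diffMor F σ) (diffMor_trG F σ))) b)
  haveI hmono : Mono (cycS₁ F σ).f := ⟨fun {Z} g h e => ObjectProperty.hom_ext _ (NatTrans.ext
    (funext fun V => AddCommGrpCat.hom_ext (AddMonoidHom.ext fun z =>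
      injective_map_of_surjective F _ (surjective_proj (L := L) V.unop)
        congr($(congrArg (fun φ : Z ⟶ PF (L := L) F => φ.hom.app V) e) z))))⟩
  refine { exact := ?_, mono_f := hmono, epi_g := ?_ }
  · rw [ShortComplex.exact_iff_epi_kernel_lift]
    refine epi_of_local _ fun V z => ⟨V, 𝟙 V, fun v => ⟨v, rfl⟩, ?_⟩
    let a : EtCoh.sect F (WV (L := L) V) := (kernel.ι (cycS₁ F σ).g).hom.app (op V) z
    have ha : F.obj.map (gmap V σ).op a = a := by
      refine sub_eq_zero.1 ((hg V a).symm.trans ?_)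
      have e : (cycS₁ F σ).g.hom.app (op V) a = 0 :=
        congr($(congrArg (fun φ : kernel (cycS₁ F σ).g ⟶ (cycS₁ F σ).X₃ => φ.hom.app (op V))
          (kernel.condition (cycS₁ F σ).g)) z)
      rw [e, map_zero]
    have ha' : ∀ (τ : L ≃ₐ[k] L), F.obj.map (gmap V τ).op a = a := by
      intro τ
      obtain ⟨i, rfl⟩ := ((isOfFinOrder_of_finite σ).mem_powers_iff_mem_zpowers).2 (hσ τ)
      induction i with
      | zero =>
        change F.obj.map (gmap V (σ ^ 0)).op a = a
        have h1 : gmap V (1 : L ≃ₐ[k] L) = 𝟙 (WV (L := L) V) :=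
          hom_ext_WV (by rw [gmap_proj, Category.id_comp]) (by rw [gmap_prL, galMap_one, Category.comp_id, Category.id_comp])
        rw [pow_zero, h1, op_id, CategoryTheory.Functor.map_id]
        rfl
      | succ i ih =>
        change F.obj.map (gmap V (σ ^ (i + 1))).op a = a
        rw [pow_succ', gmap_mul, op_comp, Functor.map_comp_apply]
        change F.obj.map _ (F.obj.map (gmap V (σ ^ i)).op a) = a
        rw [show F.obj.map (gmap V (σ ^ i)).op a = a from ih, ha]
    obtain ⟨w, hw, -⟩ := existsUnique_descend F V a ha'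
    refine ⟨w, injective_app (kernel.ι (cycS₁ F σ).g) V ?_⟩
    rw [op_id, CategoryTheory.Functor.map_id]
    change _ = a
    rw [← hw]
    exact congr($(congrArg (fun φ : F ⟶ PF (L := L) F => φ.hom.app (op V))
      (kernel.lift_ι (cycS₁ F σ).g (cycS₁ F σ).f (cycS₁ F σ).zero)) w)
  · refine epi_of_local _ fun V z => ⟨WV (L := L) V, proj (specMap k L) V, surjective_proj V, ?_⟩
    let W := WV (L := L) V
    let z' : EtCoh.sect (kernel (trG (L := L) F)) W := (kernel (trG (L := L) F)).obj.map (proj (specMap k L) V).op z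
    let a : EtCoh.sect F (WV (L := L) W) := (kernel.ι (trG (L := L) F)).hom.app (op W) z'
    have ha : trSect F W a = 0 :=
      congr($(congrArg (fun φ : kernel (trG (L := L) F) ⟶ F => φ.hom.app (op W))
          (kernel.condition (trG (L := L) F))) z')
    rw [trSect_eq_sum F (prL V)] at ha
    obtain ⟨b, hb⟩ := exists_shift_sub_eq σ hσ _ ha
    obtain ⟨c, hc⟩ := exists_sect F (prL V) b
    refine ⟨c, injective_app (kernel.ι (trG (L := L) F)) W ?_⟩
    refine (hg W c).trans (sect_ext F (prL V) _ _ fun τ => ?_)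
    rw [map_sub, ← Functor.map_comp_apply, ← op_comp, eSec_gmap, hc, hc, hb]
    rfl

end GrothLib.GalCd
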