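import Groth.Agent.Lib.GalCd.FacCoh

/-!
# The sheaf of divisors as a coproduct of skyscraper sheaves
-/

set_option autoImplicit false
set_option backward.isDefEq.respectTransparency false
set_option backward.isDefEq.respectTransparency.types false
set_option linter.style.haveILetI false

universe u

open CategoryTheory CategoryTheory.Limits AlgebraicGeometry Opposite
open GrothLib.EtSite GrothLib.EtTrace21 GrothLib.EtColim GrothLib.EtLimit GrothLib.SheafCoh

noncomputable section

namespace GrothLib.GalCd

variable {X : Scheme.{u}} [AlgebraicGeometry.IsNoetherian X]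

/-- The part supported over `F` has no value at mid points outside `F`. -/
theorem midPart_unit_eq_zero (F : Finset (MidPts X)) (y : MidPts X) (hy : y ∉ F) :
    kernel.ι (EtDual.unitApp (midCompl F).ι (DivSheaf X)) ≫
      (EtCoh.pullPushAdj (X.fromSpecResidueField y.1)).unit.app (DivSheaf X) = 0 := by
  let i := X.fromSpecResidueField y.1
  have hmem : y.1 ∈ midCompl F := mem_midCompl.2 fun z hz h => hy ((midPts_eq_of_specializes h) ▸ hz)
  refine (GrothLib.EtSupp19.pull_map_eq_zero_iff i _).1 ?_
  refine GrothLib.ExtZero.zero_of_stalks _ fun Ω _ _ v => ?_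
  obtain ⟨w, hw⟩ := GrothLib.ExtZero.exists_lift_of_mem (midCompl F).ι (v ≫ i) (by
    rw [Scheme.Opens.range_ι, Scheme.Hom.comp_apply, Scheme.fromSpecResidueField_apply]
    exact hmem)
  have hk : (EtCoh.pull (midCompl F).ι).map (kernel.ι (EtDual.unitApp (midCompl F).ι (DivSheaf X))) = 0 :=
    (GrothLib.EtSupp19.pull_map_eq_zero_iff (midCompl F).ι _).2 (kernel.condition _)
  have h1 : (EtCoh.stalk (w ≫ (midCompl F).ι)).map
      (kernel.ι (EtDual.unitApp (midCompl F).ι (DivSheaf X))) = 0 := by
    rw [← cancel_epi ((GrothLib.EtSite.pullStalkIso w (midCompl F).ι).hom.app _), comp_zero]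
    refine ((GrothLib.EtSite.pullStalkIso w (midCompl F).ι).hom.naturality
      (kernel.ι (EtDual.unitApp (midCompl F).ι (DivSheaf X)))).symm.trans ?_
    rw [Functor.comp_map, hk, Functor.map_zero, zero_comp]
  rw [hw] at h1
  rw [← cancel_mono ((GrothLib.EtSite.pullStalkIso v i).hom.app _), zero_comp]
  exact ((GrothLib.EtSite.pullStalkIso v i).hom.naturality
    (kernel.ι (EtDual.unitApp (midCompl F).ι (DivSheaf X)))).trans ((congrArg (_ ≫ ·) h1).trans comp_zero)

/-- Inclusion of a smaller part is compatible with the values, and adds zero values elsewhere. -/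
theorem midIncl_midPsi_π {F F' : Finset (MidPts X)} (h : F ⊆ F') (y : F') :
    (kernel.lift _ (kernel.ι _) (midPart_comp h) : midPart X F ⟶ midPart X F') ≫ midPsi X F' ≫
        biproduct.π (midTarget X F') y =
      kernel.ι (EtDual.unitApp (midCompl F).ι (DivSheaf X)) ≫
        (EtCoh.pullPushAdj (X.fromSpecResidueField y.1.1)).unit.app (DivSheaf X) := by
  rw [midPsi, biproduct.lift_π, kernel.lift_ι_assoc]

theorem midPsi_π (F : Finset (MidPts X)) (y : F) :
    midPsi X F ≫ biproduct.π (midTarget X F) y =
      kernel.ι (EtDual.unitApp (midCompl F).ι (DivSheaf X)) ≫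
        (EtCoh.pullPushAdj (X.fromSpecResidueField y.1.1)).unit.app (DivSheaf X) :=
  biproduct.lift_π _ _

variable [IsReduced X]

/-- The summand of a part at one of its points. -/
def midIn (hf : EtFactorial X) (F : Finset (MidPts X)) (y : F) : midTarget X F y ⟶ DivSheaf X :=
  haveI := isIso_midPsi hf F
  biproduct.ι (midTarget X F) y ≫ inv (midPsi X F) ≫ kernel.ι (EtDual.unitApp (midCompl F).ι (DivSheaf X))

/-- The summand does not depend on the finite set. -/
theorem midIn_eq (hf : EtFactorial X) (F : Finset (MidPts X)) (y : F) :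
    midIn hf F y = midIn hf ({y.1} : Finset (MidPts X)) ⟨y.1, Finset.mem_singleton_self _⟩ := by
  classical
  let F₁ : Finset (MidPts X) := {y.1}
  let y₁ : F₁ := ⟨y.1, Finset.mem_singleton_self _⟩
  haveI := isIso_midPsi hf F
  haveI := isIso_midPsi hf F₁
  have hsub : F₁ ⊆ F := Finset.singleton_subset_iff.2 y.2
  let incl : midPart X F₁ ⟶ midPart X F := kernel.lift _ (kernel.ι _) (midPart_comp hsub)
  have key : biproduct.ι (midTarget X F₁) y₁ ≫ inv (midPsi X F₁) ≫ incl =
      biproduct.ι (midTarget X F) y ≫ inv (midPsi X F) := by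
    rw [← cancel_mono (midPsi X F)]
    simp only [Category.assoc, IsIso.inv_hom_id, Category.comp_id]
    refine biproduct.hom_ext _ _ fun z => ?_
    simp only [Category.assoc]
    rw [midIncl_midPsi_π hsub z]
    by_cases hz : z = y
    · subst hz
      rw [biproduct.ι_π_self, ← midPsi_π F₁ y₁, IsIso.inv_hom_id_assoc, biproduct.ι_π_self]
    · rw [biproduct.ι_π_ne _ (Ne.symm hz), midPart_unit_eq_zero F₁ z.1
        (fun h => hz (Subtype.ext (Finset.mem_singleton.1 h))), comp_zero, comp_zero]
  change _ = biproduct.ι (midTarget X F₁) y₁ ≫ inv (midPsi X F₁) ≫ kernel.ι _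
  rw [midIn, ← Category.assoc, ← key]
  simp only [Category.assoc, incl, kernel.lift_ι]

/-- The sheaf of divisors is the coproduct over the mid points of its values there. -/
theorem exists_isColimit_div (hf : EtFactorial X) :
    ∃ c : Cofan fun y : MidPts X =>
      (EtCoh.push (X.fromSpecResidueField y.1)).obj (EtCoh.const (Spec (X.residueField y.1)) ℤ),
      c.pt = DivSheaf X ∧ Nonempty (IsColimit c) := by
  classical
  haveI := isIso_midDesc hf
  let θ := colimit.desc (midDiag X) (midCocone X)
  let e := fun y : MidPts X => (exists_pull_div_iso hf y).some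
  let P (y : MidPts X) : EtCoh.Ab X :=
    (EtCoh.push (X.fromSpecResidueField y.1)).obj ((EtCoh.pull (X.fromSpecResidueField y.1)).obj (DivSheaf X))
  let a (y : MidPts X) : P y ⟶ DivSheaf X :=
    midIn hf ({y} : Finset (MidPts X)) ⟨y, Finset.mem_singleton_self _⟩
  let E (y : MidPts X) := (EtCoh.push (X.fromSpecResidueField y.1)).mapIso (e y)
  refine ⟨Cofan.mk (DivSheaf X) fun y => (E y).hom ≫ a y, rfl, ⟨?_⟩⟩
  -- the evident cocone on the finite parts
  let δ (s : Cofan fun y : MidPts X =>
      (EtCoh.push (X.fromSpecResidueField y.1)).obj (EtCoh.const (Spec (X.residueField y.1)) ℤ))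
      (F : Finset (MidPts X)) : ⨁ midTarget X F ⟶ s.pt :=
    biproduct.desc fun y : F => (E y.1).inv ≫ s.inj y.1
  let cs (s : Cofan fun y : MidPts X =>
      (EtCoh.push (X.fromSpecResidueField y.1)).obj (EtCoh.const (Spec (X.residueField y.1)) ℤ)) :
      Cocone (midDiag X) :=
    { pt := s.pt
      ι :=
        { app := fun F => midPsi X F.down ≫ δ s F.down
          naturality := fun F F' h => by
            have hsub : F.down ⊆ F'.down := ULift.down_le.mpr (leOfHom h)
            change kernel.lift _ (kernel.ι _) (midPart_comp hsub) ≫ midPsi X F'.down ≫ δ s F'.down = _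
            have hδ : ∀ G : Finset (MidPts X),
                δ s G = ∑ z : G, biproduct.π (midTarget X G) z ≫ (E z.1).inv ≫ s.inj z.1 := fun G => by
              refine biproduct.hom_ext' _ _ fun z => ?_
              change biproduct.ι (midTarget X G) z ≫ biproduct.desc _ = _
              rw [biproduct.ι_desc, Preadditive.comp_sum, Finset.sum_eq_single z]
              · simp
              · intro w _ hw
                rw [biproduct.ι_π_ne_assoc _ (Ne.symm hw), zero_comp]
              · simp
            rw [hδ, hδ]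
            simp only [Preadditive.comp_sum, Functor.const_obj_map, Category.comp_id]
            let g : MidPts X → (midPart X F.down ⟶ s.pt) := fun z =>
              kernel.ι (EtDual.unitApp (midCompl F.down).ι (DivSheaf X)) ≫
                (EtCoh.pullPushAdj (X.fromSpecResidueField z.1)).unit.app (DivSheaf X) ≫ (E z).inv ≫ s.inj z
            rw [Finset.sum_congr rfl (g := fun z : F'.down => g z.1) fun z _ => by
                rw [← Category.assoc, ← Category.assoc]
                exact (congrArg (· ≫ _) ((Category.assoc _ _ _).trans (midIncl_midPsi_π hsub z))).trans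
                  (Category.assoc _ _ _),
              Finset.sum_congr rfl (s₂ := (Finset.univ : Finset F.down)) (g := fun z : F.down => g z.1) fun z _ => by
                rw [← Category.assoc]
                exact (congrArg (· ≫ _) (midPsi_π F.down z)).trans (Category.assoc _ _ _),
              Finset.sum_coe_sort F'.down g, Finset.sum_coe_sort F.down g]
            refine (Finset.sum_subset hsub fun z _ hz => ?_).symm
            change _ ≫ _ ≫ _ = 0
            rw [← Category.assoc, midPart_unit_eq_zero F.down z hz, zero_comp] } }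
  refine mkCofanColimit _ (fun s => inv θ ≫ colimit.desc (midDiag X) (cs s)) (fun s y => ?_) (fun s m hm => ?_)
  · let F₁ : Finset (MidPts X) := {y}
    let y₁ : F₁ := ⟨y, Finset.mem_singleton_self _⟩
    haveI := isIso_midPsi hf F₁
    have hθ : kernel.ι (EtDual.unitApp (midCompl F₁).ι (DivSheaf X)) = colimit.ι (midDiag X) ⟨F₁⟩ ≫ θ :=
      (colimit.ι_desc (midCocone X) ⟨F₁⟩).symm
    change ((E y).hom ≫ a y) ≫ _ = _
    change ((E y).hom ≫ biproduct.ι (midTarget X F₁) y₁ ≫ inv (midPsi X F₁) ≫ kernel.ι _) ≫ _ = _
    rw [hθ]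
    simp only [Category.assoc, IsIso.hom_inv_id_assoc, colimit.ι_desc]
    change (E y).hom ≫ biproduct.ι (midTarget X F₁) y₁ ≫ inv (midPsi X F₁) ≫ midPsi X F₁ ≫ δ s F₁ = _
    rw [IsIso.inv_hom_id_assoc, biproduct.ι_desc]
    exact Iso.hom_inv_id_assoc _ _
  · rw [← cancel_epi θ, IsIso.hom_inv_id_assoc]
    refine colimit.hom_ext fun F => ?_
    rw [colimit.ι_desc_assoc, colimit.ι_desc]
    haveI := isIso_midPsi hf F.down
    change kernel.ι _ ≫ m = midPsi X F.down ≫ δ s F.down
    rw [← cancel_epi (inv (midPsi X F.down)), IsIso.inv_hom_id_assoc]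
    refine biproduct.hom_ext' _ _ fun z => ?_
    rw [biproduct.ι_desc, ← hm z.1]
    change _ = (E z.1).inv ≫ ((E z.1).hom ≫ a z.1) ≫ m
    rw [Category.assoc, Iso.inv_hom_id_assoc]
    refine Eq.trans ?_ (congrArg (· ≫ m) (midIn_eq hf F.down z))
    rw [midIn]
    simp only [Category.assoc]

end GrothLib.GalCd
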