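import Groth.Agent.Lib.GalCd.BrCurve
import Groth.Agent.Lib.EtTrace21.PointPush

/-!
# Torsion in the cohomology of the multiplicative group of a reduced curve
-/

set_option autoImplicit false
set_option backward.isDefEq.respectTransparency false
set_option backward.isDefEq.respectTransparency.types false
set_option linter.style.haveILetI false

universe u

open CategoryTheory CategoryTheory.Limits CategoryTheory.Abelian AlgebraicGeometry Opposite
open GrothLib.EtSite GrothLib.EtTrace21 GrothLib.EtColim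

noncomputable section

namespace GrothLib.GalCd

variable {X : Scheme.{u}} [AlgebraicGeometry.IsNoetherian X]

theorem finOrder_comp {A B : EtCoh.Ab X} (f : A ⟶ B) {n : ℕ} {x : EtCoh.H X A n} (h : IsOfFinAddOrder x) :
    IsOfFinAddOrder (Ext.comp x (Ext.mk₀ f) (add_zero n)) := by
  obtain ⟨m, hm, hm0⟩ := isOfFinAddOrder_iff_nsmul_eq_zero.1 h
  refine isOfFinAddOrder_iff_nsmul_eq_zero.2 ⟨m, hm, ?_⟩
  have e := map_nsmul (AddMonoidHom.mk' (fun z : EtCoh.H X A n => Ext.comp z (Ext.mk₀ f) (add_zero n))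
    fun _ _ => Ext.add_comp _ _ _ _) m x
  simp only [AddMonoidHom.mk'_apply, hm0, Ext.zero_comp] at e
  exact e.symm

theorem finOrder_sum {ι A : Type*} [AddCommGroup A] (t : Finset ι) (f : ι → A) (h : ∀ i ∈ t, IsOfFinAddOrder (f i)) :
    IsOfFinAddOrder (∑ i ∈ t, f i) := by
  classical
  induction t using Finset.induction with
  | empty => simpa using IsOfFinAddOrder.zero
  | insert a t ha ih =>
    rw [Finset.sum_insert ha]
    exact AddCommute.isOfFinAddOrder_add (AddCommute.all _ _) (h a (Finset.mem_insert_self a t))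
      (ih fun i hi => h i (Finset.mem_insert_of_mem hi))

/-- A class is torsion when it is so after a map into a finite sum of direct images from points. -/
theorem finOrder_comp_of_components {ι : Type u} [Fintype ι] (pt : ι → X)
    (G : ∀ i, EtCoh.Ab (Spec (X.residueField (pt i)))) {A : EtCoh.Ab X}
    (φ : A ⟶ ⨁ fun i => (EtCoh.push (X.fromSpecResidueField (pt i))).obj (G i)) (q : ℕ)
    (a : EtCoh.H X A (q + 1)) : IsOfFinAddOrder (Ext.comp a (Ext.mk₀ φ) (add_zero (q + 1))) := by
  classical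
  let P := fun i => (EtCoh.push (X.fromSpecResidueField (pt i))).obj (G i)
  have e : φ = ∑ i, (φ ≫ biproduct.π P i) ≫ biproduct.ι P i := by
    simp only [Category.assoc, ← Preadditive.comp_sum]
    rw [IsBilimit.total (biproduct.isBilimit P), Category.comp_id]
  rw [e, Ext.mk₀_sum, Ext.comp_sum]
  refine finOrder_sum _ _ fun i _ => ?_
  rw [← Ext.mk₀_comp_mk₀, ← Ext.comp_assoc_of_third_deg_zero]
  refine finOrder_comp _ ?_
  exact GrothLib.EtTrace21.isOfFinAddOrder_H_push (X.fromSpecResidueField (pt i)) q (G i) _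

/-- Cohomology of positive degree of a part with finite support is torsion. -/
theorem finOrder_H_suppPart (Q : EtCoh.Ab X) (F : Finset (ClosedPts X)) (q : ℕ)
    (x : EtCoh.H X (suppPart Q F) (q + 1)) : IsOfFinAddOrder x := by
  classical
  let S := suppPart Q F
  let G : F → EtCoh.Ab X := fun y =>
    (EtCoh.push (X.fromSpecResidueField y.1.1)).obj ((EtCoh.pull (X.fromSpecResidueField y.1.1)).obj S)
  let ψ : S ⟶ ⨁ G := biproduct.lift fun y => (EtCoh.pullPushAdj (X.fromSpecResidueField y.1.1)).unit.app S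
  haveI : IsIso ψ := by
    refine GrothLib.EtSite.isIso_of_stalks _ fun Ω _ _ ξ => ?_
    rw [← ConcreteCategory.isIso_iff_bijective]
    let x₀ := ξ.base (default : Spec (CommRingCat.of Ω))
    by_cases hx₀ : ∃ y : F, y.1.1 = x₀
    · obtain ⟨y, hy⟩ := hx₀
      have hzero : ∀ i : F, i ≠ y → IsZero ((EtCoh.stalk ξ).obj (G i)) := fun i hi =>
        isZero_stalk_push_of_not_specializes i.1.1 ξ (fun hs => hi (Subtype.ext (Subtype.ext
          ((i.1.2.closure_eq.le (specializes_iff_mem_closure.1 hs)).symm.trans hy.symm)))) _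
      haveI : IsIso ((EtCoh.stalk ξ).map (biproduct.π G y)) := by
        refine ⟨(EtCoh.stalk ξ).map (biproduct.ι G y), ?_, ?_⟩
        · rw [← Functor.map_comp, ← CategoryTheory.Functor.map_id, ← IsBilimit.total (biproduct.isBilimit G),
            Functor.map_sum, Finset.sum_eq_single y]
          · intro i _ hi
            change (EtCoh.stalk ξ).map (biproduct.π G i ≫ biproduct.ι G i) = 0
            rw [Functor.map_comp, (hzero i hi).eq_of_tgt ((EtCoh.stalk ξ).map (biproduct.π G i)) 0, zero_comp]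
          · exact fun h => absurd (Finset.mem_univ _) h
        · rw [← Functor.map_comp, biproduct.ι_π_self, CategoryTheory.Functor.map_id]
      have e : (EtCoh.stalk ξ).map ψ ≫ (EtCoh.stalk ξ).map (biproduct.π G y) =
          (EtCoh.stalk ξ).map ((EtCoh.pullPushAdj (X.fromSpecResidueField y.1.1)).unit.app S) := by
        rw [← Functor.map_comp, biproduct.lift_π]
      haveI : IsClosedImmersion (X.fromSpecResidueField y.1.1) :=
        isClosed_singleton_iff_isClosedImmersion.mp y.1.2
      haveI : IsIso ((EtCoh.stalk ξ).map ((EtCoh.pullPushAdj (X.fromSpecResidueField y.1.1)).unit.app S)) := by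
        let i := X.fromSpecResidueField y.1.1
        obtain ⟨ζ, hζ⟩ := GrothLib.EtSite.exists_point_lift i ξ
          (show ↥(Spec (X.residueField y.1.1)) from (default : PrimeSpectrum (X.residueField y.1.1)))
          ((Scheme.fromSpecResidueField_apply _ _).trans hy)
        rw [← hζ]
        haveI := GrothLib.EtSite.isIso_counit i ((EtCoh.pull i).obj S)
        haveI : IsIso (𝟙 ((EtCoh.pull i).obj S)) := IsIso.id _
        haveI : IsIso ((EtCoh.pull i).map ((EtCoh.pullPushAdj i).unit.app S)) :=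
          IsIso.of_isIso_fac_right ((EtCoh.pullPushAdj i).left_triangle_components S)
        exact (NatIso.isIso_map_iff (GrothLib.EtSite.pullStalkIso ζ i) _).1
          (inferInstanceAs (IsIso ((EtCoh.stalk ζ).map ((EtCoh.pull i).map ((EtCoh.pullPushAdj i).unit.app S)))))
      exact IsIso.of_isIso_fac_right e
    · have hout : x₀ ∈ ptsCompl F := mem_ptsCompl.2 fun y hy e => hx₀ ⟨⟨y, hy⟩, e⟩
      have hS : IsZero ((EtCoh.stalk ξ).obj S) := by
        haveI : Mono ((EtCoh.stalk ξ).map (kernel.ι (EtDual.unitApp (ptsCompl F).ι Q))) := inferInstance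
        refine IsZero.of_mono_eq_zero ((EtCoh.stalk ξ).map (kernel.ι (EtDual.unitApp (ptsCompl F).ι Q))) ?_
        exact GrothLib.EtSupp19.stalk_map_eq_zero (ptsCompl F).ι _
          ((GrothLib.EtSupp19.pull_map_eq_zero_iff _ _).2 (kernel.condition _)) ξ (by
            rw [Scheme.Opens.range_ι]; exact hout)
      have hG : IsZero ((EtCoh.stalk ξ).obj (⨁ G)) := by
        rw [IsZero.iff_id_eq_zero, ← CategoryTheory.Functor.map_id, ← IsBilimit.total (biproduct.isBilimit G),
          Functor.map_sum]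
        refine Finset.sum_eq_zero fun i _ => ?_
        change (EtCoh.stalk ξ).map (biproduct.π G i ≫ biproduct.ι G i) = 0
        rw [Functor.map_comp, (isZero_stalk_push_of_not_specializes i.1.1 ξ (fun hs => hx₀ ⟨i,
          (i.1.2.closure_eq.le (specializes_iff_mem_closure.1 hs)).symm⟩) _).eq_of_tgt
            ((EtCoh.stalk ξ).map (biproduct.π G i)) 0, zero_comp]
      exact isIso_of_source_target_iso_zero _ hS.isoZero hG.isoZero
  have h := finOrder_comp (inv ψ)
    (finOrder_comp_of_components (fun y : F => y.1.1) (fun y => (EtCoh.pull _).obj S) ψ q x)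
  rwa [Ext.comp_assoc_of_third_deg_zero, Ext.mk₀_comp_mk₀, IsIso.hom_inv_id, Ext.comp_mk₀_id] at h

/-- Cohomology of positive degree of a sheaf concentrated at closed points is torsion. -/
theorem finOrder_H_of_supp_closedPts (Q : EtCoh.Ab X)
    (hQ : ∀ (Ω : Type u) [Field Ω] [IsSepClosed Ω] (ξ : Spec (CommRingCat.of Ω) ⟶ X),
      ¬ IsClosed ({ξ.base (default : Spec (CommRingCat.of Ω))} : Set X) → IsZero ((EtCoh.stalk ξ).obj Q))
    (q : ℕ) (x : EtCoh.H X Q (q + 1)) : IsOfFinAddOrder x := by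
  classical
  haveI := isIso_suppDesc hQ
  let c := colimit.desc (suppDiag Q) (suppCocone Q)
  obtain ⟨i, y, hy⟩ := (gen_and_kill (suppDiag Q) (q + 1)).1 (Ext.comp x (Ext.mk₀ (inv c)) (add_zero (q + 1)))
  have h := finOrder_comp c (finOrder_comp (colimit.ι (suppDiag Q) i) (finOrder_H_suppPart Q i.down q y))
  rw [hy, Ext.comp_assoc_of_third_deg_zero, Ext.mk₀_comp_mk₀, IsIso.inv_hom_id] at h
  exact (Ext.comp_mk₀_id x) ▸ h

/-- `H^q(X, 𝔾ₘ)` of a reduced noetherian curve is torsion for `q ≥ 2`. -/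
theorem finOrder_H_Gm_of_curve [IsReduced X] (hdim : topologicalKrullDim X ≤ 1) (q : ℕ)
    (a : EtCoh.H X (EtCoh.Gm X) (q + 2)) : IsOfFinAddOrder a := by
  classical
  haveI : Fintype (MaxPts X) := Fintype.ofFinite _
  let G : MaxPts X → EtCoh.Ab X := fun x =>
    (EtCoh.push (X.fromSpecResidueField x.1)).obj (EtCoh.Gm (Spec (X.residueField x.1)))
  let φ : EtCoh.Gm X ⟶ ⨁ G := biproduct.lift fun x => EtLim.GmPush (X.fromSpecResidueField x.1)
  haveI : Mono φ := by
    refine ⟨fun {T} g h e => ObjectProperty.hom_ext _ (NatTrans.ext (funext fun V =>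
      AddCommGrpCat.hom_ext (AddMonoidHom.ext fun z => ?_)))⟩
    let u₁ := g.hom.app V z
    let u₂ := h.hom.app V z
    refine sub_eq_zero.1 (ULift.ext _ _ (Additive.toMul.injective (Units.ext ?_)))
    refine eq_one_of_forall_max V.unop _ fun x hx => ?_
    have e2 : (EtLim.GmPush (X.fromSpecResidueField x)).hom.app V (u₁ - u₂) = 0 := by
      rw [map_sub, sub_eq_zero]
      have := congrArg (fun r => r ≫ biproduct.π G ⟨x, hx⟩) e
      simp only [φ, Category.assoc, biproduct.lift_π] at this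
      exact congr($(congrArg (fun r : T ⟶ G ⟨x, hx⟩ => r.hom.app V) this) z)
    exact congrArg (fun r : ULift.{u + 1} (Additive
      (Γ(((EtCoh.bc (X.fromSpecResidueField x)).obj V.unop).left, ⊤) : Type u)ˣ) =>
        ((Additive.toMul r.down : _ˣ) : Γ(((EtCoh.bc (X.fromSpecResidueField x)).obj V.unop).left, ⊤))) e2
  have htot : ∑ j, biproduct.π G j ≫ biproduct.ι G j = 𝟙 (⨁ G) := IsBilimit.total (biproduct.isBilimit G)
  let T := ShortComplex.mk φ (cokernel.π φ) (cokernel.condition φ)
  have hT : T.ShortExact := { exact := T.exact_of_g_is_cokernel (cokernelIsCokernel φ) }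
  have hQ : ∀ (Ω : Type u) [Field Ω] [IsSepClosed Ω] (ξ : Spec (CommRingCat.of Ω) ⟶ X),
      ¬ IsClosed ({ξ.base (default : Spec (CommRingCat.of Ω))} : Set X) → IsZero ((EtCoh.stalk ξ).obj T.X₃) := by
    intro Ω _ _ ξ hnc
    let x₀ := ξ.base (default : Spec (CommRingCat.of Ω))
    let i₀ : MaxPts X := ⟨x₀, fun y hy => maximal_of_not_isClosed hdim x₀ hnc y hy⟩
    have hzero : ∀ i : MaxPts X, i ≠ i₀ → IsZero ((EtCoh.stalk ξ).obj (G i)) := fun i hi =>
      isZero_stalk_push_of_not_specializes i.1 ξ (fun hs => hi (Subtype.ext (i₀.2 _ hs))) _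
    have hid : ∀ y : (EtCoh.stalk ξ).obj (⨁ G),
        y = (EtCoh.stalk ξ).map (biproduct.ι G i₀) ((EtCoh.stalk ξ).map (biproduct.π G i₀) y) := by
      intro y
      have e : (EtCoh.stalk ξ).map (𝟙 (⨁ G)) = (EtCoh.stalk ξ).map (biproduct.π G i₀ ≫ biproduct.ι G i₀) := by
        rw [← htot, Functor.map_sum, Finset.sum_eq_single i₀]
        · intro i _ hi
          rw [Functor.map_comp, (hzero i hi).eq_of_tgt ((EtCoh.stalk ξ).map (biproduct.π G i)) 0, zero_comp]
        · exact fun h => absurd (Finset.mem_univ _) h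
      rw [CategoryTheory.Functor.map_id, Functor.map_comp] at e
      exact congr($e y)
    haveI : Epi ((EtCoh.stalk ξ).map φ) := by
      refine (AddCommGrpCat.epi_iff_surjective _).2 fun y => ?_
      obtain ⟨c, hc⟩ := surjective_stalk_GmPush x₀ i₀.2 ξ rfl ((EtCoh.stalk ξ).map (biproduct.π G i₀) y)
      refine ⟨c, ?_⟩
      rw [hid ((EtCoh.stalk ξ).map φ c), hid y]
      congr 1
      rw [← hc, ← ConcreteCategory.comp_apply, ← Functor.map_comp, biproduct.lift_π]
    refine IsZero.of_epi_eq_zero ((EtCoh.stalk ξ).map T.g) ?_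
    rw [← cancel_epi ((EtCoh.stalk ξ).map φ), ← Functor.map_comp, T.zero, Functor.map_zero, comp_zero]
  obtain ⟨m, hm, hm0⟩ := isOfFinAddOrder_iff_nsmul_eq_zero.1
    (finOrder_comp_of_components (fun i : MaxPts X => i.1) (fun i => EtCoh.Gm _) φ (q + 1) a)
  let L := AddMonoidHom.mk' (fun z : EtCoh.H X (EtCoh.Gm X) (q + 2) => Ext.comp z (Ext.mk₀ φ) (add_zero (q + 2)))
    fun _ _ => Ext.add_comp _ _ _ _
  obtain ⟨w, hw⟩ := Ext.covariant_sequence_exact₁ _ hT (m • a) ((map_nsmul L m a).trans hm0) rfl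
  obtain ⟨d, hd, hd0⟩ := isOfFinAddOrder_iff_nsmul_eq_zero.1 (finOrder_H_of_supp_closedPts T.X₃ hQ q w)
  refine isOfFinAddOrder_iff_nsmul_eq_zero.2 ⟨d * m, Nat.mul_pos hd hm, ?_⟩
  rw [mul_nsmul', ← hw]
  let D := AddMonoidHom.mk' (fun z : EtCoh.H X T.X₃ (q + 1) => Ext.comp z hT.extClass (rfl : q + 1 + 1 = q + 2))
    fun _ _ => Ext.add_comp _ _ _ _
  exact (map_nsmul D d w).symm.trans ((congrArg D hd0).trans (map_zero D))

end GrothLib.GalCd
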