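import Groth.Agent.Lib.GalCd.FacPts
import Groth.Agent.Lib.GalCd.GmTorsion
import Groth.Agent.Lib.EtSite.GermUnit

/-!
# Divisors with support over finitely many mid points
-/

set_option autoImplicit false
set_option backward.isDefEq.respectTransparency false
set_option backward.isDefEq.respectTransparency.types false
set_option linter.style.haveILetI false

universe u

open CategoryTheory CategoryTheory.Limits AlgebraicGeometry Opposite
open GrothLib.EtSite GrothLib.EtTrace21 GrothLib.EtColim GrothLib.EtLimit GrothLib.SheafCoh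

noncomputable section

namespace GrothLib.GalCd

section general

variable {X Y : Scheme.{u}}

/-- A point of a base change comes with compatible geometric points. -/
theorem exists_fib_over (f : X ⟶ Y) {V : Y.Etale} (p : ((EtCoh.bc f).obj V).left) :
    ∃ (Ω : Type u) (_ : Field Ω) (_ : IsSepClosed Ω) (ξ : Spec (CommRingCat.of Ω) ⟶ X)
      (t : (Scheme.pointSmallEtale (ξ ≫ f)).fiber.obj V),
      ((fiberBcIso ξ f).inv.app V t).left.base (default : Spec (CommRingCat.of Ω)) = p ∧
        t.left.base (default : Spec (CommRingCat.of Ω)) = (pullback.fst V.hom f).base p := by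
  obtain ⟨t', ht'⟩ := exists_fib (gpt (((EtCoh.bc f).obj V).hom.base p)) (U := (EtCoh.bc f).obj V) p
    (gpt_default _).symm
  obtain ⟨t, ht⟩ := exists_fib_bc _ f V t'
  subst ht
  refine ⟨_, inferInstance, inferInstance, _, t, ht', ?_⟩
  have e : ((fiberBcIso (gpt (((EtCoh.bc f).obj V).hom.base p)) f).inv.app V t).left ≫ pullback.fst V.hom f = t.left :=
    pullback.lift_fst _ _ _
  refine (congrArg (fun r => r.base (default : Spec (CommRingCat.of _))) e).symm.trans ?_
  rw [Scheme.Hom.comp_apply]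
  exact congrArg (pullback.fst V.hom f).base ht'

/-- A section whose pullback vanishes is not supported over the image. -/
theorem notMem_sectSupp_of_unit_eq_zero (f : X ⟶ Y) [EtCoh.BCCont f] (F : EtCoh.Ab Y) {V : Y.Etale}
    (σ : EtCoh.sect F V) (h : ((EtCoh.pullPushAdj f).unit.app F).hom.app (op V) σ = 0) (v : V.left) (p : X)
    (hv : V.hom.base v = f.base p) : v ∉ EtShriek.sectSupp F V σ := by
  obtain ⟨t, ht⟩ := exists_fib (gpt p ≫ f) (U := V) v (by
    rw [hv, Scheme.Hom.comp_apply]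
    exact congrArg _ (gpt_default p).symm)
  subst ht
  intro hm
  refine (GrothLib.EtBasicB.germ_ne_zero_iff (gpt p ≫ f) F t σ).2 hm ?_
  exact (germ_eq_of_unit_app_eq (gpt p) f F V σ 0 (h.trans (map_zero _).symm) t).trans (map_zero _)

/-- Sections with pullbacks agreeing away from the support. -/
theorem unit_app_eq_zero_of_supp (f : X ⟶ Y) [EtCoh.BCCont f] (F : EtCoh.Ab Y) {V : Y.Etale}
    (σ : EtCoh.sect F V) (h : ∀ v ∈ EtShriek.sectSupp F V σ, ∀ p : X, V.hom.base v ≠ f.base p) :
    ((EtCoh.pullPushAdj f).unit.app F).hom.app (op V) σ = 0 := by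
  refine (unit_app_eq_of_germs f F V σ 0 fun Ω _ _ ξ t => ?_).trans (map_zero _)
  rw [map_zero]
  by_contra hne
  refine h _ ((GrothLib.EtBasicB.germ_ne_zero_iff (ξ ≫ f) F t σ).1 hne) (ξ.base default) ?_
  rw [preimage_default (ξ ≫ f) t]
  rfl

theorem unitApp_eq_zero_opens (O : X.Opens) (Q : EtCoh.Ab X) (V : X.Etale) (s : EtCoh.sect Q V)
    (h : ∀ v ∈ EtShriek.sectSupp Q V s, V.hom.base v ∉ O) :
    (EtDual.unitApp O.ι Q).hom.app (op V) s = 0 := by
  let f : V.left ⟶ X := V.hom
  let A : V.left.Opens := f ⁻¹ᵁ O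
  let g : opensObj V A ⟶ V := opensHom V A
  have hg : Q.obj.map g.op s = 0 := by
    refine GrothLib.EtSite.section_eq_zero_of_germs _ _ _ fun Ω _ _ ξ t => ?_
    rw [germ_map]
    by_contra hne
    refine h _ ((GrothLib.EtBasicB.germ_ne_zero_iff ξ Q _ s).1 hne) ?_
    exact (t.left.base (default : Spec (CommRingCat.of Ω))).2
  refine injective_map_of_surjective' (G := (EtCoh.pull O.ι).obj Q)
    ((EtCoh.bc O.ι).map g) ?_ (Eq.trans ?_ (map_zero _).symm)
  · intro p
    have hp : f.base ((pullback.fst V.hom O.ι).base p) ∈ O := by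
      have := congrArg (fun r => r.base p) (pullback.condition (f := V.hom) (g := O.ι))
      simp only [Scheme.Hom.comp_base, TopCat.comp_app] at this
      change V.hom.base _ ∈ O
      rw [this]
      exact ((pullback.snd V.hom O.ι).base p).2
    obtain ⟨z, hz, -⟩ := Scheme.exists_preimage_of_isPullback (EtCoh.isPullback_bc_map O.ι g) p
      (⟨_, hp⟩ : A) rfl
    exact ⟨z, hz⟩
  · refine (NatTrans.naturality_apply (EtDual.unitApp O.ι Q).hom g.op s).symm.trans ?_
    rw [hg, map_zero]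

theorem span_of_gen {W : Scheme.{u}} [IsIntegral W] [IsAffine W] (v : W) {γ : (Γ(W, ⊤) : Type u)}
    (hγ : γ ∈ pAt W v) (h : ∀ a ∈ pAt W v, ∃ c t : (Γ(W, ⊤) : Type u), t ∉ pAt W v ∧ a * t = γ * c) :
    IsLocalRing.maximalIdeal (W.presheaf.stalk v) = Ideal.span {(W.presheaf.germ ⊤ v trivial).hom γ} := by
  letI : Algebra (Γ(W, ⊤) : Type u) (W.presheaf.stalk v) :=
    TopCat.Presheaf.algebra_section_stalk W.presheaf (⟨v, trivial⟩ : (⊤ : W.Opens))
  haveI : IsLocalization.AtPrime (W.presheaf.stalk v) (pAt W v) := isLocalization_pAt W v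
  refine le_antisymm (fun x hx => ?_) ((Ideal.span_singleton_le_iff_mem _).2 hγ)
  obtain ⟨⟨a, s⟩, he⟩ := IsLocalization.surj (pAt W v).primeCompl x
  dsimp only at he
  have ha : a ∈ pAt W v := by
    change algebraMap _ (W.presheaf.stalk v) a ∈ IsLocalRing.maximalIdeal _
    rw [← he]
    exact Ideal.mul_mem_right _ _ hx
  obtain ⟨c, t, ht, e⟩ := h a ha
  refine Ideal.mem_span_singleton.2 <| (((IsLocalization.map_units (W.presheaf.stalk v) s).mul
    (IsLocalization.map_units (W.presheaf.stalk v) (⟨t, ht⟩ : (pAt W v).primeCompl))).dvd_mul_right).1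
      ⟨algebraMap _ _ c, ?_⟩
  rw [← mul_assoc, he, ← map_mul, e, map_mul]
  rfl

end general

variable {X : Scheme.{u}}

/-- The closures of finitely many mid points. -/
def midClosed (F : Finset (MidPts X)) : TopologicalSpace.Closeds X :=
  ⟨⋃ y ∈ F, closure ({y.1} : Set X), F.finite_toSet.isClosed_biUnion fun _ _ => isClosed_closure⟩

/-- Their open complement. -/
def midCompl (F : Finset (MidPts X)) : X.Opens :=
  ⟨(midClosed F : Set X)ᶜ, (midClosed F).isClosed.isOpen_compl⟩

theorem mem_midCompl {F : Finset (MidPts X)} {x : X} : x ∈ midCompl F ↔ ∀ y ∈ F, ¬ y.1 ⤳ x := by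
  change x ∉ ⋃ y ∈ F, closure ({y.1} : Set X) ↔ _
  simp only [Set.mem_iUnion, not_exists, specializes_iff_mem_closure]

variable [IsLocallyNoetherian X] [Finite (MaxPts X)]

variable (X) in
/-- The divisors supported over the closures of `F`. -/
def midPart (F : Finset (MidPts X)) : EtCoh.Ab X :=
  kernel (EtDual.unitApp (midCompl F).ι (DivSheaf X))

theorem midPart_comp {F F' : Finset (MidPts X)} (h : F ⊆ F') :
    kernel.ι (EtDual.unitApp (midCompl F).ι (DivSheaf X)) ≫ EtDual.unitApp (midCompl F').ι (DivSheaf X) = 0 := by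
  refine (GrothLib.EtSupp19.pull_map_eq_zero_iff (midCompl F').ι _).1
    (GrothLib.EtSupp19.pull_kernel_ι_eq_zero (midCompl F').ι (midCompl F).ι ?_ (DivSheaf X))
  rw [Scheme.Opens.range_ι, Scheme.Opens.range_ι]
  intro x hx
  exact mem_midCompl.2 fun y hy => mem_midCompl.1 hx y (h hy)

variable (X) in
/-- The system of these parts. -/
def midDiag : ULift.{u + 1} (Finset (MidPts X)) ⥤ EtCoh.Ab X where
  obj F := midPart X F.down
  map {F F'} h := kernel.lift _ (kernel.ι _) (midPart_comp (ULift.down_le.mpr (leOfHom h)))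
  map_id F := equalizer.hom_ext (by simp [midPart])
  map_comp f g := equalizer.hom_ext (by simp [midPart])

variable (X) in
/-- Its evident cocone. -/
def midCocone : Cocone (midDiag X) where
  pt := DivSheaf X
  ι :=
    { app := fun F => kernel.ι _
      naturality := fun F F' h => by simp [midDiag, midPart] }

theorem isIso_midDesc [IsReduced X] (hf : EtFactorial X) : IsIso (colimit.desc (midDiag X) (midCocone X)) := by
  classical
  let c := colimit.desc (midDiag X) (midCocone X)
  have hfac : ∀ i, colimit.ι (midDiag X) i ≫ c = kernel.ι _ := fun i => colimit.ι_desc _ _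
  haveI : Mono c := by
    haveI : Sheaf.IsLocallyInjective c := Sheaf.isLocallyInjective_iff_injective c |>.2 fun U => by
      rw [injective_iff_map_eq_zero]
      intro s hs
      refine GrothLib.EtSite.section_eq_zero_of_germs _ U.unop s fun Ω _ _ η t => ?_
      obtain ⟨_, ⟨A, hA, rfl⟩, hxA, -⟩ := U.unop.left.isBasis_affineOpens.exists_subset_of_mem_open
        (Set.mem_univ (t.left.base (default : Spec (CommRingCat.of Ω)))) isOpen_univ
      let A₀ : U.unop.left.Opens := A
      let V := opensObj U.unop A₀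
      let g : V ⟶ U.unop := opensHom U.unop A₀
      obtain ⟨t', ht', -⟩ := GrothLib.EtBasicB.exists_fib_lift η g t
        (⟨_, hxA⟩ : A₀) rfl
      rw [← ht', ← germ_map]
      have hV : Qcqs V :=
        haveI : IsAffine A₀.toScheme := hA
        ⟨(isCompact_iff_compactSpace.1 hA.isCompact :), (inferInstance : QuasiSeparatedSpace ↥A₀.toScheme)⟩
      obtain ⟨i, a, ha⟩ := (ColimCoh.sections_colimit cov_h1 cov_h2 (midDiag X ⋙ (E X).functor)
        (isColimitOfPreserves (E X).functor (colimit.isColimit (midDiag X))) (U := up V) hV).1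
        ((colimit (midDiag X)).obj.map g.op s)
      replace ha : (colimit.ι (midDiag X) i).hom.app (op V) a = (colimit (midDiag X)).obj.map g.op s := ha
      have h0 : (kernel.ι (EtDual.unitApp (midCompl i.down).ι (DivSheaf X))).hom.app (op V) a = 0 := by
        rw [← hfac i]
        change c.hom.app (op V) ((colimit.ι (midDiag X) i).hom.app (op V) a) = 0
        rw [ha]
        refine (NatTrans.naturality_apply c.hom g.op s).trans ?_
        rw [hs, map_zero]
      have ha0 : a = 0 :=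
        injective_app (kernel.ι (EtDual.unitApp (midCompl i.down).ι (DivSheaf X))) V (h0.trans (map_zero _).symm)
      rw [← ha, ha0, map_zero, map_zero]
    exact Sheaf.mono_of_isLocallyInjective c
  haveI : Epi c := by
    haveI : Sheaf.IsLocallySurjective c := by
      refine ⟨fun {U} s => ?_⟩
      rw [mem_topology_iff]
      intro x
      obtain ⟨_, ⟨A, hA, rfl⟩, hxA, -⟩ := U.left.isBasis_affineOpens.exists_subset_of_mem_open
        (Set.mem_univ x) isOpen_univ
      let A₀ : U.left.Opens := A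
      let V := opensObj U A₀
      let g : V ⟶ U := opensHom U A₀
      haveI : IsAffine V.left := (hA : IsAffine A₀.toScheme)
      haveI : IsNoetherian V.left := by
        let f : V.left ⟶ X := V.hom
        haveI : Etale f := V.prop
        haveI : IsLocallyNoetherian V.left := LocallyOfFiniteType.isLocallyNoetherian f
        exact {}
      let s₁ : EtCoh.sect (DivSheaf X) V := (DivSheaf X).obj.map g.op s
      have hS := finite_supp_mid hf s₁
      let F : Finset (MidPts X) := (hS.toFinset.image V.hom.base).subtype fun y =>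
        (¬ ∀ y', y' ⤳ y → y' = y) ∧ ∀ y', y' ⤳ y → y' ≠ y → ∀ z, z ⤳ y' → z = y'
      have hu : (EtDual.unitApp (midCompl F).ι (DivSheaf X)).hom.app (op V) s₁ = 0 := by
        refine unitApp_eq_zero_opens _ _ V s₁ fun v hv hmem => ?_
        obtain ⟨z, y, hzv, hzy, hz⟩ := exists_supp_mid hf s₁ v hv
        refine mem_midCompl.1 hmem y ?_ (hzy ▸ hzv.map V.hom.continuous)
        exact Finset.mem_subtype.2 (Finset.mem_image.2 ⟨z, hS.mem_toFinset.2 ⟨hz, y, hzy⟩, hzy⟩)
      have h0 : ofSect s₁ ≫ EtDual.unitApp (midCompl F).ι (DivSheaf X) = 0 := ZV_ext (by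
        refine (congrArg ((EtDual.unitApp (midCompl F).ι (DivSheaf X)).hom.app (op V)) (ofSect_gen s₁)).trans ?_
        exact hu)
      refine ⟨V, g, (⟨x, hxA⟩ : A₀), ⟨(colimit.ι (midDiag X) ⟨F⟩).hom.app (op V)
        ((kernel.lift _ _ h0).hom.app (op V) (gen V)), ?_⟩, rfl⟩
      refine Eq.trans ?_ (ofSect_gen s₁)
      conv_rhs => rw [← kernel.lift_ι _ _ h0, ← hfac ⟨F⟩]
      rfl
    exact Sheaf.epi_of_isLocallySurjective c
  exact isIso_of_mono_of_epi c

variable (X) in
/-- The components of the comparison with the values at the mid points. -/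
abbrev midTarget (F : Finset (MidPts X)) (y : F) : EtCoh.Ab X :=
  (EtCoh.push (X.fromSpecResidueField y.1.1)).obj ((EtCoh.pull (X.fromSpecResidueField y.1.1)).obj (DivSheaf X))

variable (X) in
/-- The comparison with the values at the mid points. -/
def midPsi (F : Finset (MidPts X)) : midPart X F ⟶ ⨁ midTarget X F :=
  biproduct.lift fun y : F => kernel.ι (EtDual.unitApp (midCompl F).ι (DivSheaf X)) ≫
    (EtCoh.pullPushAdj (X.fromSpecResidueField y.1.1)).unit.app (DivSheaf X)

variable [IsReduced X] (hf : EtFactorial X)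
include hf

theorem exists_chart_away {V : X.Etale} (v : V.left) (S : Set V.left) (hS : S.Finite) :
    ∃ O : V.left.Opens, v ∈ O ∧ IsAffine (opensObj V O).left ∧ IsIntegral (opensObj V O).left ∧
      ∀ z ∈ S, z ∈ O → z ⤳ v := by
  let S' : Set V.left := {z ∈ S | ¬ z ⤳ v}
  have hc : IsClosed (⋃ z ∈ S', closure ({z} : Set V.left)) :=
    (hS.subset fun z hz => hz.1).isClosed_biUnion fun _ _ => isClosed_closure
  let O₁ : V.left.Opens := ⟨_, hc.isOpen_compl⟩
  have hv : v ∈ O₁ := fun h => by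
    obtain ⟨z, hz, hzv⟩ := Set.mem_iUnion₂.1 h
    exact hz.2 (specializes_iff_mem_closure.2 hzv)
  let V₁ := opensObj V O₁
  obtain ⟨O₂, hv₂, hA, hI⟩ := (haveI := hf.dom V₁ ⟨v, hv⟩; exists_chart V₁ (⟨v, hv⟩ : O₁))
  let O : V.left.Opens := O₁.ι ''ᵁ O₂
  let e : O₂.toScheme ≅ O.toScheme := O₁.ι.isoImage O₂
  haveI : IsAffine O₂.toScheme := hA
  haveI : IsIntegral O₂.toScheme := hI
  haveI : Nonempty O.toScheme := ⟨e.hom.base (⟨⟨v, hv⟩, hv₂⟩ : O₂)⟩
  refine ⟨O, ⟨⟨v, hv⟩, hv₂, rfl⟩, (IsAffine.of_isIso e.inv : IsAffine O.toScheme),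
    (isIntegral_of_isOpenImmersion e.inv : IsIntegral O.toScheme), fun z hz hzO => ?_⟩
  by_contra hn
  obtain ⟨z', -, rfl⟩ := hzO
  exact z'.2 (Set.mem_iUnion₂.2 ⟨_, ⟨hz, hn⟩, subset_closure rfl⟩)

omit hf in
theorem stalk_biprod_decomp (F : Finset (MidPts X)) {Ω : Type u} [Field Ω] [IsSepClosed Ω]
    (ξ : Spec (CommRingCat.of Ω) ⟶ X) (x : (EtCoh.stalk ξ).obj (⨁ midTarget X F)) :
    x = ∑ y, (EtCoh.stalk ξ).map (biproduct.ι (midTarget X F) y)
      ((EtCoh.stalk ξ).map (biproduct.π (midTarget X F) y) x) := by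
  classical
  have e : (EtCoh.stalk ξ).map (𝟙 (⨁ midTarget X F)) =
      ∑ y, (EtCoh.stalk ξ).map (biproduct.π (midTarget X F) y) ≫ (EtCoh.stalk ξ).map (biproduct.ι (midTarget X F) y) := by
    rw [← IsBilimit.total (biproduct.isBilimit (midTarget X F)), Functor.map_sum]
    exact Finset.sum_congr rfl fun y _ => Functor.map_comp _ _ _
  rw [CategoryTheory.Functor.map_id] at e
  let ev := AddMonoidHom.mk'
    (fun f : (EtCoh.stalk ξ).obj (⨁ midTarget X F) ⟶ (EtCoh.stalk ξ).obj (⨁ midTarget X F) => f x) fun _ _ => rfl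
  exact (congrArg ev e).trans (map_sum ev _ _)

theorem mono_stalk_midPsi (F : Finset (MidPts X)) {Ω : Type u} [Field Ω] [IsSepClosed Ω]
    (ξ : Spec (CommRingCat.of Ω) ⟶ X) : Function.Injective ((EtCoh.stalk ξ).map (midPsi X F)) := by
  classical
  rw [injective_iff_map_eq_zero]
  intro a ha
  let ι₀ := kernel.ι (EtDual.unitApp (midCompl F).ι (DivSheaf X))
  haveI : Mono ((EtCoh.stalk ξ).map ι₀) := inferInstance
  refine (AddCommGrpCat.mono_iff_injective _).1 ‹Mono ((EtCoh.stalk ξ).map ι₀)› (Eq.trans ?_ (map_zero _).symm)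
  obtain ⟨V, t, σ, rfl⟩ := exists_germ ξ _ a
  erw [stalk_map_germ]
  by_contra hne
  obtain ⟨z, c, hzv, hzc, hz⟩ := exists_supp_mid hf _ _ ((GrothLib.EtBasicB.germ_ne_zero_iff ξ _ t _).1 hne)
  have hkill : (EtDual.unitApp (midCompl F).ι (DivSheaf X)).hom.app (op V) (ι₀.hom.app (op V) σ) = 0 :=
    congr($(congrArg (fun r : midPart X F ⟶ _ => r.hom.app (op V))
      (kernel.condition (EtDual.unitApp (midCompl F).ι (DivSheaf X)))) σ)
  by_cases hcF : c ∈ F
  · let i := X.fromSpecResidueField c.1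
    have hc0 : (EtCoh.stalk ξ).map ((EtCoh.pullPushAdj i).unit.app (DivSheaf X))
        (germ ξ _ t (ι₀.hom.app (op V) σ)) = 0 := by
      have e : midPsi X F ≫ biproduct.π (midTarget X F) ⟨c, hcF⟩ = ι₀ ≫ (EtCoh.pullPushAdj i).unit.app (DivSheaf X) :=
        biproduct.lift_π _ _
      have h1 := congr($(congrArg (EtCoh.stalk ξ).map e) (germ ξ _ t σ))
      rw [Functor.map_comp, Functor.map_comp, ConcreteCategory.comp_apply, ConcreteCategory.comp_apply, ha,
        map_zero, stalk_map_germ] at h1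
      exact h1.symm
    rw [stalk_map_germ] at hc0
    obtain ⟨W, g, w, hw, hg⟩ := eq_zero_nhd ξ _ t _ hc0
    haveI := GrothLib.ConnFibres.etale_left g
    obtain ⟨q, hq, rfl⟩ := Flat.generalizingMap g.left (hw.symm ▸ hzv : z ⤳ g.left.base w)
    have hu : ((EtCoh.pullPushAdj i).unit.app (DivSheaf X)).hom.app (op W)
        ((DivSheaf X).obj.map g.op (ι₀.hom.app (op V) σ)) = 0 :=
      (NatTrans.naturality_apply ((EtCoh.pullPushAdj i).unit.app (DivSheaf X)).hom g.op _).trans hg
    haveI : EtCoh.BCCont i := inferInstance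
    refine notMem_sectSupp_of_unit_eq_zero i (DivSheaf X) _ hu q default ?_ ((mem_sectSupp_map _ g _ q).2 hz)
    have e : V.hom.base (g.left.base q) = W.hom.base q := congr($(MorphismProperty.Over.w g).base q)
    rw [Scheme.fromSpecResidueField_apply]
    exact e.symm.trans hzc
  · have hmem : V.hom.base z ∈ midCompl F := mem_midCompl.2 fun y hy hs => hcF (by
      rw [← midPts_eq_of_specializes (a := y) (b := c) (hzc ▸ hs)]
      exact hy)
    exact notMem_sectSupp_of_unit_eq_zero (midCompl F).ι (DivSheaf X) _ hkill z ⟨_, hmem⟩ rfl hz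

theorem surjective_stalk_midPsi (F : Finset (MidPts X)) {Ω : Type u} [Field Ω] [IsSepClosed Ω]
    (ξ : Spec (CommRingCat.of Ω) ⟶ X) : Function.Surjective ((EtCoh.stalk ξ).map (midPsi X F)) := by
  classical
  intro b
  have hb := stalk_biprod_decomp F ξ b
  suffices key : ∀ (y : F) (β : (EtCoh.stalk ξ).obj (midTarget X F y)), ∃ a,
      (EtCoh.stalk ξ).map (midPsi X F) a = (EtCoh.stalk ξ).map (biproduct.ι (midTarget X F) y) β by
    choose a ha using fun y => key y ((EtCoh.stalk ξ).map (biproduct.π (midTarget X F) y) b)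
    refine ⟨∑ y, a y, ?_⟩
    rw [map_sum, hb]
    exact Finset.sum_congr rfl fun y _ => ha y
  intro y β
  let i := X.fromSpecResidueField y.1.1
  obtain ⟨V₀, t₀, β₀, rfl⟩ := exists_germ ξ _ β
  obtain ⟨O₀, hv₀, hA₀, -⟩ := (haveI := hf.dom V₀ (t₀.left.base (default : Spec (CommRingCat.of Ω)));
    exists_chart V₀ (t₀.left.base (default : Spec (CommRingCat.of Ω))))
  let V₁ := opensObj V₀ O₀
  obtain ⟨t₁, ht₁, -⟩ := GrothLib.EtBasicB.exists_fib_lift ξ (opensHom V₀ O₀) t₀ (⟨_, hv₀⟩ : O₀) rfl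
  have hfin : {z : V₁.left | V₁.hom.base z = y.1.1}.Finite := by
    let f : V₁.left ⟶ X := V₁.hom
    haveI : IsAffine V₁.left := hA₀
    haveI : Etale f := V₁.prop
    haveI : LocallyQuasiFinite f := GrothLib.EtBasicB.locallyQuasiFinite_of_unramified f
    haveI : QuasiCompact f := inferInstance
    exact f.finite_preimage_singleton y.1.1
  obtain ⟨O₁, hv₁, hA, hI, hOS⟩ := exists_chart_away hf (t₁.left.base (default : Spec (CommRingCat.of Ω))) _ hfin
  let V := opensObj V₁ O₁
  haveI : IsAffine V.left := hA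
  haveI : IsIntegral V.left := hI
  obtain ⟨t, ht, htv⟩ := GrothLib.EtBasicB.exists_fib_lift ξ (opensHom V₁ O₁) t₁ (⟨_, hv₁⟩ : O₁) rfl
  let v : V.left := t.left.base (default : Spec (CommRingCat.of Ω))
  let g₀ : V ⟶ V₀ := opensHom V₁ O₁ ≫ opensHom V₀ O₀
  let b₀ : EtCoh.sect ((EtCoh.pull i).obj (DivSheaf X)) ((EtCoh.bc i).obj V) :=
    (midTarget X F y).obj.map g₀.op β₀
  have hβ : germ ξ (midTarget X F y) t b₀ = germ ξ (midTarget X F y) t₀ β₀ := by
    change germ ξ _ t ((midTarget X F y).obj.map g₀.op β₀) = _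
    rw [germ_map, Functor.map_comp, ConcreteCategory.comp_apply, ht, ht₁]
  haveI : IsNoetherian V.left := by
    let f : V.left ⟶ X := V.hom
    haveI : Etale f := V.prop
    haveI : IsLocallyNoetherian V.left := LocallyOfFiniteType.isLocallyNoetherian f
    exact {}
  -- the fibre over `y`
  let S : Finset V.left := (Set.Finite.subset
    (hfin.preimage (f := fun z : O₁ => z.1) (Subtype.val_injective.injOn)) (Set.Subset.refl _)).toFinset
  have hS : ∀ z : V.left, z ∈ S ↔ V.hom.base z = y.1.1 := fun z => Set.Finite.mem_toFinset _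
  have hsp : ∀ z ∈ S, z ⤳ v := fun z hz => by
    have h1 : (show O₁ from z).1 ⤳ t₁.left.base (default : Spec (CommRingCat.of Ω)) := hOS _ ((hS z).1 hz) (show O₁ from z).2
    change z ⤳ t.left.base (default : Spec (CommRingCat.of Ω))
    rw [htv]
    exact (subtype_specializes_iff (show O₁ from z) ⟨_, hv₁⟩).2 h1
  have hminS : ∀ z ∈ S, IsMinNonzero (pAt V.left z) := fun z hz =>
    (isMinNonzero_pAt_iff z).2 ((hS z).1 hz ▸ y.1.2)
  letI : Algebra (Γ(V.left, ⊤) : Type u) (V.left.presheaf.stalk v) :=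
    TopCat.Presheaf.algebra_section_stalk V.left.presheaf (⟨v, trivial⟩ : (⊤ : V.left.Opens))
  haveI : IsLocalization.AtPrime (V.left.presheaf.stalk v) (pAt V.left v) := isLocalization_pAt V.left v
  haveI := (hf V v).1
  haveI := (hf V v).2
  have hloc : ∀ z : V.left, z ∈ S → ∀ p : ((EtCoh.bc i).obj V).left, (pullback.fst V.hom i).base p = z →
      ∃ (s : EtCoh.sect (Pmax X) V),
        (∀ q : V.left, IsMinNonzero (pAt V.left q) → q ⤳ v → q ≠ z → IsUnitAt (evGen V.left) (pAt V.left q) (fnV s)) ∧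
        ∃ (Ω' : Type u) (_ : Field Ω') (_ : IsSepClosed Ω') (ξ' : Spec (CommRingCat.of Ω') ⟶ Spec (X.residueField y.1.1))
          (t' : (Scheme.pointSmallEtale (ξ' ≫ i)).fiber.obj V),
          ((fiberBcIso ξ' i).inv.app V t').left.base (default : Spec (CommRingCat.of Ω')) = p ∧
          germ ξ' ((EtCoh.pull i).obj (DivSheaf X)) ((fiberBcIso ξ' i).inv.app V t')
            (((EtCoh.pullPushAdj i).unit.app (DivSheaf X)).hom.app (op V) ((toDiv X).hom.app (op V) s)) =
            germ ξ' ((EtCoh.pull i).obj (DivSheaf X)) ((fiberBcIso ξ' i).inv.app V t') b₀ := by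
    intro z hz p hp
    obtain ⟨γ, hγP, hγ0, hdec, huniq⟩ := exists_generator_of_le (pAt V.left v) (V.left.presheaf.stalk v)
      (hminS z hz) (pAt_le_iff.2 (hsp z hz))
    obtain ⟨sγ, hsγ⟩ := exists_sect_fnV V (c := evGen V.left γ) fun h0 =>
      hγ0 (evGen_injective V.left (h0.trans (map_zero (evGen V.left)).symm))
    obtain ⟨Ω', iF, iS, ξ', t', ht'p, ht'z⟩ := exists_fib_over i p
    have hgen := span_of_gen z hγP fun a ha => by
      obtain ⟨c, s, hs, e⟩ := hdec a ha
      exact ⟨c, s, fun hm => hs (pAt_le_iff.2 (hsp z hz) hm), e⟩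
    obtain ⟨n, hn, -⟩ := existsUnique_zsmul_germ hf hγ0 sγ hsγ (ξ' ≫ i) t'
      (by rw [ht'z, hp]; exact hgen)
      ((pullStalkIso ξ' i).hom.app (DivSheaf X) (germ ξ' _ ((fiberBcIso ξ' i).inv.app V t') b₀))
    refine ⟨n • sγ, fun q hq hqv hqz => ?_, Ω', iF, iS, ξ', t', ht'p, ?_⟩
    · rw [fnV_zsmul, hsγ]
      refine IsUnitAt.zpow (evGen_injective V.left) (isUnitAt_of_notMem fun hm => hqz ?_) n
      have e := huniq _ hq (pAt_le_iff.2 hqv) hm
      exact ((pAt_le_iff.1 e.le).antisymm (pAt_le_iff.1 e.ge)).eq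
    · rw [germ_unit, map_zsmul, map_zsmul, hn]
      exact congr($(Iso.hom_inv_id_app (pullStalkIso ξ' i) (DivSheaf X)) _)
  have hp : ∀ z ∈ S, ∃ p : ((EtCoh.bc i).obj V).left, (pullback.fst V.hom i).base p = z := fun z hz => by
    obtain ⟨p, hp, -⟩ := Scheme.Pullback.exists_preimage_pullback (f := V.hom) (g := i) z
      (default : Spec (X.residueField y.1.1)) (((hS z).1 hz).trans (Scheme.fromSpecResidueField_apply y.1.1 _).symm)
    exact ⟨p, hp⟩
  choose p hp using hp
  choose sz hunit Ω' iF iS ξ' t' ht'p hgerm using fun z hz => hloc z hz (p z hz) (hp z hz)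
  let s : EtCoh.sect (Pmax X) V := ∑ z ∈ S.attach, sz z.1 z.2
  let σ : EtCoh.sect (DivSheaf X) V := (toDiv X).hom.app (op V) s
  have hfs : fnV s = ∏ z ∈ S.attach, fnV (sz z.1 z.2) := by
    change fnV (∑ z ∈ S.attach, sz z.1 z.2) = _
    induction S.attach using Finset.induction with
    | empty => rw [Finset.sum_empty, Finset.prod_empty, fnV_zero]
    | insert a T ha ih => rw [Finset.sum_insert ha, Finset.prod_insert ha, fnV_add, ih]
  -- shrink to a neighbourhood on which the divisor lies over `y`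
  let B : Set V.left := {z | z ∈ EtShriek.sectSupp (DivSheaf X) V σ ∧ ∃ c : MidPts X, V.hom.base z = c.1}
  let B' : Set V.left := {z ∈ B | ¬ z ⤳ v}
  have hB' : IsClosed (⋃ z ∈ B', closure ({z} : Set V.left)) :=
    ((finite_supp_mid hf σ).subset fun z hz => hz.1).isClosed_biUnion fun _ _ => isClosed_closure
  let O : V.left.Opens := ⟨_, hB'.isOpen_compl⟩
  have hvO : v ∈ O := fun h => by
    obtain ⟨z, hz, hzv⟩ := Set.mem_iUnion₂.1 h
    exact hz.2 (specializes_iff_mem_closure.2 hzv)
  let W := opensObj V O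
  let g : W ⟶ V := opensHom V O
  have hsupp : ∀ w ∈ EtShriek.sectSupp (DivSheaf X) W ((DivSheaf X).obj.map g.op σ),
      ∃ z ∈ S, z ⤳ g.left.base w := by
    intro w hw
    obtain ⟨q, c, hqw, hqc, hq⟩ := exists_supp_mid hf _ w hw
    have hq' : g.left.base q ∈ EtShriek.sectSupp (DivSheaf X) V σ := (mem_sectSupp_map _ g σ q).1 hq
    have hc : V.hom.base (g.left.base q) = c.1 := hqc
    have hmin : IsMinNonzero (pAt V.left (g.left.base q)) := (isMinNonzero_pAt_iff _).2 (hc ▸ c.2)
    have hqv : g.left.base q ⤳ v := by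
      by_contra hn
      exact (q : O).2 (Set.mem_iUnion₂.2 ⟨_, ⟨⟨hq', c, hc⟩, hn⟩, subset_closure rfl⟩)
    refine ⟨g.left.base q, ?_, hqw.map g.left.continuous⟩
    by_contra hnS
    refine (mem_sectSupp_toDiv hf.dom s _).1 hq' ?_
    rw [hfs]
    exact isUnitAt_prod _ _ fun z _ => hunit z.1 z.2 _ hmin hqv fun e => hnS (e ▸ z.2)
  obtain ⟨t'', ht'', -⟩ := GrothLib.EtBasicB.exists_fib_lift ξ g t (⟨v, hvO⟩ : O) rfl
  let σW : EtCoh.sect (DivSheaf X) W := (DivSheaf X).obj.map g.op σ
  have hker : (EtDual.unitApp (midCompl F).ι (DivSheaf X)).hom.app (op W) σW = 0 := by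
    refine unitApp_eq_zero_opens _ _ W σW fun w hw hmem => ?_
    obtain ⟨z, hz, hzw⟩ := hsupp w hw
    refine mem_midCompl.1 hmem y.1 y.2 ?_
    have := hzw.map V.hom.continuous
    erw [(hS z).1 hz] at this
    exact this
  have h0 : ofSect σW ≫ EtDual.unitApp (midCompl F).ι (DivSheaf X) = 0 := ZV_ext (by
    refine (congrArg ((EtDual.unitApp (midCompl F).ι (DivSheaf X)).hom.app (op W)) (ofSect_gen σW)).trans ?_
    exact hker)
  let a : EtCoh.sect (midPart X F) W := (kernel.lift _ _ h0).hom.app (op W) (gen W)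
  have ha : (kernel.ι (EtDual.unitApp (midCompl F).ι (DivSheaf X))).hom.app (op W) a = σW :=
    (congr($(congrArg (fun r : ZV W ⟶ DivSheaf X => r.hom.app (op W)) (kernel.lift_ι _ _ h0)) (gen W))).trans
      (ofSect_gen σW)
  have hval : ((EtCoh.pullPushAdj i).unit.app (DivSheaf X)).hom.app (op V) σ = b₀ := by
    refine sub_eq_zero.1 (section_eq_zero_of_germs ((EtCoh.pull i).obj (DivSheaf X)) _ _ fun Ω₁ _ _ ξ₁ t₁' => ?_)
    by_contra hne
    have hmem := (GrothLib.EtBasicB.germ_ne_zero_iff ξ₁ _ t₁' _).1 hne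
    obtain ⟨t₂, rfl⟩ := exists_fib_bc ξ₁ i V t₁'
    let p₁ := ((fiberBcIso ξ₁ i).inv.app V t₂).left.base (default : Spec (CommRingCat.of Ω₁))
    let z₁ := (pullback.fst V.hom i).base p₁
    have hz₁ : z₁ ∈ S := (hS z₁).2 (by
      have e : pullback.fst V.hom i ≫ V.hom = pullback.snd V.hom i ≫ i := pullback.condition
      exact (congrArg (fun r => r.base p₁) e).trans (Scheme.fromSpecResidueField_apply y.1.1 _))
    have hpp : p₁ = p z₁ hz₁ := by
      haveI : IsPreimmersion i := by dsimp only [i, Scheme.fromSpecResidueField]; infer_instance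
      haveI : IsPreimmersion (pullback.fst V.hom i) := MorphismProperty.pullback_fst (P := @IsPreimmersion) _ _ inferInstance
      exact (pullback.fst V.hom i).isEmbedding.injective (hp z₁ hz₁).symm
    letI := iF z₁ hz₁
    haveI := iS z₁ hz₁
    have hmem' : ((fiberBcIso (ξ' z₁ hz₁) i).inv.app V (t' z₁ hz₁)).left.base
        (default : Spec (CommRingCat.of (Ω' z₁ hz₁))) ∈ EtShriek.sectSupp ((EtCoh.pull i).obj (DivSheaf X)) _
          ((show EtCoh.sect ((EtCoh.pull i).obj (DivSheaf X)) ((EtCoh.bc i).obj V) from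
            ((EtCoh.pullPushAdj i).unit.app (DivSheaf X)).hom.app (op V) σ) - b₀) := by
      rw [ht'p z₁ hz₁, ← hpp]
      exact hmem
    refine (GrothLib.EtBasicB.germ_ne_zero_iff (ξ' z₁ hz₁) _ _ _).2 hmem' ?_
    rw [map_sub, sub_eq_zero, ← hgerm z₁ hz₁, germ_unit, germ_unit]
    refine congrArg ((pullStalkIso (ξ' z₁ hz₁) i).inv.app (DivSheaf X)) ?_
    change germ (ξ' z₁ hz₁ ≫ i) (DivSheaf X) (t' z₁ hz₁) ((toDiv X).hom.app (op V) (∑ z ∈ S.attach, sz z.1 z.2)) = _
    rw [map_sum, map_sum]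
    refine Finset.sum_eq_single_of_mem (M := (EtCoh.stalk (ξ' z₁ hz₁ ≫ i)).obj (DivSheaf X)) ⟨z₁, hz₁⟩ (Finset.mem_attach _ _) fun z _ hzne => ?_
    refine germ_toDiv_of_isUnitAt (sz z.1 z.2) _ _ ?_
    have hpt : (t' z₁ hz₁).left.base (default : Spec (CommRingCat.of (Ω' z₁ hz₁))) = z₁ := by
      have e : ((fiberBcIso (ξ' z₁ hz₁) i).inv.app V (t' z₁ hz₁)).left ≫ pullback.fst V.hom i = (t' z₁ hz₁).left :=
        pullback.lift_fst _ _ _
      refine (congrArg (fun r => r.base (default : Spec (CommRingCat.of (Ω' z₁ hz₁)))) e).symm.trans ?_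
      rw [Scheme.Hom.comp_apply]
      exact (congrArg (pullback.fst V.hom i).base (ht'p z₁ hz₁)).trans (hp z₁ hz₁)
    rw [hpt]
    exact hunit z.1 z.2 z₁ (hminS z₁ hz₁) (hsp z₁ hz₁) fun e => hzne (Subtype.ext e.symm)
  refine ⟨germ ξ _ t'' a, ?_⟩
  have hcomp : ∀ y' : F, (EtCoh.stalk ξ).map (biproduct.π (midTarget X F) y')
      ((EtCoh.stalk ξ).map (midPsi X F) (germ ξ _ t'' a)) =
      germ ξ (midTarget X F y') t'' (((EtCoh.pullPushAdj (X.fromSpecResidueField y'.1.1)).unit.app
        (DivSheaf X)).hom.app (op W) σW) := fun y' => by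
    rw [← ConcreteCategory.comp_apply, ← Functor.map_comp, midPsi, biproduct.lift_π, stalk_map_germ]
    exact congrArg (fun r => germ ξ (midTarget X F y') t''
      (((EtCoh.pullPushAdj (X.fromSpecResidueField y'.1.1)).unit.app (DivSheaf X)).hom.app (op W) r)) ha
  have hext : ∀ x x' : (EtCoh.stalk ξ).obj (⨁ midTarget X F), (∀ y', (EtCoh.stalk ξ).map (biproduct.π _ y') x =
      (EtCoh.stalk ξ).map (biproduct.π _ y') x') → x = x' := fun x x' h => by
    rw [stalk_biprod_decomp F ξ x, stalk_biprod_decomp F ξ x']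
    exact Finset.sum_congr rfl fun y' _ => by rw [h y']
  refine hext _ _ fun y' => ?_
  rw [hcomp, ← ConcreteCategory.comp_apply, ← Functor.map_comp]
  by_cases hyy : y' = y
  · subst hyy
    rw [biproduct.ι_π_self, CategoryTheory.Functor.map_id]
    refine Eq.trans ?_ hβ
    rw [← ht'', ← germ_map]
    refine congrArg (germ ξ _ t'') ?_
    refine (NatTrans.naturality_apply ((EtCoh.pullPushAdj i).unit.app (DivSheaf X)).hom g.op σ).trans ?_
    exact congrArg ((midTarget X F y').obj.map g.op) hval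
  · rw [biproduct.ι_π_ne _ (Ne.symm hyy), Functor.map_zero]
    change _ = 0
    rw [unit_app_eq_zero_of_supp, map_zero]
    intro w hw p' e
    obtain ⟨z, hz, hzw⟩ := hsupp w hw
    have h1 := hzw.map V.hom.continuous
    erw [(hS z).1 hz] at h1
    rw [Scheme.fromSpecResidueField_apply] at e
    refine hyy (Subtype.ext (midPts_eq_of_specializes (a := y.1) (b := y'.1) ?_).symm)
    exact e ▸ h1

theorem isIso_midPsi (F : Finset (MidPts X)) : IsIso (midPsi X F) := by
  refine GrothLib.EtSite.isIso_of_stalks _ fun Ω _ _ ξ => ?_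
  exact ⟨mono_stalk_midPsi hf F ξ, surjective_stalk_midPsi hf F ξ⟩

end GrothLib.GalCd
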