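import Groth.Agent.Lib.GalCd.ChartDiv

/-!
# Supports and local generators of divisors on schemes with factorial strict local rings
-/

set_option autoImplicit false
set_option backward.isDefEq.respectTransparency false
set_option backward.isDefEq.respectTransparency.types false
set_option linter.style.haveILetI false

universe u

open CategoryTheory CategoryTheory.Limits AlgebraicGeometry Opposite
open GrothLib.EtSite GrothLib.EtTrace21 GrothLib.EtColim GrothLib.EtLimit GrothLib.SheafCoh

noncomputable section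

namespace GrothLib.GalCd

variable {X : Scheme.{u}}

/-- All local rings of all etale schemes are factorial domains. -/
def EtFactorial (X : Scheme.{u}) : Prop :=
  ∀ (U : X.Etale) (u : U.left), IsDomain (U.left.presheaf.stalk u) ∧ UniqueFactorizationMonoid (U.left.presheaf.stalk u)

theorem EtFactorial.dom (hf : EtFactorial X) (U : X.Etale) (u : U.left) : IsDomain (U.left.presheaf.stalk u) :=
  (hf U u).1

theorem EtFactorial.isReduced (hf : EtFactorial X) : IsReduced X := by
  haveI : ∀ x : X, _root_.IsReduced (X.presheaf.stalk x) := fun x => by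
    haveI : IsDomain (X.presheaf.stalk x) := hf.dom (Scheme.Etale.mk (𝟙 X)) x
    infer_instance
  exact isReduced_of_isReduced_stalk _

/-- The points all whose strict generalisations are maximal. -/
abbrev MidPts (X : Scheme.{u}) : Type u :=
  {x : X // (¬ ∀ y, y ⤳ x → y = x) ∧ ∀ y, y ⤳ x → y ≠ x → ∀ z, z ⤳ y → z = y}

theorem midPts_eq_of_specializes {a b : MidPts X} (h : a.1 ⤳ b.1) : a = b := by
  by_contra hne
  exact a.2.1 (b.2.2 a.1 h fun e => hne (Subtype.ext e))

variable [IsLocallyNoetherian X] [Finite (MaxPts X)]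

omit [IsLocallyNoetherian X] [Finite (MaxPts X)] in
/-- On charts, the points over mid points are the primes minimal among the nonzero ones. -/
theorem isMinNonzero_pAt_iff {V : X.Etale} [IsIntegral V.left] [IsAffine V.left] (v : V.left) :
    IsMinNonzero (pAt V.left v) ↔
      (¬ ∀ y, y ⤳ V.hom.base v → y = V.hom.base v) ∧
        ∀ y, y ⤳ V.hom.base v → y ≠ V.hom.base v → ∀ z, z ⤳ y → z = y := by
  let f : V.left ⟶ X := V.hom
  haveI : Etale f := V.prop
  constructor
  · rintro ⟨-, h0, hmin⟩
    refine ⟨fun h => h0 ?_, fun y hy hne => ?_⟩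
    · rw [eq_genericPoint (p := v) h, pAt_genericPoint]
    · obtain ⟨q, hq, rfl⟩ := Flat.generalizingMap f hy
      rcases hmin _ (isPrime_pAt V.left q) (pAt_le_iff.2 hq) with h | h
      · have e : q = genericPoint V.left := ((genericPoint_specializes q).antisymm
          (pAt_le_iff.1 (h.trans_le bot_le))).eq.symm
        rw [e]
        exact gen_max V
      · exact absurd (congrArg f.base (((pAt_le_iff.1 h.le)).antisymm (pAt_le_iff.1 h.ge)).eq) hne
  · rintro ⟨hnm, hmid⟩
    refine ⟨isPrime_pAt _ _, fun h => hnm ?_, fun Q hQ hle => ?_⟩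
    · have e : v = genericPoint V.left := ((genericPoint_specializes v).antisymm
        (pAt_le_iff.1 (h.trans_le bot_le))).eq.symm
      rw [e]
      exact gen_max V
    · obtain ⟨q, rfl⟩ := exists_pAt_eq V.left Q (hQ := hQ)
      by_cases he : f.base q = f.base v
      · haveI : LocallyQuasiFinite f := GrothLib.EtBasicB.locallyQuasiFinite_of_unramified f
        right
        rw [GrothLib.EtFibre.eq_of_specializes_of_discrete f q v (pAt_le_iff.1 hle) he]
      · left
        rw [eq_genericPoint (p := q) (hmid _ ((pAt_le_iff.1 hle).map f.continuous) he), pAt_genericPoint]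

variable [IsReduced X]

/-- Germs of the sheaf of divisors come from functions on charts. -/
theorem exists_chart_germ (hd : ∀ (U : X.Etale) (u : U.left), IsDomain (U.left.presheaf.stalk u))
    {Ω : Type u} [Field Ω] [IsSepClosed Ω] (ξ : Spec (CommRingCat.of Ω) ⟶ X) {V : X.Etale}
    (t : (Scheme.pointSmallEtale ξ).fiber.obj V) (p : (EtCoh.stalk ξ).obj (DivSheaf X)) :
    ∃ (W : X.Etale) (_ : IsIntegral W.left) (_ : IsAffine W.left) (g : W ⟶ V)
      (t' : (Scheme.pointSmallEtale ξ).fiber.obj W) (s : EtCoh.sect (Pmax X) W),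
      (Scheme.pointSmallEtale ξ).fiber.map g t' = t ∧
        germ ξ (DivSheaf X) t' ((toDiv X).hom.app (op W) s) = p := by
  haveI : Epi (toDiv X) := inferInstanceAs (Epi (cokernel.π (toMax X)))
  obtain ⟨y, rfl⟩ := (AddCommGrpCat.epi_iff_surjective ((EtCoh.stalk ξ).map (toDiv X))).1 inferInstance p
  obtain ⟨U, t₁, s₁, rfl⟩ := exists_germ ξ _ y
  let a : (Scheme.pointSmallEtale ξ).fiber.Elements := ⟨U, t₁⟩
  let b : (Scheme.pointSmallEtale ξ).fiber.Elements := ⟨V, t⟩
  let m := IsCofiltered.min a b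
  obtain ⟨O, hO, hOA, hOI⟩ := (haveI := hd m.1 (m.2.left.base (default : Spec (CommRingCat.of Ω))); exists_chart m.1 (m.2.left.base (default : Spec (CommRingCat.of Ω))))
  let W := opensObj m.1 O
  obtain ⟨t', ht', -⟩ := GrothLib.EtBasicB.exists_fib_lift ξ (opensHom m.1 O) m.2 (⟨_, hO⟩ : O) rfl
  refine ⟨W, hOI, hOA, opensHom m.1 O ≫ (IsCofiltered.minToRight a b).1, t',
    (Pmax X).obj.map (opensHom m.1 O ≫ (IsCofiltered.minToLeft a b).1).op s₁, ?_, ?_⟩
  · rw [Functor.map_comp, ConcreteCategory.comp_apply, ht']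
    exact (IsCofiltered.minToRight a b).2
  · rw [← stalk_map_germ, germ_map, Functor.map_comp, ConcreteCategory.comp_apply, ht']
    exact congrArg (fun r => (EtCoh.stalk ξ).map (toDiv X) (germ ξ (Pmax X) r s₁)) (IsCofiltered.minToLeft a b).2

/-- Sections of the sheaf of divisors lift on charts. -/
theorem exists_chart_lift (hd : ∀ (U : X.Etale) (u : U.left), IsDomain (U.left.presheaf.stalk u))
    {Ω : Type u} [Field Ω] [IsSepClosed Ω] (ξ : Spec (CommRingCat.of Ω) ⟶ X) {V : X.Etale}
    (t : (Scheme.pointSmallEtale ξ).fiber.obj V) (σ : EtCoh.sect (DivSheaf X) V) :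
    ∃ (W : X.Etale) (_ : IsIntegral W.left) (_ : IsAffine W.left) (g : W ⟶ V)
      (t' : (Scheme.pointSmallEtale ξ).fiber.obj W) (s : EtCoh.sect (Pmax X) W),
      (Scheme.pointSmallEtale ξ).fiber.map g t' = t ∧
        (toDiv X).hom.app (op W) s = (DivSheaf X).obj.map g.op σ := by
  obtain ⟨W₁, _, _, g₁, t₁, s₁, hg₁, hs₁⟩ := exists_chart_germ hd ξ t (germ ξ _ t σ)
  rw [← hg₁, ← germ_map] at hs₁
  obtain ⟨W₂, g₂, t₂, ht₂, he⟩ := (germ_eq_iff ξ _ t₁ _ _).1 hs₁
  obtain ⟨O, hO, hOA, hOI⟩ := (haveI := hd W₂ (t₂.left.base (default : Spec (CommRingCat.of Ω))); exists_chart W₂ (t₂.left.base (default : Spec (CommRingCat.of Ω))))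
  obtain ⟨t', ht', -⟩ := GrothLib.EtBasicB.exists_fib_lift ξ (opensHom W₂ O) t₂ (⟨_, hO⟩ : O) rfl
  refine ⟨opensObj W₂ O, hOI, hOA, (opensHom W₂ O ≫ g₂) ≫ g₁, t',
    (Pmax X).obj.map (opensHom W₂ O ≫ g₂).op s₁, ?_, ?_⟩
  · rw [Functor.map_comp, Functor.map_comp, ConcreteCategory.comp_apply, ConcreteCategory.comp_apply, ht', ht₂, hg₁]
  · refine (NatTrans.naturality_apply (toDiv X).hom (opensHom W₂ O ≫ g₂).op s₁).trans ?_
    simp only [op_comp, Functor.map_comp, ConcreteCategory.comp_apply]
    exact congrArg ((DivSheaf X).obj.map (opensHom W₂ O).op) he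

omit [IsLocallyNoetherian X] [Finite (MaxPts X)] [IsReduced X] in
theorem mem_sectSupp_map (F : EtCoh.Ab X) {W V : X.Etale} (g : W ⟶ V) (σ : EtCoh.sect F V) (w : W.left) :
    w ∈ EtShriek.sectSupp F W (F.obj.map g.op σ) ↔ g.left.base w ∈ EtShriek.sectSupp F V σ := by
  obtain ⟨t, ht⟩ := exists_fib (gpt (W.hom.base w)) (U := W) w (gpt_default _).symm
  suffices key : ∀ w', t.left.base (default : Spec (CommRingCat.of _)) = w' →
      (w' ∈ EtShriek.sectSupp F W (F.obj.map g.op σ) ↔ g.left.base w' ∈ EtShriek.sectSupp F V σ) from key w ht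
  intro w' e
  subst e
  exact (GrothLib.EtBasicB.germ_ne_zero_iff _ F t _).symm.trans
    ((not_congr (Iff.of_eq (congrArg (· = 0) (germ_map _ F g t σ)))).trans
      (GrothLib.EtBasicB.germ_ne_zero_iff _ F ((Scheme.pointSmallEtale _).fiber.map g t) σ))

/-- The divisor of a function is supported exactly where it is not a unit. -/
theorem mem_sectSupp_toDiv (hd : ∀ (U : X.Etale) (u : U.left), IsDomain (U.left.presheaf.stalk u))
    {W : X.Etale} [IsIntegral W.left] [IsAffine W.left] (s : EtCoh.sect (Pmax X) W) (w : W.left) :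
    w ∈ EtShriek.sectSupp (DivSheaf X) W ((toDiv X).hom.app (op W) s) ↔
      ¬ IsUnitAt (evGen W.left) (pAt W.left w) (fnV s) := by
  obtain ⟨t, ht⟩ := exists_fib (gpt (W.hom.base w)) (U := W) w (gpt_default _).symm
  suffices key : ∀ w', t.left.base (default : Spec (CommRingCat.of _)) = w' →
      (w' ∈ EtShriek.sectSupp (DivSheaf X) W ((toDiv X).hom.app (op W) s) ↔
        ¬ IsUnitAt (evGen W.left) (pAt W.left w') (fnV s)) from key w ht
  intro w' e
  subst e
  exact (GrothLib.EtBasicB.germ_ne_zero_iff _ (DivSheaf X) t _).symm.trans <| not_congr ⟨isUnitAt_of_germ_toDiv s hd _ t, germ_toDiv_of_isUnitAt s _ t⟩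

/-- A function which is a unit at the minimal nonzero primes below a point has no divisor there. -/
theorem exists_min_not_isUnitAt (hf : EtFactorial X) {W : X.Etale} [IsIntegral W.left] [IsAffine W.left]
    {f : W.left.residueField (genericPoint W.left)} (hf0 : f ≠ 0) (w : W.left)
    (h : ¬ IsUnitAt (evGen W.left) (pAt W.left w) f) :
    ∃ q : W.left, q ⤳ w ∧ IsMinNonzero (pAt W.left q) ∧ ¬ IsUnitAt (evGen W.left) (pAt W.left q) f := by
  by_contra hno
  push Not at hno
  letI : Algebra (Γ(W.left, ⊤) : Type u) (W.left.presheaf.stalk w) :=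
    TopCat.Presheaf.algebra_section_stalk W.left.presheaf (⟨w, trivial⟩ : (⊤ : W.left.Opens))
  haveI : IsLocalization.AtPrime (W.left.presheaf.stalk w) (pAt W.left w) := isLocalization_pAt W.left w
  haveI := (hf W w).1
  haveI := (hf W w).2
  refine h (isUnitAt_of_forall (pAt W.left w) (W.left.presheaf.stalk w) (evGen_injective W.left)
    (evGen_frac W.left) hf0 fun P hP hle => ?_)
  obtain ⟨q, rfl⟩ := exists_pAt_eq W.left P (hQ := hP.1)
  exact hno q (pAt_le_iff.1 hle) hP

/-- Supports of divisors are generated by points over mid points. -/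
theorem exists_supp_mid (hf : EtFactorial X) {V : X.Etale} (σ : EtCoh.sect (DivSheaf X) V) (v : V.left)
    (hv : v ∈ EtShriek.sectSupp (DivSheaf X) V σ) :
    ∃ (z : V.left) (c : MidPts X), z ⤳ v ∧ V.hom.base z = c.1 ∧ z ∈ EtShriek.sectSupp (DivSheaf X) V σ := by
  obtain ⟨t, ht⟩ := exists_fib (gpt (V.hom.base v)) (U := V) v (gpt_default _).symm
  obtain ⟨W, _, _, g, t', s, hg, hs⟩ := exists_chart_lift hf.dom _ t σ
  let w : W.left := t'.left.base (default : Spec (CommRingCat.of _))
  have hgw : g.left.base w = v := (base_fiber_map _ g t' t hg).trans ht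
  have hw : w ∈ EtShriek.sectSupp (DivSheaf X) W ((toDiv X).hom.app (op W) s) := by
    rw [hs, mem_sectSupp_map]
    exact hgw.symm ▸ hv
  obtain ⟨q, hq, hmin, hnu⟩ := exists_min_not_isUnitAt hf (fnV_ne_zero s) w ((mem_sectSupp_toDiv hf.dom s w).1 hw)
  have e : V.hom.base (g.left.base q) = W.hom.base q := congr($(MorphismProperty.Over.w g).base q)
  refine ⟨g.left.base q, ⟨W.hom.base q, (isMinNonzero_pAt_iff q).1 hmin⟩, hgw ▸ hq.map g.left.continuous, e, ?_⟩
  rw [← mem_sectSupp_map, ← hs, mem_sectSupp_toDiv hf.dom]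
  exact hnu

/-- A point of a support over a mid point is maximal in the support. -/
theorem supp_mid_maximal (hf : EtFactorial X) {V : X.Etale} (σ : EtCoh.sect (DivSheaf X) V) {z q : V.left}
    (c : MidPts X) (hz : V.hom.base z = c.1) (hq : q ∈ EtShriek.sectSupp (DivSheaf X) V σ) (h : q ⤳ z) : q = z := by
  let f : V.left ⟶ X := V.hom
  haveI : Etale f := V.prop
  haveI : LocallyQuasiFinite f := GrothLib.EtBasicB.locallyQuasiFinite_of_unramified f
  obtain ⟨z', c', hz', hc', -⟩ := exists_supp_mid hf σ q hq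
  have h1 : f.base z' ⤳ f.base q := hz'.map f.continuous
  have h2 : f.base q ⤳ c.1 := hz ▸ h.map f.continuous
  by_cases he : f.base q = c.1
  · exact GrothLib.EtFibre.eq_of_specializes_of_discrete f q z h (he.trans hz.symm)
  · exfalso
    have hmax := c.2.2 _ h2 he
    refine c'.2.1 ?_
    rw [show c'.1 = f.base q from hc'.symm.trans (hmax _ h1)]
    exact hmax

/-- The points of a support over mid points are finite in number. -/
theorem finite_supp_mid (hf : EtFactorial X) {V : X.Etale} [IsNoetherian V.left] (σ : EtCoh.sect (DivSheaf X) V) :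
    Set.Finite {z : V.left | z ∈ EtShriek.sectSupp (DivSheaf X) V σ ∧ ∃ c : MidPts X, V.hom.base z = c.1} := by
  let S := EtShriek.sectSupp (DivSheaf X) V σ
  have hS : IsClosed S := GrothLib.EtBasicB.isClosed_sectSupp _ _ _
  obtain ⟨T, hTf, hTc, hTi, hTeq⟩ := TopologicalSpace.NoetherianSpace.exists_finite_set_isClosed_irreducible hS
  have hsub : {z : V.left | z ∈ S ∧ ∃ c : MidPts X, V.hom.base z = c.1} ⊆
      ⋃ t ∈ T, {z | IsGenericPoint z t} := by
    rintro z ⟨hz, c, hc⟩
    have hz' : z ∈ ⋃₀ T := hTeq ▸ hz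
    obtain ⟨t, ht, hzt⟩ := Set.mem_sUnion.1 hz'
    obtain ⟨η, hη⟩ := QuasiSober.sober (hTi t ht) (hTc t ht)
    have hηS : η ∈ S := hTeq.symm ▸ Set.mem_sUnion.2 ⟨t, ht, hη.mem⟩
    exact Set.mem_iUnion₂.2 ⟨t, ht, supp_mid_maximal hf σ c hc hηS (hη.specializes hzt) ▸ hη⟩
  refine Set.Finite.subset (Set.Finite.biUnion hTf fun t _ => ?_) hsub
  exact Set.Subsingleton.finite fun a ha b hb => ha.eq hb

/-- Every nonzero rational function on a chart is the function of a section. -/
theorem exists_sect_fnV (V : X.Etale) [IsIntegral V.left] [IsAffine V.left]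
    {c : V.left.residueField (genericPoint V.left)} (hc : c ≠ 0) :
    ∃ s : EtCoh.sect (Pmax X) V, fnV s = c := by
  let η : MaxPts X := ⟨V.hom.base (genericPoint V.left), gen_max V⟩
  have key : ∀ a : (Γ(V.left, ⊤) : Type u), evGen V.left a ≠ 0 → ∃ s : EtCoh.sect (Pmax X) V, fnV s = evGen V.left a := by
    intro a ha
    let B := ((EtCoh.bc (X.fromSpecResidueField η.1)).obj V).left
    let q : B ⟶ V.left := pullback.fst V.hom (X.fromSpecResidueField η.1)
    have hu : IsUnit (q.appTop.hom a) := by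
      refine AlgebraicGeometry.RingedSpace.isUnit_of_isUnit_germ B.toRingedSpace ⊤ _ fun p hp => ?_
      have hqp : q.base p = genericPoint V.left := eq_genericPoint (by
        have e : q ≫ V.hom = pullback.snd V.hom (X.fromSpecResidueField η.1) ≫ X.fromSpecResidueField η.1 :=
          pullback.condition
        have : V.hom.base (q.base p) = η.1 :=
          (congrArg (fun r => r.base p) e).trans (Scheme.fromSpecResidueField_apply η.1 _)
        rw [this]
        exact η.2)
      have hmem : q.base p ∈ V.left.basicOpen a :=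
        hqp ▸ (V.left.evaluation_ne_zero_iff_mem_basicOpen (U := ⊤) (genericPoint V.left) trivial a).1 ha
      have := (Scheme.preimage_basicOpen_top q a).le hmem
      exact (Scheme.mem_basicOpen B (U := ⊤) _ p trivial).1 this
    let x : EtCoh.sect (GPush η.1) V := (ULift.up (Additive.ofMul hu.unit) :
      ULift.{u + 1} (Additive (Γ(B, ⊤) : Type u)ˣ))
    refine ⟨(biproduct.ι (fun x : MaxPts X => GPush x.1) η).hom.app (op V) x, ?_⟩
    rw [fnV_eq _ η rfl]
    have e := congr($(congrArg (fun r : GPush η.1 ⟶ GPush η.1 => r.hom.app (op V))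
      (biproduct.ι_π_self (fun x : MaxPts X => GPush x.1) η)) x)
    refine (congrArg (fnAt η.1 _ rfl) e).trans ?_
    exact valAt_fst η.1 V (genericPoint V.left) rfl a
  obtain ⟨a, b, hb, e⟩ := evGen_frac V.left c
  obtain ⟨sa, hsa⟩ := key a (e ▸ mul_ne_zero hc hb)
  obtain ⟨sb, hsb⟩ := key b hb
  refine ⟨sa + -sb, ?_⟩
  rw [fnV_add, fnV_neg, hsa, hsb, ← e, mul_assoc, mul_inv_cancel₀ hb, mul_one]

theorem fnV_zsmul {V : X.Etale} [IsIntegral V.left] (n : ℤ) (s : EtCoh.sect (Pmax X) V) :
    fnV (n • s) = fnV s ^ n := by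
  induction n using Int.induction_on with
  | zero => rw [zero_zsmul, fnV_zero, zpow_zero]
  | succ n ih => rw [add_zsmul, one_zsmul, fnV_add, ih, zpow_add_one₀ (fnV_ne_zero s)]
  | pred n ih => rw [sub_zsmul, one_zsmul, sub_eq_add_neg, fnV_add, fnV_neg, ih, zpow_add₀ (fnV_ne_zero s), zpow_neg_one]

/-- The germ of a local generator at a point generates freely. -/
theorem existsUnique_zsmul_germ (hf : EtFactorial X) {V : X.Etale} [IsIntegral V.left] [IsAffine V.left]
    {γ : (Γ(V.left, ⊤) : Type u)} (hγ : γ ≠ 0) (sγ : EtCoh.sect (Pmax X) V) (hs : fnV sγ = evGen V.left γ)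
    {Ω : Type u} [Field Ω] [IsSepClosed Ω] (ξ : Spec (CommRingCat.of Ω) ⟶ X)
    (t : (Scheme.pointSmallEtale ξ).fiber.obj V)
    (hgen : IsLocalRing.maximalIdeal (V.left.presheaf.stalk (t.left.base (default : Spec (CommRingCat.of Ω)))) =
      Ideal.span {(V.left.presheaf.germ ⊤ (t.left.base (default : Spec (CommRingCat.of Ω))) trivial).hom γ})
    (p : (EtCoh.stalk ξ).obj (DivSheaf X)) :
    ∃! n : ℤ, n • germ ξ (DivSheaf X) t ((toDiv X).hom.app (op V) sγ) = p := by
  have hn : ∀ n : ℤ, n • germ ξ (DivSheaf X) t ((toDiv X).hom.app (op V) sγ) =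
      germ ξ (DivSheaf X) t ((toDiv X).hom.app (op V) (n • sγ)) := fun n =>
    ((congrArg (germ ξ (DivSheaf X) t) (map_zsmul ((toDiv X).hom.app (op V)).hom n sγ)).trans
      (map_zsmul (germ ξ (DivSheaf X) t).hom n _)).symm
  refine existsUnique_of_exists_of_unique ?_ fun n₁ n₂ h₁ h₂ => ?_
  · obtain ⟨W, _, _, g, t', s, hg, hsp⟩ := exists_chart_germ hf.dom ξ t p
    let w : W.left := t'.left.base (default : Spec (CommRingCat.of Ω))
    have hgw : g.left.base w = t.left.base (default : Spec (CommRingCat.of Ω)) := base_fiber_map ξ g t' t hg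
    haveI := GrothLib.ConnFibres.etale_left g
    have hgenW : IsLocalRing.maximalIdeal (W.left.presheaf.stalk w) =
        Ideal.span {(W.left.presheaf.germ ⊤ w trivial).hom (g.left.appTop.hom γ)} := by
      have h1 : IsLocalRing.maximalIdeal (V.left.presheaf.stalk (g.left.base w)) =
          Ideal.span {(V.left.presheaf.germ ⊤ (g.left.base w) trivial).hom γ} := by
        suffices key : ∀ v', t.left.base (default : Spec (CommRingCat.of Ω)) = v' →
            IsLocalRing.maximalIdeal (V.left.presheaf.stalk v') =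
              Ideal.span {(V.left.presheaf.germ ⊤ v' trivial).hom γ} from key _ hgw.symm
        intro v' e
        subst e
        exact hgen
      refine (GrothLib.Weight.map_maximalIdeal_stalkMap g.left w).symm.trans ?_
      rw [h1, Ideal.map_span, Set.image_singleton]
      exact congrArg (fun a => Ideal.span {a}) (g.left.germ_stalkMap_apply ⊤ w trivial γ)
    obtain ⟨hmem, hdec⟩ := gen_of_span w hgenW
    have hγW : g.left.appTop.hom γ ≠ 0 := fun h0 => by
      have h2 := rmap_evGen g γ
      rw [h0, map_zero, map_eq_zero] at h2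
      exact hγ (evGen_injective V.left (h2.trans (map_zero (evGen V.left)).symm))
    haveI : IsNoetherianRing (Γ(W.left, ⊤) : Type u) := by
      let f : W.left ⟶ X := W.hom
      haveI : Etale f := W.prop
      haveI : IsLocallyNoetherian W.left := LocallyOfFiniteType.isLocallyNoetherian f
      exact IsLocallyNoetherian.component_noetherian ⟨⊤, isAffineOpen_top W.left⟩
    obtain ⟨n, hu⟩ := exists_zpow (evGen_injective W.left) (evGen_frac W.left) hmem hγW hdec (fnV_ne_zero s)
    refine ⟨n, ?_⟩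
    rw [hn, ← hg, ← germ_map, ← hsp, ← sub_eq_zero, ← map_sub]
    refine Eq.trans ?_ (germ_toDiv_of_isUnitAt (-(s + -(Pmax X).obj.map g.op (n • sγ))) ξ t' ?_)
    · refine congrArg (germ ξ (DivSheaf X) t') ?_
      rw [map_neg, map_add, map_neg]
      erw [← NatTrans.naturality_apply (toDiv X).hom g.op (n • sγ)]
      abel
    · rw [fnV_neg, fnV_add, fnV_neg, fnV_map, fnV_zsmul, hs, map_zpow₀, rmap_evGen]
      exact hu.inv (evGen_injective W.left)
  · obtain ⟨hmem, -⟩ := gen_of_span _ hgen
    refine sub_eq_zero.1 (eq_zero_of_isUnitAt_zpow (evGen_injective V.left) hmem (n := n₁ - n₂) ?_)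
    rw [← hs, ← fnV_zsmul]
    refine isUnitAt_of_germ_toDiv _ hf.dom ξ t ?_
    rw [← hn, sub_zsmul, h₁, h₂, add_neg_cancel]

end GrothLib.GalCd
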