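import Groth.Agent.Lib.EtTrace21.H1Field
import Groth.Agent.Lib.EtTrace21.Torsion
import Groth.Agent.Lib.GalCd.Split
import Groth.Prelude.Def_EtGm
import Mathlib.RingTheory.Trace.Basic
import Mathlib.FieldTheory.Galois.Basic

/-!
# The additive group has no higher cohomology on a field
-/

set_option autoImplicit false
set_option backward.isDefEq.respectTransparency false
set_option backward.isDefEq.respectTransparency.types false
set_option linter.style.haveILetI false

universe u

open CategoryTheory CategoryTheory.Limits CategoryTheory.Abelian AlgebraicGeometry Opposite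
open GrothLib.EtSite GrothLib.EtColim GrothLib.EtTrace21

noncomputable section

namespace GrothLib.GalCd

variable {k L : Type u} [Field k] [Field L] [Algebra k L] [FiniteDimensional k L] [IsGalois k L]

local notation "S" => Spec (CommRingCat.of k)

/-- `V ×_k L` over `k`. -/
abbrev WV (V : (Spec (CommRingCat.of k)).Etale) [Etale (specMap k L)] : (Spec (CommRingCat.of k)).Etale :=
  (EtShriek.compEtale (specMap k L)).obj ((EtCoh.bc (specMap k L)).obj V)

variable [Etale (specMap k L)]

/-- The projection to `L`. -/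
def prL (V : (Spec (CommRingCat.of k)).Etale) : WV (L := L) V ⟶ VL k L :=
  MorphismProperty.Over.homMk (pullback.snd V.hom (specMap k L)) rfl

/-- The Galois action on `V ×_k L`. -/
def gmap (V : (Spec (CommRingCat.of k)).Etale) (σ : L ≃ₐ[k] L) : WV (L := L) V ⟶ WV (L := L) V :=
  MorphismProperty.Over.homMk
    (pullback.lift (pullback.fst V.hom (specMap k L)) (pullback.snd V.hom (specMap k L) ≫ (galMap σ).left) (by
      rw [Category.assoc]
      exact pullback.condition.trans (congrArg (pullback.snd V.hom (specMap k L) ≫ ·)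
        (MorphismProperty.Over.w (galMap σ)).symm))) (by
      change pullback.lift _ _ _ ≫ pullback.snd V.hom (specMap k L) ≫ specMap k L = pullback.snd _ _ ≫ specMap k L
      rw [pullback.lift_snd_assoc, Category.assoc]
      exact congrArg (pullback.snd V.hom (specMap k L) ≫ ·) (MorphismProperty.Over.w (galMap σ)))

theorem gmap_proj (V : (Spec (CommRingCat.of k)).Etale) (σ : L ≃ₐ[k] L) :
    gmap V σ ≫ proj (specMap k L) V = proj (specMap k L) V :=
  MorphismProperty.Over.Hom.ext (pullback.lift_fst _ _ _)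

theorem gmap_prL (V : (Spec (CommRingCat.of k)).Etale) (σ : L ≃ₐ[k] L) :
    gmap V σ ≫ prL V = prL V ≫ galMap σ :=
  MorphismProperty.Over.Hom.ext (pullback.lift_snd _ _ _)

theorem gmap_mul (V : (Spec (CommRingCat.of k)).Etale) (σ τ : L ≃ₐ[k] L) :
    gmap V (σ * τ) = gmap V σ ≫ gmap V τ := by
  refine MorphismProperty.Over.Hom.ext (pullback.hom_ext ?_ ?_)
  · change pullback.lift _ _ _ ≫ _ = (pullback.lift _ _ _ ≫ pullback.lift _ _ _) ≫ _
    simp only [Category.assoc, pullback.lift_fst]
  · change pullback.lift _ _ _ ≫ _ = (pullback.lift _ _ _ ≫ pullback.lift _ _ _) ≫ _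
    simp only [Category.assoc, pullback.lift_snd, pullback.lift_snd_assoc]
    rw [galMap_mul]
    rfl

theorem gmap_natural {V V' : (Spec (CommRingCat.of k)).Etale} (g : V' ⟶ V) (σ : L ≃ₐ[k] L) :
    gmap V' σ ≫ (EtShriek.compEtale (specMap k L)).map ((EtCoh.bc (specMap k L)).map g) =
      (EtShriek.compEtale (specMap k L)).map ((EtCoh.bc (specMap k L)).map g) ≫ gmap V σ := by
  refine MorphismProperty.Over.Hom.ext (pullback.hom_ext ?_ ?_)
  · change (pullback.lift _ _ _ ≫ pullback.lift _ _ _) ≫ _ = (pullback.lift _ _ _ ≫ pullback.lift _ _ _) ≫ _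
    simp only [Category.assoc, pullback.lift_fst, pullback.lift_fst_assoc]
  · change (pullback.lift _ _ _ ≫ pullback.lift _ _ _) ≫ _ = (pullback.lift _ _ _ ≫ pullback.lift _ _ _) ≫ _
    simp only [Category.assoc, pullback.lift_snd, pullback.lift_snd_assoc]

theorem prL_natural {V V' : (Spec (CommRingCat.of k)).Etale} (g : V' ⟶ V) :
    (EtShriek.compEtale (specMap k L)).map ((EtCoh.bc (specMap k L)).map g) ≫ prL V = prL (L := L) V' :=
  MorphismProperty.Over.Hom.ext (pullback.lift_snd _ _ _)

theorem surjective_proj (V : (Spec (CommRingCat.of k)).Etale) :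
    Function.Surjective (proj (specMap k L) V).left.base := fun v => by
  obtain ⟨z, hz, -⟩ := Scheme.Pullback.exists_preimage_pullback (f := V.hom) (g := specMap k L) v
    (show ↥(Spec (CommRingCat.of L)) from (default : PrimeSpectrum L)) (Subsingleton.elim (α := PrimeSpectrum k) _ _)
  exact ⟨z, hz⟩

theorem exists_gmap_fib (V : (Spec (CommRingCat.of k)).Etale) {Ω : Type u} [Field Ω] [IsAlgClosed Ω]
    (ξ : Spec (CommRingCat.of Ω) ⟶ Spec (CommRingCat.of k))
    (t₁ t₂ : (Scheme.pointSmallEtale ξ).fiber.obj (WV (L := L) V))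
    (h : (Scheme.pointSmallEtale ξ).fiber.map (proj (specMap k L) V) t₁ =
      (Scheme.pointSmallEtale ξ).fiber.map (proj (specMap k L) V) t₂) :
    ∃ σ, (Scheme.pointSmallEtale ξ).fiber.map (gmap V σ) t₁ = t₂ := by
  obtain ⟨σ, hσ⟩ := exists_galMap_fib ξ ((Scheme.pointSmallEtale ξ).fiber.map (prL V) t₁)
    ((Scheme.pointSmallEtale ξ).fiber.map (prL V) t₂)
  refine ⟨σ, Over.OverMorphism.ext (pullback.hom_ext ?_ ?_)⟩
  · change (t₁.left ≫ (gmap V σ).left) ≫ _ = _
    rw [Category.assoc]
    change t₁.left ≫ pullback.lift _ _ _ ≫ pullback.fst _ _ = _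
    rw [pullback.lift_fst]
    exact congrArg (fun r : (Scheme.pointSmallEtale ξ).fiber.obj V => r.left) h
  · change (t₁.left ≫ (gmap V σ).left) ≫ _ = _
    rw [Category.assoc]
    change t₁.left ≫ pullback.lift _ _ _ ≫ pullback.snd _ _ = _
    rw [pullback.lift_snd, ← Category.assoc]
    exact congrArg (fun r : (Scheme.pointSmallEtale ξ).fiber.obj (VL k L) => r.left) hσ

/-- Pullback of functions along a map of etale schemes. -/
abbrev res {V W : (Spec (CommRingCat.of k)).Etale} (f : W ⟶ V) : Γ(V.left, ⊤) →+* Γ(W.left, ⊤) :=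
  f.left.appTop.hom

theorem res_comp {U V W : (Spec (CommRingCat.of k)).Etale} (f : W ⟶ V) (g : V ⟶ U) (a : Γ(U.left, ⊤)) :
    res (f ≫ g) a = res f (res g a) := by
  change (f.left ≫ g.left).appTop a = _
  rw [Scheme.Hom.comp_appTop]
  rfl

variable (θ : L)

/-- The element `θ` on `V ×_k L`. -/
def θV (V : (Spec (CommRingCat.of k)).Etale) : Γ((WV (L := L) V).left, ⊤) :=
  res (prL V) ((Scheme.ΓSpecIso (CommRingCat.of L)).inv.hom θ : Γ(Spec (CommRingCat.of L), ⊤))

/-- The averaged function. -/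
def avg (V : (Spec (CommRingCat.of k)).Etale) (a : Γ((WV (L := L) V).left, ⊤)) : Γ((WV (L := L) V).left, ⊤) :=
  ∑ σ : L ≃ₐ[k] L, res (gmap V σ) (θV θ V * a)

theorem existsUnique_avg (V : (Spec (CommRingCat.of k)).Etale) (a : Γ((WV (L := L) V).left, ⊤)) :
    ∃! z : Γ(V.left, ⊤), res (proj (specMap k L) V) z = avg θ V a := by
  have hinv : ∀ τ, res (gmap V τ) (avg θ V a) = avg θ V a := fun τ => by
    rw [avg, map_sum]
    refine Fintype.sum_equiv (Equiv.mulLeft τ) _ _ fun σ => ?_
    rw [Equiv.coe_mulLeft, gmap_mul, res_comp]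
  let z₁ : EtCoh.sect (EtCoh.Ga S) (WV (L := L) V) := (ULift.up (avg θ V a) : ULift.{u + 1} Γ((WV (L := L) V).left, ⊤))
  have hu : Function.Injective (res (proj (specMap k L) V)) := fun b c h => by
    have e : (ULift.up b : ULift.{u + 1} Γ(V.left, ⊤)) = ULift.up c :=
      GrothLib.GalCd.injective_map_of_surjective (EtCoh.Ga S) (proj (specMap k L) V) (surjective_proj V)
        (show (EtCoh.Ga S).obj.map (proj (specMap k L) V).op (ULift.up b : ULift.{u + 1} Γ(V.left, ⊤)) =
          (EtCoh.Ga S).obj.map (proj (specMap k L) V).op (ULift.up c : ULift.{u + 1} Γ(V.left, ⊤)) from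
          congrArg ULift.up h)
    exact congrArg ULift.down e
  obtain ⟨w, hw⟩ : ∃ w, (EtCoh.Ga S).obj.map (proj (specMap k L) V).op w = z₁ := by
    refine (GrothLib.EtShriek.exists_glue (EtCoh.Ga S) V (fun _ : PUnit.{1} => WV (L := L) V)
      (fun _ => proj (specMap k L) V) ?_ (fun _ => z₁) ?_).imp fun w hw => hw PUnit.unit
    · intro x
      obtain ⟨y, hy⟩ := surjective_proj (L := L) V x
      exact ⟨PUnit.unit, y, hy⟩
    · intro i j Z p q hpq
      refine sub_eq_zero.1 (section_eq_zero_of_germsAC _ _ _ fun Ω _ _ ξ t => ?_)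
      obtain ⟨σ, hσ⟩ := exists_gmap_fib V ξ ((Scheme.pointSmallEtale ξ).fiber.map p t)
        ((Scheme.pointSmallEtale ξ).fiber.map q t) (by
          change ((Scheme.pointSmallEtale ξ).fiber.map p ≫ (Scheme.pointSmallEtale ξ).fiber.map _) t =
            ((Scheme.pointSmallEtale ξ).fiber.map q ≫ (Scheme.pointSmallEtale ξ).fiber.map _) t
          rw [← Functor.map_comp, ← Functor.map_comp, hpq])
      rw [map_sub, sub_eq_zero, germ_map, germ_map, ← hσ, ← germ_map ξ _ (gmap V σ)]
      exact congrArg _ (ULift.ext _ _ (hinv σ).symm)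
  exact ⟨ULift.down (show ULift.{u + 1} Γ(V.left, ⊤) from w), congrArg ULift.down hw,
    fun y hy => hu (hy.trans (congrArg ULift.down hw).symm)⟩

/-- The descended average. -/
def trVal (V : (Spec (CommRingCat.of k)).Etale) (a : Γ((WV (L := L) V).left, ⊤)) : Γ(V.left, ⊤) :=
  (existsUnique_avg θ V a).choose

theorem trVal_spec (V : (Spec (CommRingCat.of k)).Etale) (a : Γ((WV (L := L) V).left, ⊤)) :
    res (proj (specMap k L) V) (trVal θ V a) = avg θ V a := (existsUnique_avg θ V a).choose_spec.1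

theorem trVal_unique (V : (Spec (CommRingCat.of k)).Etale) (a : Γ((WV (L := L) V).left, ⊤)) (z : Γ(V.left, ⊤))
    (h : res (proj (specMap k L) V) z = avg θ V a) : trVal θ V a = z :=
  ((existsUnique_avg θ V a).choose_spec.2 z h).symm

theorem trVal_add (V : (Spec (CommRingCat.of k)).Etale) (a b : Γ((WV (L := L) V).left, ⊤)) :
    trVal θ V (a + b) = trVal θ V a + trVal θ V b :=
  trVal_unique θ V _ _ (by
    rw [map_add, trVal_spec, trVal_spec]
    simp only [avg, mul_add, map_add, Finset.sum_add_distrib])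

/-- A retraction of the unit on the additive group. -/
def retr [EtShriek.JCont (specMap k L)] :
    (EtCoh.push (specMap k L)).obj ((EtShriek.restrAlong (specMap k L)).obj (EtCoh.Ga S)) ⟶ EtCoh.Ga S :=
  ⟨{ app := fun V => AddCommGrpCat.ofHom (AddMonoidHom.mk'
        (fun a : ULift.{u + 1} Γ((WV (L := L) V.unop).left, ⊤) =>
          (ULift.up (trVal θ V.unop a.down) : ULift.{u + 1} Γ(V.unop.left, ⊤)))
        (fun a b => ULift.ext _ _ (trVal_add θ V.unop a.down b.down)))
     naturality := fun V V' g => by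
      ext ⟨a⟩
      refine ULift.ext _ _ (trVal_unique θ V'.unop _ (res g.unop (trVal θ V.unop a)) ?_)
      rw [← res_comp]
      erw [← proj_naturality (specMap k L) g.unop]
      rw [res_comp, trVal_spec, avg, map_sum, avg]
      refine Finset.sum_congr rfl fun σ _ => ?_
      rw [← res_comp, ← gmap_natural, res_comp, map_mul, θV, ← res_comp _ (prL V.unop), prL_natural]
      rfl }⟩

theorem sum_gal_θV (hθ : Algebra.trace k L θ = 1) (V : (Spec (CommRingCat.of k)).Etale) :
    ∑ σ : L ≃ₐ[k] L, res (gmap V σ) (θV θ V) = 1 := by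
  have h : ∀ σ, res (gmap V σ) (θV θ V) =
      res (prL V) ((Scheme.ΓSpecIso (CommRingCat.of L)).inv.hom (σ θ) : Γ(Spec (CommRingCat.of L), ⊤)) := fun σ => by
    rw [θV, ← res_comp, gmap_prL, res_comp]
    exact congrArg (res (prL V)) (congr($(Scheme.ΓSpecIso_inv_naturality
      (CommRingCat.ofHom (σ : L →+* L))) θ)).symm
  simp_rw [h]
  rw [← map_sum]
  erw [← map_sum (Scheme.ΓSpecIso (CommRingCat.of L)).inv.hom]
  rw [← trace_eq_sum_automorphisms, hθ, map_one]
  exact (congrArg _ (map_one _)).trans (map_one _)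

theorem unit_retr [EtShriek.JCont (specMap k L)] (hθ : Algebra.trace k L θ = 1) :
    unitPush (specMap k L) (EtCoh.Ga S) ≫ retr θ = 𝟙 (EtCoh.Ga S) := by
  refine ObjectProperty.hom_ext _ (NatTrans.ext (funext fun V => AddCommGrpCat.hom_ext (AddMonoidHom.ext fun s => ?_)))
  refine ULift.ext _ _ (trVal_unique θ V.unop _ _ ?_)
  change res (proj (specMap k L) V.unop) (ULift.down (show ULift.{u + 1} Γ(V.unop.left, ⊤) from s)) =
    avg θ V.unop (res (proj (specMap k L) V.unop) (ULift.down (show ULift.{u + 1} Γ(V.unop.left, ⊤) from s)))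
  rw [avg]
  simp_rw [map_mul, ← res_comp, gmap_proj]
  rw [← Finset.sum_mul, sum_gal_θV θ hθ, one_mul]

/-- The additive group has no cohomology of positive degree on a field. -/
theorem H_Ga_eq_zero (k : Type u) [Field k] (q : ℕ)
    (x : EtCoh.H (Spec (CommRingCat.of k)) (EtCoh.Ga (Spec (CommRingCat.of k))) (q + 1)) : x = 0 := by
  obtain ⟨T, hT, h⟩ := exists_etale_kill _ q x
  obtain ⟨ι, K, _, _, _, _, e, he⟩ := (GrothLib.EtBasicB.etale_of_field_iff k T.left T.hom).1 T.prop
  obtain ⟨t, -⟩ := hT.surj (show ↥(Spec (CommRingCat.of k)) from (default : PrimeSpectrum k))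
  obtain ⟨i, -⟩ := (sigmaOpenCover fun i => Spec (CommRingCat.of (K i))).exists_eq (e.inv t)
  let j₀ : K i →ₐ[k] SeparableClosure k := IsSepClosed.lift
  let L : Type u := IntermediateField.normalClosure k (K i) (SeparableClosure k)
  let j₁ : K i →ₐ[k] L := j₀.codRestrict _ fun x => j₀.fieldRange_le_normalClosure ⟨x, rfl⟩
  let j := specMap k L
  haveI := etale_specMap k L
  haveI := isFinite_specMap k L
  haveI := GrothLib.Constructible.jcont j
  haveI := GrothLib.EtDer.pullFL j
  have h0 := h j (Spec.map (CommRingCat.ofHom j₁.toRingHom) ≫ Sigma.ι (fun i => Spec (CommRingCat.of (K i))) i ≫ e.hom) (by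
    rw [Category.assoc, Category.assoc, he i, ← Spec.map_comp, ← CommRingCat.ofHom_comp]
    exact congrArg (fun f => Spec.map (CommRingCat.ofHom f)) j₁.comp_algebraMap)
  let G := (EtShriek.restrAlong j).obj (EtCoh.Ga (Spec (CommRingCat.of k)))
  let y : EtCoh.H (Spec (CommRingCat.of k)) ((EtCoh.push j).obj G) (q + 1) :=
    Ext.comp x (Ext.mk₀ (unitPush j _)) (add_zero (q + 1))
  have hy : y = 0 := by
    refine (Groth.Agent.S14451.result j G (fun r hr => isZero_Rpush_of_integral j G r hr) (q + 1)).1 ?_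
    rw [map_zero]
    have e' : EtCore.Hpull j ((EtCoh.push j).obj G) (q + 1) y =
        Ext.comp (EtCore.Hpull j _ (q + 1) x) (Ext.mk₀ ((EtCoh.pull j).map (unitPush j _))) (add_zero (q + 1)) := by
      rw [GrothLib.EtDer.MV.Hpull_apply, GrothLib.EtDer.MV.Hpull_apply]
      simp [y, Ext.mapExactFunctor_comp, Ext.mapExactFunctor_mk₀, Ext.comp_assoc_of_third_deg_zero]
    change ((EtCoh.HF _ (q + 1)).map _).hom (EtCore.Hpull j _ (q + 1) y) = 0
    rw [e', h0, Ext.zero_comp, map_zero]
  obtain ⟨θ, hθ⟩ := Algebra.trace_surjective k L 1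
  have e2 : x = Ext.comp y (Ext.mk₀ (retr θ)) (add_zero (q + 1)) := by
    rw [Ext.comp_assoc_of_third_deg_zero, Ext.mk₀_comp_mk₀, unit_retr θ hθ, Ext.comp_mk₀_id]
  rw [e2, hy, Ext.zero_comp]

end GrothLib.GalCd
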