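import Groth.Agent.Lib.GalCd.GmMax

/-!
# Values of sections of the multiplicative group of a maximal point
-/

set_option autoImplicit false
set_option backward.isDefEq.respectTransparency false
set_option backward.isDefEq.respectTransparency.types false
set_option linter.style.haveILetI false

universe u

open CategoryTheory CategoryTheory.Limits AlgebraicGeometry Opposite
open GrothLib.EtSite GrothLib.EtTrace21

noncomputable section

namespace GrothLib.GalCd

variable {X : Scheme.{u}} (x : X)

/-- The multiplicative group of the point `x`, pushed to `X`. -/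
abbrev GPush : EtCoh.Ab X := (EtCoh.push (X.fromSpecResidueField x)).obj (EtCoh.Gm (Spec (X.residueField x)))

/-- Evaluation of functions of the fibre over `x` at a point over `x`. -/
def valAt (V : X.Etale) (v : V.left) (hv : V.hom.base v = x) :
    (Γ(((EtCoh.bc (X.fromSpecResidueField x)).obj V).left, ⊤) : Type u) →+* V.left.residueField v :=
  ((fibrePt x V v hv).appTop ≫ (Scheme.ΓSpecIso (V.left.residueField v)).hom).hom

theorem valAt_fst (V : X.Etale) (v : V.left) (hv : V.hom.base v = x) (a : (Γ(V.left, ⊤) : Type u)) :
    valAt x V v hv ((pullback.fst V.hom (X.fromSpecResidueField x)).appTop.hom a) =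
      (V.left.evaluation ⊤ v trivial).hom a := by
  have e : fibrePt x V v hv ≫ pullback.fst V.hom (X.fromSpecResidueField x) = V.left.fromSpecResidueField v :=
    pullback.lift_fst _ _ _
  change (Scheme.ΓSpecIso _).hom.hom ((fibrePt x V v hv).appTop.hom _) = _
  refine (congrArg (Scheme.ΓSpecIso _).hom.hom
    ((congr($((Scheme.Hom.comp_appTop (fibrePt x V v hv) (pullback.fst V.hom (X.fromSpecResidueField x))).symm) a)).trans
      (congrArg (fun r : _ ⟶ V.left => r.appTop.hom a) e))).trans ?_
  rw [Scheme.fromSpecResidueField, Scheme.Hom.comp_appTop, CommRingCat.comp_apply]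
  refine (congr($(Scheme.ΓSpecIso_naturality (V.left.residue v)) _)).trans ?_
  change (V.left.residue v).hom _ = (V.left.residue v).hom _
  refine congrArg (V.left.residue v).hom ?_
  rw [Scheme.fromSpecStalk_appTop]
  simp only [CommRingCat.comp_apply]
  exact congr($((Scheme.ΓSpecIso (V.left.presheaf.stalk v)).inv_hom_id) _)

theorem residueFieldMap_tri {A B C : Scheme.{u}} (g : A ⟶ B) (f : B ⟶ C) (h : A ⟶ C) (e : g ≫ f = h) (a : A) (c : C)
    (h₁ : f.base (g.base a) = c) (h₂ : h.base a = c) :
    (C.residueFieldCongr h₂).inv ≫ h.residueFieldMap a =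
      ((C.residueFieldCongr h₁).inv ≫ f.residueFieldMap (g.base a)) ≫ g.residueFieldMap a := by
  subst e
  subst h₁
  simp [Scheme.residueFieldCongr_refl, Scheme.residueFieldMap_comp]

theorem valAt_map {W V : X.Etale} (g : W ⟶ V) (w : W.left) (hw : W.hom.base w = x)
    (hv : V.hom.base (g.left.base w) = x)
    (c : (Γ(((EtCoh.bc (X.fromSpecResidueField x)).obj V).left, ⊤) : Type u)) :
    valAt x W w hw (((EtCoh.bc (X.fromSpecResidueField x)).map g).left.appTop.hom c) =
      (g.left.residueFieldMap w).hom (valAt x V (g.left.base w) hv c) := by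
  have e2 : fibrePt x W w hw ≫ ((EtCoh.bc (X.fromSpecResidueField x)).map g).left =
      Spec.map (g.left.residueFieldMap w) ≫ fibrePt x V (g.left.base w) hv := by
    refine pullback.hom_ext ?_ ?_
    · rw [Category.assoc, Category.assoc]
      erw [(EtCoh.isPullback_bc_map (X.fromSpecResidueField x) g).w, pullback.lift_fst, pullback.lift_fst_assoc]
      exact (Scheme.Hom.SpecMap_residueFieldMap_fromSpecResidueField g.left w).symm
    · rw [Category.assoc, Category.assoc]
      erw [MorphismProperty.Over.w ((EtCoh.bc (X.fromSpecResidueField x)).map g), pullback.lift_snd, pullback.lift_snd]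
      rw [← Spec.map_comp]
      congr 1
      exact residueFieldMap_tri g.left V.hom W.hom (MorphismProperty.Over.w g) w x hv hw
  change (Scheme.ΓSpecIso _).hom.hom ((fibrePt x W w hw).appTop.hom _) = _
  refine (congrArg (Scheme.ΓSpecIso _).hom.hom
    ((congr($((Scheme.Hom.comp_appTop (fibrePt x W w hw) _).symm) c)).trans
      ((congrArg (fun r : _ ⟶ ((EtCoh.bc (X.fromSpecResidueField x)).obj V).left => r.appTop.hom c) e2).trans
        (congr($(Scheme.Hom.comp_appTop (Spec.map (g.left.residueFieldMap w)) (fibrePt x V (g.left.base w) hv)) c))))).trans ?_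
  exact congr($(Scheme.ΓSpecIso_naturality (g.left.residueFieldMap w)) _)

theorem valAt_injective [IsReduced X] [IsLocallyNoetherian X] (V : X.Etale) (v : V.left) (hv : V.hom.base v = x)
    (hsub : ∀ p : V.left, V.hom.base p = x → p = v) : Function.Injective (valAt x V v hv) := by
  let W := ((EtCoh.bc (X.fromSpecResidueField x)).obj V).left
  let q : W ⟶ V.left := pullback.fst V.hom (X.fromSpecResidueField x)
  let sn : W ⟶ Spec (X.residueField x) := pullback.snd V.hom (X.fromSpecResidueField x)
  haveI : Subsingleton W := ⟨fun a a' => by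
    have hpt : ∀ a : W, q.base a = v := fun a => by
      refine hsub _ ?_
      have e : q ≫ V.hom = sn ≫ X.fromSpecResidueField x := pullback.condition
      exact (congrArg (fun r => r.base a) e).trans (Scheme.fromSpecResidueField_apply x _)
    haveI : IsPreimmersion (X.fromSpecResidueField x) := by dsimp only [Scheme.fromSpecResidueField]; infer_instance
    haveI : IsPreimmersion q := MorphismProperty.pullback_fst (P := @IsPreimmersion) _ _ inferInstance
    exact q.isEmbedding.injective ((hpt a).trans (hpt a').symm)⟩
  haveI : Nonempty W := ⟨(fibrePt x V v hv).base (default : Spec (V.left.residueField v))⟩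
  haveI : IsReduced W := by
    haveI : Etale sn := ((EtCoh.bc (X.fromSpecResidueField x)).obj V).prop
    exact isReduced_of_etale sn
  haveI : IrreducibleSpace W :=
    { isPreirreducible_univ := Set.subsingleton_univ.isPreirreducible, toNonempty := inferInstance }
  haveI : IsIntegral W := (isIntegral_iff_irreducibleSpace_and_isReduced W).2 ⟨inferInstance, inferInstance⟩
  letI := (isField_of_isIntegral_of_subsingleton W).toField
  exact (valAt x V v hv).injective

/-- The value at `v` of a section of the pushed multiplicative group. -/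
def fnAt {V : X.Etale} (v : V.left) (hv : V.hom.base v = x) (s : EtCoh.sect (GPush x) V) : V.left.residueField v :=
  valAt x V v hv ((Additive.toMul (ULift.down (show ULift.{u + 1} (Additive
    (Γ(((EtCoh.bc (X.fromSpecResidueField x)).obj V).left, ⊤) : Type u)ˣ) from s))).val)

theorem fnAt_ne_zero {V : X.Etale} (v : V.left) (hv : V.hom.base v = x) (s : EtCoh.sect (GPush x) V) :
    fnAt x v hv s ≠ 0 :=
  (IsUnit.map (valAt x V v hv) (Units.isUnit _)).ne_zero

theorem fnAt_add {V : X.Etale} (v : V.left) (hv : V.hom.base v = x) (s t : EtCoh.sect (GPush x) V) :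
    fnAt x v hv (s + t) = fnAt x v hv s * fnAt x v hv t :=
  map_mul (valAt x V v hv) _ _

theorem fnAt_GmPush {V : X.Etale} (v : V.left) (hv : V.hom.base v = x)
    (u : (Γ(V.left, ⊤) : Type u)ˣ) :
    fnAt x v hv ((EtLim.GmPush (X.fromSpecResidueField x)).hom.app (op V)
      (show EtCoh.sect (EtCoh.Gm X) V from (ULift.up (Additive.ofMul u) :
        ULift.{u + 1} (Additive (Γ(V.left, ⊤) : Type u)ˣ)))) = (V.left.evaluation ⊤ v trivial).hom u :=
  valAt_fst x V v hv u

theorem fnAt_map {W V : X.Etale} (g : W ⟶ V) (w : W.left) (hw : W.hom.base w = x)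
    (hv : V.hom.base (g.left.base w) = x) (s : EtCoh.sect (GPush x) V) :
    fnAt x w hw ((GPush x).obj.map g.op s) = (g.left.residueFieldMap w).hom (fnAt x (g.left.base w) hv s) :=
  valAt_map x g w hw hv _

theorem fnAt_injective [IsReduced X] [IsLocallyNoetherian X] {V : X.Etale} (v : V.left) (hv : V.hom.base v = x)
    (hsub : ∀ p : V.left, V.hom.base p = x → p = v) : Function.Injective (fnAt x v hv) := fun _ _ h =>
  ULift.ext _ _ (Additive.toMul.injective (Units.ext (valAt_injective x V v hv hsub h)))

theorem subsingleton_sect_GPush (V : X.Etale) (h : ∀ p : V.left, V.hom.base p ≠ x) :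
    Subsingleton (EtCoh.sect (GPush x) V) := by
  haveI : IsEmpty ((EtCoh.bc (X.fromSpecResidueField x)).obj V).left := ⟨fun p => by
    let p : ↥(pullback V.hom (X.fromSpecResidueField x)) := p
    refine h (pullback.fst V.hom (X.fromSpecResidueField x) p) ?_
    rw [← Scheme.Hom.comp_apply, pullback.condition, Scheme.Hom.comp_apply]
    exact Scheme.fromSpecResidueField_apply x _⟩
  exact subsingleton_sect_of_isEmpty (EtCoh.Gm (Spec (X.residueField x))) _

end GrothLib.GalCd
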