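import Groth.Agent.Lib.GalCd.Split
import Groth.Agent.Lib.Constructible.FinEtalePush
import Mathlib.Algebra.FreeAbelianGroup.Finsupp

/-!
# Cohomology of sheaves killed by a prime: dimension shifting and finite subsheaves
-/

set_option autoImplicit false
set_option backward.isDefEq.respectTransparency false
set_option backward.isDefEq.respectTransparency.types false
set_option linter.style.haveILetI false

universe u

open CategoryTheory CategoryTheory.Limits CategoryTheory.Abelian AlgebraicGeometry Opposite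
open GrothLib.EtSite GrothLib.EtColim GrothLib.EtTrace21 GrothLib.EtLimit GrothLib.SheafCoh
open GrothLib.ExtZero GrothLib.Constructible

noncomputable section

namespace GrothLib.GalCd

section Injective

variable {X : Scheme.{u}}

instance preservesMonomorphisms_invE : (E X).inverse.PreservesMonomorphisms := inferInstance

theorem mono_nsmul_ZV (V : X.Etale) {N : ℕ} (hN : N ≠ 0) : Mono (N • 𝟙 (ZV V)) := by
  let P := yoneda.obj (up V) ⋙ AddCommGrpCat.free.{u + 1}
  haveI : Mono (N • 𝟙 P) := by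
    haveI : ∀ W, Mono ((N • 𝟙 P).app W) := fun W => by
      rw [NatTrans.app_nsmul, NatTrans.id_app, AddCommGrpCat.mono_iff_injective]
      intro a b h
      change N • (a : FreeAbelianGroup _) = N • (b : FreeAbelianGroup _) at h
      apply (FreeAbelianGroup.equivFinsupp _).injective
      have h' := congrArg (FreeAbelianGroup.equivFinsupp _) h
      rw [map_nsmul, map_nsmul] at h'
      exact (smul_right_injective _ hN) h'
    exact NatTrans.mono_of_mono_app _
  haveI : (presheafToSheaf (JS X) AddCommGrpCat.{u + 1}).Additive := inferInstance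
  haveI : (E X).inverse.Additive := inferInstance
  have e : N • 𝟙 (ZV V) = (E X).inverse.map ((presheafToSheaf (JS X) AddCommGrpCat.{u + 1}).map (N • 𝟙 P)) := by
    rw [Functor.map_nsmul, Functor.map_nsmul, CategoryTheory.Functor.map_id, CategoryTheory.Functor.map_id]
    rfl
  rw [e]
  infer_instance

variable {I : EtCoh.Ab X} [Injective I] {N : ℕ}

theorem exists_nsmul_eq (hN : N ≠ 0) {V : X.Etale} (s : EtCoh.sect I V) : ∃ z, N • z = s := by
  haveI := mono_nsmul_ZV V hN
  let φ := Injective.factorThru (ofSect s) (N • 𝟙 (ZV V))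
  refine ⟨φ.hom.app (op V) (gen V), ?_⟩
  have h : N • φ = ofSect s := by
    rw [← Injective.comp_factorThru (ofSect s) (N • 𝟙 (ZV V)), Preadditive.nsmul_comp, Category.id_comp]
  refine Eq.trans ?_ (ofSect_gen s)
  rw [← h]
  exact (map_nsmul (AddMonoidHom.mk' (fun a : ZV V ⟶ I => a.hom.app (op V) (gen V)) fun _ _ => rfl) N φ).symm

theorem epi_nsmul (hN : N ≠ 0) : Epi (N • 𝟙 I) := by
  haveI : Sheaf.IsLocallySurjective (N • 𝟙 I) := by
    refine ⟨fun {U} s => ?_⟩
    obtain ⟨z, hz⟩ := exists_nsmul_eq hN (V := U) s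
    refine GrothendieckTopology.superset_covering _ ?_ (GrothendieckTopology.top_mem _ _)
    intro V g _
    refine ⟨I.obj.map g.op z, ?_⟩
    have e := map_nsmul (AddMonoidHom.mk' (fun a : I ⟶ I => a.hom.app (op V) (I.obj.map g.op z)) fun _ _ => rfl) N (𝟙 I)
    refine e.trans ?_
    change N • I.obj.map g.op z = I.obj.map g.op s
    rw [← map_nsmul, hz]
  exact Sheaf.epi_of_isLocallySurjective _

theorem H_kernel_eq_zero (hN : N ≠ 0) (q : ℕ) (x : EtCoh.H X (kernel (N • 𝟙 I)) (q + 1)) : x = 0 := by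
  let T := ShortComplex.mk (kernel.ι (N • 𝟙 I)) (N • 𝟙 I) (kernel.condition _)
  haveI := epi_nsmul (I := I) hN
  have hT : T.ShortExact := { exact := T.exact_of_f_is_kernel (kernelIsKernel _) }
  haveI : Injective T.X₂ := ‹Injective I›
  obtain ⟨w, rfl⟩ := Ext.covariant_sequence_exact₁ _ hT x (Ext.eq_zero_of_injective _) rfl
  cases q with
  | succ q =>
    haveI : Injective T.X₃ := ‹Injective I›
    rw [Ext.eq_zero_of_injective w, Ext.zero_comp]
  | zero =>
    obtain ⟨ψ, rfl⟩ := (Ext.mk₀_bijective _ _).2 w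
    obtain ⟨z, hz⟩ := exists_nsmul_eq hN (evOne _ ψ : EtCoh.sect I (EtCoh.top X))
    obtain ⟨ψ', hψ'⟩ := (bijective_evOne I).2 z
    have h : ψ = ψ' ≫ T.g := by
      refine (bijective_evOne I).1 ?_
      rw [← hz, ← hψ', evOne_comp]
      exact (map_nsmul (AddMonoidHom.mk' (fun a : I ⟶ I => a.hom.app (op (EtCoh.top X)) (evOne I ψ')) fun _ _ => rfl) N (𝟙 I)).symm
    rw [h, ← Ext.mk₀_comp_mk₀, Ext.comp_assoc_of_second_deg_zero, hT.comp_extClass, Ext.comp_zero]

/-- A sheaf killed by `N` embeds into one killed by `N` with no higher cohomology. -/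
theorem exists_acyclic_hull (G : EtCoh.Ab X) (hN : N ≠ 0) (hG : N • 𝟙 G = 0) :
    ∃ T : ShortComplex (EtCoh.Ab X), T.ShortExact ∧ T.X₁ = G ∧ N • 𝟙 T.X₂ = 0 ∧ N • 𝟙 T.X₃ = 0 ∧
      ∀ (q : ℕ) (x : EtCoh.H X T.X₂ (q + 1)), x = 0 := by
  let J := Injective.under G
  have hι : Injective.ι G ≫ (N • 𝟙 J) = 0 := by
    rw [Preadditive.comp_nsmul, Category.comp_id, ← Category.id_comp (Injective.ι G), ← Preadditive.nsmul_comp,
      hG, zero_comp]
  let f : G ⟶ kernel (N • 𝟙 J) := kernel.lift _ (Injective.ι G) hι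
  haveI : Mono f := mono_of_mono_fac (kernel.lift_ι _ _ hι)
  have hA : N • 𝟙 (kernel (N • 𝟙 J)) = 0 := by
    rw [← cancel_mono (kernel.ι (N • 𝟙 J)), Preadditive.nsmul_comp, Category.id_comp, zero_comp]
    have := kernel.condition (N • 𝟙 J)
    rwa [Preadditive.comp_nsmul, Category.comp_id] at this
  refine ⟨ShortComplex.mk f (cokernel.π f) (cokernel.condition f),
    { exact := ShortComplex.exact_of_g_is_cokernel _ (cokernelIsCokernel _) }, rfl, hA, ?_, fun q x => H_kernel_eq_zero hN q x⟩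
  change N • 𝟙 (cokernel f) = 0
  rw [← cancel_epi (cokernel.π f), Preadditive.comp_nsmul, Category.comp_id, comp_zero,
    ← Category.id_comp (cokernel.π f), ← Preadditive.nsmul_comp, hA, zero_comp]

/-- Vanishing in one positive degree for all sheaves killed by `N` propagates upwards. -/
theorem H_eq_zero_of_killed (hN : N ≠ 0) (n : ℕ)
    (h : ∀ G : EtCoh.Ab X, N • 𝟙 G = 0 → ∀ y : EtCoh.H X G (n + 1), y = 0) :
    ∀ (r : ℕ) (G : EtCoh.Ab X), N • 𝟙 G = 0 → ∀ y : EtCoh.H X G (n + 1 + r), y = 0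
  | 0, G, hG, y => h G hG y
  | r + 1, G, hG, y => by
    obtain ⟨T, hT, rfl, -, hQ, hA⟩ := exists_acyclic_hull G hN hG
    obtain ⟨w, rfl⟩ := Ext.covariant_sequence_exact₁ _ hT y (hA _ _) rfl
    rw [H_eq_zero_of_killed hN n h r T.X₃ hQ w, Ext.zero_comp]

end Injective

variable {k Ω : Type u} [Field k] [Field Ω] [IsAlgClosed Ω]
  (ξ : Spec (CommRingCat.of Ω) ⟶ Spec (CommRingCat.of k))

theorem finite_stalk_extZero {U X : Scheme.{u}} (j : U ⟶ X) [Etale j] [IsFinite j] [EtShriek.JCont j]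
    {Ω' : Type u} [Field Ω'] [IsAlgClosed Ω'] (η' : Spec (CommRingCat.of Ω') ⟶ X) (M : AddCommGrpCat.{u + 1})
    [Finite M] : Finite ((EtCoh.stalk η').obj ((EtShriek.extZero j).obj (GrothLib.EtDer.CM M U))) := by
  haveI := finite_pts j η'
  haveI : Finite ↑((𝟭 AddCommGrpCat.{u + 1}).obj M) := ‹Finite M›
  haveI : ∀ v : Pts j η', Finite ((EtCoh.stalk v.1).obj (GrothLib.EtDer.CM M U)) := fun v =>
    Finite.of_surjective _ (GrothLib.LocConst.bijective_germ_const v.1 M).2
  refine Finite.of_injective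
    (fun y (v : Pts j η') => ev j v.1 v.2 _ ((EtCoh.stalk η').map ((toPush j).app (GrothLib.EtDer.CM M U)) y))
    fun a b h => ?_
  exact injective_stalk_toPush j η' _ (ev_jointly_injective j _ _ _ fun v hv => congrFun h ⟨v, hv⟩)

/-- An epimorphism onto a sheaf with finite stalk is covered by a sheaf with finite stalk. -/
theorem exists_finite_cover (p : ℕ) [Fact p.Prime] {P B : EtCoh.Ab (Spec (CommRingCat.of k))} (g : P ⟶ B) [Epi g]
    (hP : p • 𝟙 P = 0) (hB : Finite ((EtCoh.stalk ξ).obj B)) :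
    ∃ (H : EtCoh.Ab (Spec (CommRingCat.of k))) (φ : H ⟶ P), p • 𝟙 H = 0 ∧
      Finite ((EtCoh.stalk ξ).obj H) ∧ Epi (φ ≫ g) := by
  classical
  letI : Algebra k Ω := (Spec.preimage ξ).hom.toAlgebra
  choose y hy using surjective_stalk_of_epi ξ g
  choose V t s hs using fun b => exists_germ ξ P (y b)
  choose E₁ hfd hsep hE₁ using fun b => exists_field_bound (t b)
  haveI := hfd
  haveI := hsep
  let E₀ : IntermediateField k Ω := ⨆ b, E₁ b
  haveI : FiniteDimensional k E₀ := IntermediateField.finiteDimensional_iSup_of_finite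
  haveI : Algebra.IsSeparable k E₀ :=
    (le_separableClosure_iff k Ω E₀).1 (iSup_le fun b => le_separableClosure k Ω (E₁ b))
  choose m t' ht' hm using fun b => hE₁ b E₀ (le_iSup E₁ b)
  let a : (EtCoh.stalk ξ).obj B → EtCoh.sect P (VL k E₀) := fun b => P.obj.map (m b).op (s b)
  have ha : ∀ b, germ ξ P (t' b) (a b) = y b := fun b => by
    change germ ξ P (t' b) (P.obj.map (m b).op (s b)) = _
    rw [germ_map, hm, hs]
  let j := specMap k E₀
  haveI := etale_specMap k E₀
  haveI := isFinite_specMap k E₀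
  haveI := GrothLib.Constructible.jcont j
  let M := AddCommGrpCat.of ((EtCoh.stalk ξ).obj B → ZMod p)
  haveI : Fintype ((EtCoh.stalk ξ).obj B) := Fintype.ofFinite _
  let gE : (EtShriek.compEtale j).obj (EtCoh.top (Spec (CommRingCat.of E₀))) ⟶ VL k E₀ :=
    MorphismProperty.Over.homMk (𝟙 _) rfl
  let lin : (ZMod p) → (EtCoh.stalk ξ).obj B → (ZMod p →+ EtCoh.sect P (VL k E₀)) := fun _ b =>
    ZMod.lift p ⟨zmultiplesHom _ (a b), by
      change (p : ℤ) • a b = 0
      rw [natCast_zsmul]; exact GrothLib.EtTrace21.nsmul_sect hP _⟩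
  let φ₀ : ((EtCoh.stalk ξ).obj B → ZMod p) →+ EtCoh.sect P (VL k E₀) :=
    ∑ b, (lin 0 b).comp (Pi.evalAddMonoidHom (fun _ => ZMod p) b)
  have hφ₀ : ∀ b, φ₀ (Pi.single b 1) = a b := fun b => by
    simp only [φ₀, AddMonoidHom.finsetSum_apply, AddMonoidHom.comp_apply, Pi.evalAddMonoidHom_apply]
    rw [Finset.sum_eq_single b]
    · rw [Pi.single_eq_same, ← Int.cast_one, ZMod.lift_coe]
      exact one_zsmul _
    · intro b' _ hb'
      rw [Pi.single_eq_of_ne hb', map_zero]
    · exact fun h => absurd (Finset.mem_univ b) h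
  let g₀ : M ⟶ (EtCore.gsec (Spec (CommRingCat.of E₀))).obj ((EtShriek.restrAlong j).obj P) :=
    AddCommGrpCat.ofHom ((P.obj.map gE.op).hom.comp φ₀)
  let ψ : GrothLib.EtDer.CM M (Spec (CommRingCat.of E₀)) ⟶ (EtShriek.restrAlong j).obj P :=
    ((EtCore.constAdj (Spec (CommRingCat.of E₀))).homEquiv _ _).symm g₀
  let φ := ((EtShriek.extZeroAdj j).homEquiv _ _).symm ψ
  haveI : (EtCore.gsec (Spec (CommRingCat.of E₀))).Additive := by
    haveI : PreservesFiniteLimits (EtCore.gsec (Spec (CommRingCat.of E₀))) :=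
      ((EtCore.constAdj (Spec (CommRingCat.of E₀))).rightAdjoint_preservesLimits :
        PreservesLimitsOfSize.{0, 0} _).preservesFiniteLimits
    exact Functor.additive_of_preserves_binary_products _
  haveI : (EtShriek.restrAlong j).Additive := by
    haveI : PreservesFiniteLimits (EtShriek.restrAlong j) :=
      ((EtShriek.extZeroAdj j).rightAdjoint_preservesLimits : PreservesLimitsOfSize.{0, 0} _).preservesFiniteLimits
    exact Functor.additive_of_preserves_binary_products _
  haveI : (constantSheaf (Spec (CommRingCat.of E₀)).smallEtaleTopology AddCommGrpCat.{u + 1}).Additive :=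
    (EtCore.constAdj (Spec (CommRingCat.of E₀))).left_adjoint_additive
  haveI : (EtShriek.extZero j).Additive := (EtShriek.extZeroAdj j).left_adjoint_additive
  haveI : Finite M := inferInstanceAs (Finite ((EtCoh.stalk ξ).obj B → ZMod p))
  have hM : p • 𝟙 M = 0 := by
    refine AddCommGrpCat.hom_ext (AddMonoidHom.ext fun f => ?_)
    refine (map_nsmul (AddMonoidHom.mk' (fun q : M ⟶ M => q f) fun _ _ => rfl) p (𝟙 M)).trans ?_
    change p • f = (0 : (EtCoh.stalk ξ).obj B → ZMod p)
    funext b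
    simp
    rfl
  refine ⟨(EtShriek.extZero j).obj (GrothLib.EtDer.CM M _), φ, ?_, finite_stalk_extZero j ξ M, ?_⟩
  · have e := congrArg (fun q => (EtShriek.extZero j).map
      ((constantSheaf (Spec (CommRingCat.of E₀)).smallEtaleTopology AddCommGrpCat.{u + 1}).map q)) hM
    simpa [Functor.map_nsmul] using e
  · refine epi_of_stalk ξ _ fun b => ?_
    let tp := EtCoh.top (Spec (CommRingCat.of E₀))
    let c : EtCoh.sect (GrothLib.EtDer.CM M (Spec (CommRingCat.of E₀))) tp :=
      GrothLib.EtDer.cst M tp (Pi.single b 1 : (EtCoh.stalk ξ).obj B → ZMod p)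
    let z := ((EtShriek.extZeroAdj j).unit.app (GrothLib.EtDer.CM M _)).hom.app (op tp) c
    have hψc : ψ.hom.app (op tp) c = P.obj.map gE.op (a b) := by
      rw [← hφ₀]
      change ψ.hom.app _ (GrothLib.EtDer.cst M tp _) = g₀ _
      rw [← GrothLib.EtDer.cst_top]
      have e0 : g₀ = (EtCore.constAdj (Spec (CommRingCat.of E₀))).homEquiv _ _ ψ :=
        (Equiv.apply_symm_apply _ _).symm
      rw [e0, Adjunction.homEquiv_unit]
      rfl
    have hφz : φ.hom.app (op ((EtShriek.compEtale j).obj tp)) z = P.obj.map gE.op (a b) := by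
      rw [← hψc]
      have e : ψ = (EtShriek.extZeroAdj j).homEquiv _ _ φ := (Equiv.apply_symm_apply _ _).symm
      conv_rhs => rw [e, Adjunction.homEquiv_unit]
      rfl
    let t₀ : (Scheme.pointSmallEtale ξ).fiber.obj ((EtShriek.compEtale j).obj tp) :=
      Over.homMk (t' b).left (Over.w (t' b))
    have htt : (Scheme.pointSmallEtale ξ).fiber.map gE t₀ = t' b :=
      Over.OverMorphism.ext (Category.comp_id _)
    refine ⟨germ ξ _ t₀ z, ?_⟩
    rw [Functor.map_comp, ConcreteCategory.comp_apply, stalk_map_germ, hφz, germ_map, htt, ha, hy]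

/-- A class comes from a sheaf with finite stalk. -/
theorem exists_finite_preimage (p : ℕ) [Fact p.Prime] :
    ∀ (q : ℕ) (G : EtCoh.Ab (Spec (CommRingCat.of k))), p • 𝟙 G = 0 →
      ∀ x : EtCoh.H (Spec (CommRingCat.of k)) G q,
      ∃ (G' : EtCoh.Ab (Spec (CommRingCat.of k))) (i : G' ⟶ G) (y : EtCoh.H (Spec (CommRingCat.of k)) G' q),
        p • 𝟙 G' = 0 ∧ Finite ((EtCoh.stalk ξ).obj G') ∧ Ext.comp y (Ext.mk₀ i) (add_zero q) = x := by
  intro q
  induction q with
  | zero =>
    intro G hG x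
    obtain ⟨ψ, rfl⟩ := (Ext.mk₀_bijective _ _).2 x
    have hI : p • 𝟙 (Limits.image ψ) = 0 := by
      rw [← cancel_mono (Limits.image.ι ψ), Preadditive.nsmul_comp, Category.id_comp, zero_comp,
        ← Category.comp_id (Limits.image.ι ψ), ← Preadditive.comp_nsmul, hG, comp_zero]
    refine ⟨Limits.image ψ, Limits.image.ι ψ, Ext.mk₀ (Limits.factorThruImage ψ), hI, ?_, ?_⟩
    · obtain ⟨e₀, he₀⟩ : ∃ e₀ : (EtCoh.stalk ξ).obj (Z (Spec (CommRingCat.of k))),
          ∀ e, ∃ n : ℤ, n • e₀ = e := by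
        let b := GrothLib.LocConst.bijective_germ_const ξ (AddCommGrpCat.of (ULift.{u + 1} ℤ))
        refine ⟨((EtCore.constAdj (Spec (CommRingCat.of k))).unit.app (AddCommGrpCat.of (ULift.{u + 1} ℤ)) ≫
            germ ξ _ (GrothLib.LocConst.topFib ξ)) (⟨1⟩ : ULift.{u + 1} ℤ), fun e => ?_⟩
        obtain ⟨⟨n⟩, rfl⟩ := b.2 e
        refine ⟨n, (map_zsmul _ _ _).symm.trans (congrArg _ ?_)⟩
        exact ULift.ext _ _ (show n • (1 : ℤ) = n by simp)
      let g₁ := (EtCoh.stalk ξ).map (Limits.factorThruImage ψ) e₀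
      have hk : p • g₁ = 0 := by
        obtain ⟨W, t, s, hs⟩ := exists_germ ξ _ g₁
        rw [← hs, ← map_nsmul, GrothLib.EtTrace21.nsmul_sect hI, map_zero]
      refine Finite.of_surjective (fun i : ZMod p => i.val • g₁) fun w => ?_
      obtain ⟨e, rfl⟩ := surjective_stalk_of_epi ξ (Limits.factorThruImage ψ) w
      obtain ⟨n, rfl⟩ := he₀ e
      refine ⟨(n : ZMod p), ?_⟩
      change (n : ZMod p).val • g₁ = _
      rw [map_zsmul]
      change _ = n • g₁
      obtain ⟨r, hr⟩ : ∃ r : ℤ, n = ((n : ZMod p).val : ℤ) + (p : ℤ) * r :=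
        ⟨n / p, by rw [ZMod.val_intCast]; exact (Int.emod_add_mul_ediv n p).symm⟩
      conv_rhs => rw [hr, add_smul, natCast_zsmul, mul_comm, mul_smul, natCast_zsmul, hk, smul_zero, add_zero]
    · rw [Ext.mk₀_comp_mk₀, Limits.image.fac]
  | succ q ih =>
    intro G hG x
    obtain ⟨T, hT, rfl, hA, hQ, hA0⟩ := exists_acyclic_hull G (Fact.out : p.Prime).ne_zero hG
    obtain ⟨w, rfl⟩ := Ext.covariant_sequence_exact₁ _ hT x (hA0 _ _) rfl
    obtain ⟨B, b, w', hB, hfinB, rfl⟩ := ih T.X₃ hQ w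
    haveI := hT.epi_g
    have hP : p • 𝟙 (pullback T.g b) = 0 := by
      refine pullback.hom_ext ?_ ?_
      · rw [Preadditive.nsmul_comp, Category.id_comp, zero_comp, ← Category.comp_id (pullback.fst T.g b),
          ← Preadditive.comp_nsmul, hA, comp_zero]
      · rw [Preadditive.nsmul_comp, Category.id_comp, zero_comp, ← Category.comp_id (pullback.snd T.g b),
          ← Preadditive.comp_nsmul, hB, comp_zero]
    obtain ⟨H, φ, hH, hfinH, hepi⟩ := exists_finite_cover ξ p (pullback.snd T.g b) hP hfinB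
    let π := φ ≫ pullback.snd T.g b
    let S := ShortComplex.mk (kernel.ι π) π (kernel.condition π)
    haveI : Epi S.g := hepi
    have hS : S.ShortExact := { exact := S.exact_of_f_is_kernel (kernelIsKernel π) }
    haveI := hT.mono_f
    have h0 : (kernel.ι π ≫ φ ≫ pullback.fst T.g b) ≫ T.g = 0 := by
      rw [Category.assoc, Category.assoc, pullback.condition, ← Category.assoc φ, ← Category.assoc,
        kernel.condition, zero_comp]
    let i : kernel π ⟶ T.X₁ := hT.exact.lift (kernel.ι π ≫ φ ≫ pullback.fst T.g b) h0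
    let Φ : S ⟶ T :=
      { τ₁ := i
        τ₂ := φ ≫ pullback.fst T.g b
        τ₃ := b
        comm₁₂ := hT.exact.lift_f _ h0
        comm₂₃ := by
          change (φ ≫ pullback.fst T.g b) ≫ T.g = (φ ≫ pullback.snd T.g b) ≫ b
          rw [Category.assoc, Category.assoc, pullback.condition] }
    have key : hS.extClass.comp (Ext.mk₀ i) (add_zero 1) = (Ext.mk₀ b).comp hT.extClass (zero_add 1) :=
      ShortComplex.ShortExact.extClass_naturality hS hT Φ
    refine ⟨kernel π, i, w'.comp hS.extClass rfl, ?_, ?_, ?_⟩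
    · rw [← cancel_mono (kernel.ι π), Preadditive.nsmul_comp, Category.id_comp, zero_comp,
        ← Category.comp_id (kernel.ι π), ← Preadditive.comp_nsmul, hH, comp_zero]
    · exact Finite.of_injective _
        ((AddCommGrpCat.mono_iff_injective _).1 ((EtCoh.stalk ξ).map_mono (kernel.ι π)))
    · rw [Ext.comp_assoc_of_third_deg_zero, key, Ext.comp_assoc_of_second_deg_zero]

end GrothLib.GalCd
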